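import Groth.Agent.H14.ModDesc.Section

/-!
A section of a banded gerbe identifies twisted quasi-coherent modules with those on the base.
-/

set_option autoImplicit false
set_option backward.isDefEq.respectTransparency false
set_option backward.isDefEq.respectTransparency.types false
set_option linter.style.haveILetI false

universe u

open CategoryTheory CategoryTheory.Limits AlgebraicGeometry Opposite
open Groth.Agent.Lib.AlgStack

namespace Groth.Agent.H14.ModDesc.Triv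

variable {S : Scheme.{u}} {X : Over S} {𝒳 : AlgSt.Cat S} {π : 𝒳 ⥤ᵇ AlgSt.ofSch X} {σ : AlgSt.ofSch X ⥤ᵇ 𝒳}
  {A : (Over S)ᵒᵖ ⥤ GrpCat.{u}} {ι : TwSh.BandHom 𝒳 A} (χ : A ⟶ TwSh.GmPsh S)
  (hfib : FibCat.IsFibGrpd 𝒳.p) (hπ : TwSh.IsBandedGerbe (QuotSh.J Scheme.fppfPrecoverage S) π ι)
  (e : BasedFunctor.comp σ π ≅ BasedFunctor.id (AlgSt.ofSch X))

theorem unPsiMap_psiMap {M N : StMod.Mod (AlgSt.ofSch X)}
    (u : StMod.Mod.comap (BasedFunctor.comp (incl π σ) π) M ⟶ StMod.Mod.comap (BasedFunctor.comp (incl π σ) π) N) :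
    unPsiMap σ χ hfib hπ (psiMap σ χ hfib hπ u) = u := rfl

theorem unPsiMap_comp {L M N : StMod.Mod (AlgSt.ofSch X)} (a : psi σ χ hfib hπ L ⟶ psi σ χ hfib hπ M)
    (b : psi σ χ hfib hπ M ⟶ psi σ χ hfib hπ N) :
    unPsiMap σ χ hfib hπ (a ≫ b) = unPsiMap σ χ hfib hπ a ≫ unPsiMap σ χ hfib hπ b := rfl

theorem unPsiMap_id (M : StMod.Mod (AlgSt.ofSch X)) : unPsiMap σ χ hfib hπ (𝟙 (psi σ χ hfib hπ M)) = 𝟙 _ := rfl

include χ hfib hπ e

theorem exists_iso_of_comap {M N : StMod.QCoh (AlgSt.ofSch X)}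
    (k : psi σ χ hfib hπ M.obj ≅ psi σ χ hfib hπ N.obj) : Nonempty (M ≅ N) := by
  let P := BasedFunctor.comp (incl π σ) π
  let HM := hyp_proj hfib hπ e M
  let HN := hyp_proj hfib hπ e N
  let f := preimageHom HN (unPsiMap σ χ hfib hπ k.hom)
  let g := preimageHom HM (unPsiMap σ χ hfib hπ k.inv)
  have hf : StMod.Mod.comapMap P f = unPsiMap σ χ hfib hπ k.hom := comapMap_preimageHom HN _
  have hg : StMod.Mod.comapMap P g = unPsiMap σ χ hfib hπ k.inv := comapMap_preimageHom HM _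
  refine ⟨ObjectProperty.isoMk _ ⟨f, g, comapMap_injective HM ?_, comapMap_injective HN ?_⟩⟩
  · refine ((StMod.comapFunctor P).map_comp f g).trans (Eq.trans ?_ ((StMod.comapFunctor P).map_id M.obj).symm)
    show StMod.Mod.comapMap P f ≫ StMod.Mod.comapMap P g = _
    rw [hf, hg, ← unPsiMap_comp, k.hom_inv_id]
    rfl
  · refine ((StMod.comapFunctor P).map_comp g f).trans (Eq.trans ?_ ((StMod.comapFunctor P).map_id N.obj).symm)
    show StMod.Mod.comapMap P g ≫ StMod.Mod.comapMap P f = _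
    rw [hf, hg, ← unPsiMap_comp, k.inv_hom_id]
    rfl

theorem faithful {F G : StMod.QCoh 𝒳} (hF : TwSh.IsTwisted F.obj ι χ 1) (hG : TwSh.IsTwisted G.obj ι χ 1)
    {v v' : F.obj ⟶ G.obj} (h : StMod.Mod.comapMap σ v = StMod.Mod.comapMap σ v') : v = v' := by
  refine comapMap_injective (hyp_incl hfib hπ e ((StMod.comapQ (incl π σ)).obj G)) ?_
  rw [← cancel_epi (eps σ χ hfib hπ F hF).hom, ← eps_natural σ χ hfib hπ F G hF hG v,
    ← eps_natural σ χ hfib hπ F G hF hG v', h]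

theorem full {F G : StMod.QCoh 𝒳} (hF : TwSh.IsTwisted F.obj ι χ 1) (hG : TwSh.IsTwisted G.obj ι χ 1)
    (u : StMod.Mod.comap σ F.obj ⟶ StMod.Mod.comap σ G.obj) :
    ∃ v : F.obj ⟶ G.obj, StMod.Mod.comapMap σ v = u := by
  let HI := hyp_incl hfib hπ e ((StMod.comapQ (incl π σ)).obj G)
  let w := (eps σ χ hfib hπ F hF).inv ≫
    psiMap σ χ hfib hπ (StMod.Mod.comapMap (BasedFunctor.comp (incl π σ) π) u) ≫ (eps σ χ hfib hπ G hG).hom
  refine ⟨preimageHom HI w,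
    comapMap_injective (G' := (StMod.comapQ σ).obj G) (G := (StMod.comapQ σ).obj F)
      (hyp_proj hfib hπ e ((StMod.comapQ σ).obj G)) ?_⟩
  have h := eps_natural σ χ hfib hπ F G hF hG (preimageHom HI w)
  rw [comapMap_preimageHom HI w] at h
  simp only [w, Iso.hom_inv_id_assoc, cancel_mono] at h
  exact congrArg (unPsiMap σ χ hfib hπ) h

theorem essSurj (M : StMod.QCoh (AlgSt.ofSch X)) :
    ∃ F : StMod.QCoh 𝒳, TwSh.IsTwisted F.obj ι χ 1 ∧ Nonempty ((StMod.comapQ σ).obj F ≅ M) := by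
  let ΨM : StMod.QCoh (cat π σ) := ⟨psi σ χ hfib hπ M.obj, isQCoh_psi σ χ hfib hπ M.property⟩
  let H := hyp_incl hfib hπ e ΨM
  have htw : TwSh.IsTwisted (push H) ι χ 1 :=
    isTwisted_push σ χ ΨM H fun φ t hφ s => psi_inert σ χ hfib hπ M.obj φ t hφ s
  exact ⟨pushQ H, htw, exists_iso_of_comap χ hfib hπ e
    (M := (StMod.comapQ σ).obj (pushQ H)) (N := M)
    ((eps σ χ hfib hπ (pushQ H) htw).trans (counitIso H))⟩

end Groth.Agent.H14.ModDesc.Triv
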