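import Groth.Agent.H14.ModDesc.Unit

/-!
Inverse image along a locally surjective functor is fully faithful; descending modules are inverse images.
-/

set_option autoImplicit false
set_option backward.isDefEq.respectTransparency false
set_option backward.isDefEq.respectTransparency.types false
set_option linter.style.haveILetI false

universe u

open CategoryTheory CategoryTheory.Limits AlgebraicGeometry Opposite TopologicalSpace
open StMod (sch bmap)

namespace Groth.Agent.H14.ModDesc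

variable {S : Scheme.{u}} {𝒳 𝒴 : AlgSt.Cat S} {π : 𝒳 ⥤ᵇ 𝒴}

/-- Morphisms into a quasi-coherent module agreeing on affine objects are equal. -/
theorem hom_ext_affine (hfib : FibCat.IsFibGrpd 𝒳.p) {F F' : StMod.Mod 𝒳} (hF' : StMod.isQCoh 𝒳 F') {u v : F ⟶ F'}
    (h : ∀ x, IsAffine (sch 𝒳 x) → ∀ s, (u.app x).app ⊤ s = (v.app x).app ⊤ s) : u = v := by
  refine StMod.Mod.hom_ext fun x => Scheme.Modules.hom_ext _ _ fun U => ?_
  ext s
  refine TopCat.Presheaf.section_ext (C := Ab) ⟨(F'.obj x).presheaf, (F'.obj x).isSheaf⟩ U _ _ fun z hz => ?_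
  obtain ⟨V, hV, hzV, hVU⟩ := exists_isAffineOpen_mem_and_subset (X := sch 𝒳 x) (x := z) (U := U) hz
  have : IsAffine V.toScheme := hV
  let f : Over.mk (V.ι ≫ (𝒳.p.obj x).hom) ⟶ 𝒳.p.obj x := Over.homMk V.ι
  obtain ⟨x', φ, hφ⟩ := hfib.exists_lift f
  have e : 𝒳.p.obj x' = Over.mk (V.ι ≫ (𝒳.p.obj x).hom) := IsHomLift.domain_eq 𝒳.p f φ
  have eb : bmap 𝒳 φ = (eqToHom e).left ≫ V.ι := by
    have eg : 𝒳.p.map φ = eqToHom e ≫ f := by simpa using IsHomLift.fac' 𝒳.p f φ
    exact congrArg CommaMorphism.left eg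
  haveI : IsIso (eqToHom e).left := inferInstanceAs (IsIso ((Over.forget S).map (eqToHom e)))
  haveI : IsAffine (sch 𝒳 x') := by
    show IsAffine (𝒳.p.obj x').left
    rw [e]
    exact hV
  have hle : ⊤ ≤ bmap 𝒳 φ ⁻¹ᵁ V := fun w _ => by
    show bmap 𝒳 φ w ∈ V
    rw [eb]
    exact ((eqToHom e).left w).2
  have hring : Function.Bijective ((bmap 𝒳 φ).appLE V ⊤ hle).hom := by
    have h0 : (⊤ : V.toScheme.Opens) ≤ V.ι ⁻¹ᵁ V := by rw [Scheme.Opens.ι_preimage_self]
    have h1 : ⊤ ≤ ((eqToHom e).left ≫ V.ι) ⁻¹ᵁ V := by rw [← eb]; exact hle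
    rw [appLE_congr_hom eb hle h1, appLE_comp_top _ _ h0 h1]
    exact (bijective_appTop _).comp (by
      show Function.Bijective (V.ι.appLE V ⊤ h0).hom
      rw [← Datum.toGlobal_eq]
      exact Datum.bijective_toGlobal V)
  have key : (u.app x).app V (F.obj x |>.presheaf.map (homOfLE hVU).op s) =
      (v.app x).app V (F.obj x |>.presheaf.map (homOfLE hVU).op s) := by
    apply ((isBC_mapU hF' φ hV hle).bijective hring).injective
    rw [mapU_app, mapU_app, h x' inferInstance]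
  have nat : ∀ w : F ⟶ F', (F'.obj x).presheaf.map (homOfLE hVU).op ((w.app x).app U s) =
      (w.app x).app V ((F.obj x).presheaf.map (homOfLE hVU).op s) :=
    fun w => ((w.app x).mapPresheaf.naturality_apply (homOfLE hVU).op s).symm
  show (F'.obj x).presheaf.germ U z hz _ = (F'.obj x).presheaf.germ U z hz _
  rw [← TopCat.Presheaf.germ_res_apply (F'.obj x).presheaf (homOfLE hVU) z hzV,
    ← TopCat.Presheaf.germ_res_apply (F'.obj x).presheaf (homOfLE hVU) z hzV ((v.app x).app U s)]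
  exact congrArg _ ((nat u).trans (key.trans (nat v).symm))

theorem comapMap_injective {G G' : StMod.QCoh 𝒴} (H : Hyp π ((StMod.comapQ π).obj G')) {v v' : G.obj ⟶ G'.obj}
    (h : StMod.Mod.comapMap π v = StMod.Mod.comapMap π v') : v = v' := by
  refine StMod.Mod.hom_ext fun y => Scheme.Modules.hom_ext _ _ fun U => ?_
  ext s
  apply toFam_injective H y U
  rw [← toFam_unit_eq, ← toFam_unit_eq, h]

theorem comapMap_preimageHom {G G' : StMod.QCoh 𝒴} (H : Hyp π ((StMod.comapQ π).obj G'))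
    (u : StMod.Mod.comap π G.obj ⟶ StMod.Mod.comap π G'.obj) :
    StMod.Mod.comapMap π (preimageHom H u) = u := by
  refine hom_ext_affine H.fibX (StMod.isQCoh_comap G'.property) fun x hx t => ?_
  obtain ⟨s, rfl⟩ := (castTop_bijective (StMod.sch_obj_eq π x) _).surjective t
  show (StMod.castHom _ ((preimageHom H u).app (π.obj x))).app ⊤ (castTop _ _ s) = _
  rw [castTop_castHom]
  let l : Lift π (π.obj x) := ⟨x, 𝟙 _, hx⟩
  have hl : ⊤ ≤ liftB π (π.obj x) l ⁻¹ᵁ ⊤ := fun _ _ => trivial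
  have hr : Set.range (liftB π (π.obj x) l) ⊆ Set.range (⊤ : (sch 𝒴 (π.obj x)).Opens).ι := by
    rintro _ ⟨z, rfl⟩
    rw [Scheme.Opens.range_ι]
    trivial
  have hmap : π.map (𝟙 x) = l.u := π.toFunctor.map_id x
  have e := congrArg (fun f : (datum π (π.obj x) H).Fam (⊤ : (sch 𝒴 (π.obj x)).Opens).ι =>
      f.1 l ⟨IsOpenImmersion.lift _ _ hr, IsOpenImmersion.lift_fac _ _ _⟩)
    (toFam_preimageApp H u (π.obj x) ⊤ s)
  change valAt G'.obj ⊤ l hl ((preimageApp H u (π.obj x)).app ⊤ s) = (u.app x).app ⊤ (valAt G.obj ⊤ l hl s) at e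
  rw [valAt_self G'.obj l (𝟙 x) hmap hl, valAt_self G.obj l (𝟙 x) hmap hl, StMod.Mod.mapTop_id,
    StMod.Mod.mapTop_id] at e
  exact e

section Counit

variable {F : StMod.QCoh 𝒳} (H : Hyp π F)

/-- A module as a module on its own affine objects over an object. -/
noncomputable def selfPt (hfib : FibCat.IsFibGrpd 𝒳.p) (x : 𝒳.obj) :
    Datum.Pt (datum (BasedFunctor.id 𝒳) x (Hyp.id hfib F)) (F.obj.obj x) where
  val U l h := mapU F.obj l.u U (by
    have e : liftB (BasedFunctor.id 𝒳) x l = bmap 𝒳 l.u := congrArg CommaMorphism.left (StMod.baseOver_id l.x l.u)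
    exact e ▸ h)
  sl U l h r s := by
    refine (mapU_smul F.obj l.u U _ r s).trans ?_
    have e : liftB (BasedFunctor.id 𝒳) x l = bmap 𝒳 l.u := congrArg CommaMorphism.left (StMod.baseOver_id l.x l.u)
    rw [appLE_congr_hom e.symm _ h]
    rfl
  res_open := fun {U V} i l h h' s => mapU_res F.obj l.u i _ _ s
  res_lift := fun {U l' l g} hg h h' s => by
    have e : ∀ l : Lift (BasedFunctor.id 𝒳) x, liftB (BasedFunctor.id 𝒳) x l = bmap 𝒳 l.u :=
      fun l => congrArg CommaMorphism.left (StMod.baseOver_id l.x l.u)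
    have h'' : ⊤ ≤ bmap 𝒳 (hg.choose ≫ l.u) ⁻¹ᵁ U := by
      have h3 : hg.choose ≫ l.u = l'.u := hg.choose_spec.2
      exact h3.symm ▸ (e l' ▸ h')
    exact (mapU_comp F.obj hg.choose l.u U _ h'' s).trans (mapU_congr F.obj hg.choose_spec.2 U _ _ s)

theorem isIso_selfPt (hfib : FibCat.IsFibGrpd 𝒳.p) (x : 𝒳.obj) : IsIso (selfPt (F := F) hfib x).hom :=
  Datum.Pt.isIso_hom _ fun {U} l h hU => by
    have e : liftB (BasedFunctor.id 𝒳) x l = bmap 𝒳 l.u := congrArg CommaMorphism.left (StMod.baseOver_id l.x l.u)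
    exact (isBC_mapU (x' := l.x) F.property l.u hU (e ▸ h)).congr (appLE_congr_hom e.symm _ h) rfl

/-- Lifts of an object as lifts of its image. -/
noncomputable def selfMap (x : 𝒳.obj) :
    Datum.Map (datum (BasedFunctor.id 𝒳) x (Hyp.id H.fibX F)) (datum π (π.obj x) H)
      (eqToHom (StMod.sch_obj_eq π x).symm) where
  obj l := ⟨l.x, π.map l.u, l.aff⟩
  e l := Iso.refl _
  over l := by
    show 𝟙 _ ≫ (StMod.baseOver π l.x (π.map l.u)).left =
      (StMod.baseOver (BasedFunctor.id 𝒳) l.x l.u).left ≫ eqToHom _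
    have e1 : StMod.baseOver π l.x (π.map l.u) = StMod.baseOver π l.x (π.map l.u ≫ 𝟙 (π.obj x)) := by
      rw [Category.comp_id]
    rw [Category.id_comp, e1, ← StMod.map_comp_baseOver, StMod.baseOver_id, Over.comp_left]
    refine congrArg ((𝒳.p.map l.u).left ≫ ·) ?_
    show (eqToHom (π.w_obj x).symm ≫ 𝒴.p.map (𝟙 _)).left = _
    rw [CategoryTheory.Functor.map_id, Category.comp_id, Over.eqToHom_left]
  φ l := AddMonoidHom.id _
  sl l r m := by
    have e : (𝟙 (sch 𝒳 l.x) : sch 𝒳 l.x ⟶ sch 𝒳 l.x).appTop.hom r = r := by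
      rw [Scheme.Hom.id_appTop]
      rfl
    show (show Γ(sch 𝒳 l.x, ⊤) from r) • (show Γ(F.obj.obj l.x, ⊤) from m) =
      (𝟙 (sch 𝒳 l.x) : sch 𝒳 l.x ⟶ sch 𝒳 l.x).appTop.hom r • (show Γ(F.obj.obj l.x, ⊤) from m)
    rw [e]
  rel := fun {l₁ l₂ q} hq => by
    obtain ⟨φ, hb, hu⟩ := hq
    refine ⟨φ, ?_, ?_⟩
    · show bmap 𝒳 φ = 𝟙 _ ≫ q ≫ 𝟙 _
      rw [Category.id_comp]
      exact hb.trans (Category.comp_id q).symm
    · show π.map φ ≫ π.map l₂.u = π.map l₁.u
      rw [← π.toFunctor.map_comp]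
      exact congrArg (fun k => π.map k) hu
  comm := fun {l₁ l₂ q} hq x' => by
    have hu : π.map hq.choose ≫ π.map l₂.u = π.map l₁.u := by
      rw [← π.toFunctor.map_comp]
      exact congrArg (fun k => π.map k) hq.choose_spec.2
    have hq' : LiftRel (π := π) (y := π.obj x) (l' := ⟨l₁.x, π.map l₁.u, l₁.aff⟩)
        (l := ⟨l₂.x, π.map l₂.u, l₂.aff⟩) (𝟙 _ ≫ q ≫ 𝟙 _) :=
      ⟨hq.choose, by rw [Category.id_comp, hq.choose_spec.1]; exact (Category.comp_id q).symm, hu⟩
    refine H.mapTop_eq (l' := ⟨l₁.x, π.map l₁.u, l₁.aff⟩) (l := ⟨l₂.x, π.map l₂.u, l₂.aff⟩) (φ := hq.choose)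
      (φ' := hq'.choose) ?_ hu hq'.choose_spec.2 x'
    rw [hq.choose_spec.1, hq'.choose_spec.1, Category.id_comp]
    exact (Category.comp_id q).symm

/-- The comparison of the direct image with the module. -/
noncomputable def cmpHom (x : 𝒳.obj) :
    (push H).obj (π.obj x) ⟶ (Scheme.Modules.pushforward (eqToHom (StMod.sch_obj_eq π x).symm)).obj (F.obj.obj x) :=
  have := isIso_selfPt (F := F) H.fibX x
  Datum.descMap (selfMap H x) ≫ (Scheme.Modules.pushforward _).map (inv (selfPt (F := F) H.fibX x).hom)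

theorem toFam_cmpHom (x : 𝒳.obj) (V : (sch 𝒴 (π.obj x)).Opens) (t : Γ((push H).obj (π.obj x), V)) :
    (selfPt (F := F) H.fibX x).toFam (eqToHom (StMod.sch_obj_eq π x).symm ⁻¹ᵁ V) ((cmpHom H x).app V t) =
      Datum.famMap (selfMap H x) le_rfl ((datum π (π.obj x) H).secEquiv V t) := by
  have := isIso_selfPt (F := F) H.fibX x
  rw [← Datum.Pt.secEquiv_hom, ← Datum.secEquiv_descMap]
  refine congrArg _ ?_
  have e : cmpHom H x ≫ (Scheme.Modules.pushforward _).map (selfPt (F := F) H.fibX x).hom =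
      Datum.descMap (selfMap H x) := by
    rw [cmpHom, Category.assoc, ← Functor.map_comp, IsIso.inv_hom_id, CategoryTheory.Functor.map_id]
    exact Category.comp_id _
  exact congrArg (fun k : (push H).obj (π.obj x) ⟶ _ => k.app V t) e

theorem bijective_cmpHom (x : 𝒳.obj) (V : (sch 𝒴 (π.obj x)).Opens) (hV : IsAffineOpen V) :
    Function.Bijective ((cmpHom H x).app V) := by
  have := isIso_selfPt (F := F) H.fibX x
  have hd : Function.Bijective ((Datum.descMap (selfMap H x)).app V) := by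
    have := Datum.isQuasicoherent_descMod (datum π (π.obj x) H)
    have hW : IsAffineOpen (eqToHom (StMod.sch_obj_eq π x).symm ⁻¹ᵁ V) := hV.preimage_of_isIso _
    have hb := (isBC_of_isIso_adjoint _ (Datum.descMap (selfMap H x))
      (Datum.isIso_adjoint_descMap (selfMap H x) fun _ => Function.bijective_id) hV hW le_rfl).bijective (by
        show Function.Bijective ((eqToHom (StMod.sch_obj_eq π x).symm).appLE V _ le_rfl).hom
        rw [← Scheme.Hom.app_eq_appLE]
        exact ConcreteCategory.bijective_of_isIso _)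
    refine Eq.mp (congrArg Function.Bijective (funext fun t => ?_)) hb
    show (datum (BasedFunctor.id 𝒳) x (Hyp.id H.fibX F)).descMod.presheaf.map (𝟙 _) _ = _
    rw [CategoryTheory.Functor.map_id]
    rfl
  exact (ConcreteCategory.bijective_of_isIso ((inv (selfPt (F := F) H.fibX x).hom).app _)).comp hd

/-- The inverse image of the direct image. -/
noncomputable def counitIso : StMod.Mod.comap π (push H) ≅ F.obj :=
  have : ∀ x, IsIso (castOut (StMod.sch_obj_eq π x) (cmpHom H x)) := fun x =>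
    castOut_isIso _ _ (bijective_cmpHom H x)
  StMod.Mod.isoMk (fun x => @asIso _ _ _ _ (castOut (StMod.sch_obj_eq π x) (cmpHom H x)) (this x))
    fun x' x φ g hg => by
      refine castOut_comm (StMod.sch_obj_eq π x) (StMod.sch_obj_eq π x') (StMod.bmap_map_comm π φ hg)
        ((push H).map (π.map φ) rfl) (F.obj.map φ hg) (cmpHom H x) (cmpHom H x') fun V s => ?_
      subst hg
      have := isIso_selfPt (F := F) H.fibX x'
      apply (ConcreteCategory.bijective_of_isIso ((selfPt (F := F) H.fibX x').hom.app _)).injective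
      apply ((datum (BasedFunctor.id 𝒳) x' (Hyp.id H.fibX F)).secEquiv _).injective
      rw [Datum.Pt.secEquiv_hom, Datum.Pt.secEquiv_hom, Datum.Pt.toFam_res, toFam_cmpHom]
      have hp : (datum π (π.obj x') H).secEquiv _ (((push H).map (π.map φ) rfl).app V s) =
          Datum.famMap (pushMap H (π.map φ) rfl) le_rfl ((datum π (π.obj x) H).secEquiv V s) :=
        Datum.secEquiv_descMap (pushMap H (π.map φ) rfl) V s
      erw [hp]
      refine Datum.fam_ext fun l c hc => ?_
      let l' : Lift (BasedFunctor.id 𝒳) x := ⟨l.x, l.u ≫ φ, l.aff⟩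
      have el : liftB (BasedFunctor.id 𝒳) x l' = liftB (BasedFunctor.id 𝒳) x' l ≫ bmap 𝒳 φ := by
        show (StMod.baseOver (BasedFunctor.id 𝒳) l.x (l.u ≫ φ)).left = _
        rw [StMod.baseOver_comp]
        rfl
      let W := eqToHom (StMod.sch_obj_eq π x).symm ⁻¹ᵁ V
      have hW : ⊤ ≤ liftB (BasedFunctor.id 𝒳) x' l ⁻¹ᵁ (bmap 𝒳 φ ⁻¹ᵁ W) := Datum.Pt.le_preimage hc
      have hr : Set.range (liftB (BasedFunctor.id 𝒳) x l') ⊆ Set.range W.ι := by
        rintro _ ⟨z, rfl⟩
        rw [Scheme.Opens.range_ι, el]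
        exact hW (x := z) trivial
      have e' := congrArg (fun f : (datum (BasedFunctor.id 𝒳) x (Hyp.id H.fibX F)).Fam W.ι =>
        f.1 l' ⟨IsOpenImmersion.lift W.ι _ hr, IsOpenImmersion.lift_fac _ _ _⟩) (toFam_cmpHom H x V s)
      refine Eq.trans ?_ (Eq.trans e'.symm ?_)
      · exact lift_ext_open H (π.toFunctor.map_comp l.u φ).symm l.aff ((datum π (π.obj x) H).secEquiv V s) _ _
      · have e1 : liftB (BasedFunctor.id 𝒳) x' l = bmap 𝒳 l.u :=
          congrArg CommaMorphism.left (StMod.baseOver_id l.x l.u)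
        have hh : ⊤ ≤ bmap 𝒳 l.u ⁻¹ᵁ (bmap 𝒳 φ ⁻¹ᵁ W) := e1 ▸ hW
        have hh' : ⊤ ≤ bmap 𝒳 ((l.u : l.x ⟶ x') ≫ φ) ⁻¹ᵁ W := by
          rw [StMod.bmap_comp]
          exact hh
        refine ((mapU_of_le F.obj (x'' := l.x) l.u φ W le_rfl hh hh' ((cmpHom H x).app V s)).symm.trans ?_ :)
        refine congrArg (mapU F.obj l.u _ _) ?_
        show (F.obj.obj x').presheaf.map (𝟙 _) _ = _
        rw [CategoryTheory.Functor.map_id]
        rfl

end Counit

end Groth.Agent.H14.ModDesc
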