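import Groth.Agent.H14.ModDesc.Stack

/-!
Direct image of quasi-coherent modules along a locally surjective functor of stacks.
-/

set_option autoImplicit false
set_option backward.isDefEq.respectTransparency false
set_option backward.isDefEq.respectTransparency.types false
set_option linter.style.haveILetI false

universe u

open CategoryTheory CategoryTheory.Limits AlgebraicGeometry Opposite TopologicalSpace
open StMod (sch bmap)

namespace Groth.Agent.H14.ModDesc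

variable {S : Scheme.{u}} {𝒳 𝒴 : AlgSt.Cat S} {π : 𝒳 ⥤ᵇ 𝒴} {F : StMod.QCoh 𝒳} (H : Hyp π F)

theorem lift_ext {y : 𝒴.obj} {x : 𝒳.obj} {u u' : π.obj x ⟶ y} (h : u = u') (a : IsAffine (sch 𝒳 x))
    {W : Scheme.{u}} {k : W ⟶ sch 𝒴 y} (s : (datum π y H).Fam k) {c c' : sch 𝒳 x ⟶ W} (hcc : c = c')
    (hc : c ≫ k = liftB π y ⟨x, u, a⟩) (hc' : c' ≫ k = liftB π y ⟨x, u', a⟩) :
    (s.1 (⟨x, u, a⟩ : Lift π y) ⟨c, hc⟩ : Γ(F.obj.obj x, ⊤)) = s.1 (⟨x, u', a⟩ : Lift π y) ⟨c', hc'⟩ := by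
  subst h hcc
  rfl

theorem lift_ext_open {y : 𝒴.obj} {x : 𝒳.obj} {u u' : π.obj x ⟶ y} (h : u = u') (a : IsAffine (sch 𝒳 x))
    {V : (sch 𝒴 y).Opens} (s : (datum π y H).Fam V.ι) (c : {c // c ≫ V.ι = liftB π y ⟨x, u, a⟩})
    (c' : {c // c ≫ V.ι = liftB π y ⟨x, u', a⟩}) :
    (s.1 (⟨x, u, a⟩ : Lift π y) c : Γ(F.obj.obj x, ⊤)) = s.1 (⟨x, u', a⟩ : Lift π y) c' := by
  subst h
  obtain rfl : c = c' := Subtype.ext ((cancel_mono V.ι).1 (c.2.trans c'.2.symm))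
  rfl

/-- Transport of lifts along a morphism of the base. -/
noncomputable def pushMap {y' y : 𝒴.obj} (h : y' ⟶ y) {g : sch 𝒴 y' ⟶ sch 𝒴 y} (hg : bmap 𝒴 h = g) :
    Datum.Map (datum π y' H) (datum π y H) g where
  obj l := ⟨l.x, l.u ≫ h, l.aff⟩
  e l := Iso.refl _
  over l := by
    show 𝟙 _ ≫ (StMod.baseOver π l.x (l.u ≫ h)).left = (StMod.baseOver π l.x l.u).left ≫ g
    rw [Category.id_comp, StMod.baseOver_comp, ← hg]
    rfl
  φ l := AddMonoidHom.id _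
  sl l r m := by
    have e : (𝟙 (sch 𝒳 l.x) : sch 𝒳 l.x ⟶ sch 𝒳 l.x).appTop.hom r = r := by
      rw [Scheme.Hom.id_appTop]
      rfl
    show (show Γ(sch 𝒳 l.x, ⊤) from r) • (show Γ(F.obj.obj l.x, ⊤) from m) =
      (𝟙 (sch 𝒳 l.x) : sch 𝒳 l.x ⟶ sch 𝒳 l.x).appTop.hom r • (show Γ(F.obj.obj l.x, ⊤) from m)
    rw [e]
  rel := fun {l₁ l₂ q} hq => by
    obtain ⟨φ, hb, hu⟩ := hq
    refine ⟨φ, ?_, ?_⟩
    · show bmap 𝒳 φ = 𝟙 _ ≫ q ≫ 𝟙 _
      rw [Category.id_comp]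
      exact hb.trans (Category.comp_id q).symm
    · show π.map φ ≫ l₂.u ≫ h = l₁.u ≫ h
      rw [← Category.assoc, hu]
  comm := fun {l₁ l₂ q} hq x => by
    have hq' : LiftRel (π := π) (y := y) (l' := ⟨l₁.x, l₁.u ≫ h, l₁.aff⟩) (l := ⟨l₂.x, l₂.u ≫ h, l₂.aff⟩)
        (𝟙 _ ≫ q ≫ 𝟙 _) := by
      obtain ⟨φ, hb, hu⟩ := hq
      exact ⟨φ, by rw [Category.id_comp, hb]; exact (Category.comp_id q).symm, by
        show π.map φ ≫ l₂.u ≫ h = l₁.u ≫ h
        rw [← Category.assoc, hu]⟩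
    refine H.mapTop_eq (l' := ⟨l₁.x, l₁.u ≫ h, l₁.aff⟩) (l := ⟨l₂.x, l₂.u ≫ h, l₂.aff⟩) (φ := hq.choose)
      (φ' := hq'.choose) ?_ ?_ hq'.choose_spec.2 x
    · rw [hq.choose_spec.1, hq'.choose_spec.1, Category.id_comp]
      exact (Category.comp_id q).symm
    · show π.map hq.choose ≫ l₂.u ≫ h = l₁.u ≫ h
      rw [← Category.assoc, hq.choose_spec.2]

/-- The direct image. -/
noncomputable def push : StMod.Mod 𝒴 where
  obj y := (datum π y H).descMod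
  map h _ hg := Datum.descMap (pushMap H h hg)
  map_id y := by
    apply Scheme.Modules.hom_ext
    intro U
    ext t
    apply ((datum π y H).secEquiv U).injective
    refine (Datum.secEquiv_descMap (pushMap H (𝟙 y) (StMod.bmap_id y)) U t).trans (Datum.fam_ext fun l c hc => ?_)
    refine lift_ext H (Category.comp_id _) l.aff _ ?_ _ hc
    show 𝟙 _ ≫ c ≫ (𝟙 (sch 𝒴 y) : sch 𝒴 y ⟶ sch 𝒴 y).resLE U U le_rfl = c
    rw [Category.id_comp, ← cancel_mono U.ι, Category.assoc, Scheme.Hom.resLE_comp_ι, Category.comp_id]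
  map_comp := fun {y'' y' y} ψ φ k g hk hg => by
    apply Scheme.Modules.hom_ext
    intro U
    ext t
    apply ((datum π y'' H).secEquiv ((k ≫ g) ⁻¹ᵁ U)).injective
    refine (Datum.secEquiv_descMap (pushMap H (ψ ≫ φ) _) U t).trans
      (Eq.trans ?_ (Datum.secEquiv_descMap (pushMap H ψ hk) (g ⁻¹ᵁ U) _).symm)
    erw [Datum.secEquiv_descMap (pushMap H φ hg) U t]
    refine Datum.fam_ext fun l c hc => ?_
    refine lift_ext H (Category.assoc _ _ _).symm l.aff _ ?_ _ _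
    show 𝟙 _ ≫ c ≫ (k ≫ g).resLE U ((k ≫ g) ⁻¹ᵁ U) le_rfl =
      𝟙 _ ≫ (𝟙 _ ≫ c ≫ k.resLE (g ⁻¹ᵁ U) ((k ≫ g) ⁻¹ᵁ U) le_rfl) ≫ g.resLE U (g ⁻¹ᵁ U) le_rfl
    simp only [Category.id_comp]
    rw [← cancel_mono U.ι]
    simp only [Category.assoc, Scheme.Hom.resLE_comp_ι, Scheme.Hom.resLE_comp_ι_assoc]

/-- The direct image is quasi-coherent. -/
theorem isQCoh_push : StMod.isQCoh 𝒴 (push H) :=
  ⟨fun y' y h g hg => Datum.isIso_adjoint_descMap (pushMap H h hg) fun _ => Function.bijective_id,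
    fun y => Datum.isQuasicoherent_descMod _⟩

/-- The direct image as a quasi-coherent module. -/
noncomputable def pushQ : StMod.QCoh 𝒴 := ⟨push H, isQCoh_push H⟩

end Groth.Agent.H14.ModDesc
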