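import Mathlib.AlgebraicGeometry.AffineScheme
import Mathlib.AlgebraicGeometry.Morphisms.UniversallyOpen
import Mathlib.AlgebraicGeometry.Morphisms.Flat
import Groth.Prelude.Def_AlgSp

/-!
Finite affine refinements of fppf covering sieves.
-/

set_option autoImplicit false
set_option backward.isDefEq.respectTransparency false
set_option backward.isDefEq.respectTransparency.types false
set_option linter.style.haveILetI false

universe u

open CategoryTheory CategoryTheory.Limits AlgebraicGeometry Opposite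

namespace Groth.Agent.H14.ModDesc

/-- An fppf covering sieve contains, over an affine open, a finite family of flat affine members covering it. -/
theorem exists_finite_affine {S : Scheme.{u}} {W : Over S} {R : Sieve W}
    (hR : R ∈ QuotSh.J Scheme.fppfPrecoverage S W) {V : W.left.Opens} (hV : IsAffineOpen V) :
    ∃ (n : ℕ) (Z : Fin n → Over S) (f : ∀ a, Z a ⟶ W), (∀ a, IsAffine (Z a).left) ∧ (∀ a, R (f a)) ∧
      (∀ a, Flat (f a).left) ∧ (∀ a z, (f a).left z ∈ V) ∧ ∀ x ∈ V, ∃ a, x ∈ Set.range (f a).left := by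
  classical
  rw [GrothendieckTopology.mem_over_iff] at hR
  haveI : MorphismProperty.IsMultiplicative @LocallyOfFinitePresentation.{u} :=
    { id_mem := fun X ↦ (inferInstance : LocallyOfFinitePresentation (𝟙 X)) }
  obtain ⟨𝒰, hle⟩ := Scheme.exists_cover_of_mem_grothendieckTopology
    (P := @Flat ⊓ @LocallyOfFinitePresentation) hR
  choose i z hz using fun x : V => 𝒰.exists_eq x.1
  have hA : ∀ x : V, ∃ A : (𝒰.X (i x)).Opens, IsAffineOpen A ∧ z x ∈ A ∧ A ≤ 𝒰.f (i x) ⁻¹ᵁ V := fun x => by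
    obtain ⟨A, hA, hzA, hle'⟩ := exists_isAffineOpen_mem_and_subset (X := 𝒰.X (i x)) (x := z x)
      (U := 𝒰.f (i x) ⁻¹ᵁ V) (show 𝒰.f (i x) (z x) ∈ V by rw [hz]; exact x.2)
    exact ⟨A, hA, hzA, hle'⟩
  choose A hA hzA hAle using hA
  obtain ⟨s, hs⟩ := hV.isCompact.elim_finite_subcover (fun x : V => 𝒰.f (i x) '' (A x : Set (𝒰.X (i x))))
    (fun x => by
      obtain ⟨hfl, hfp⟩ : Flat (𝒰.f (i x)) ∧ LocallyOfFinitePresentation (𝒰.f (i x)) := 𝒰.map_prop (i x)
      exact (𝒰.f (i x)).isOpenMap _ (A x).isOpen)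
    (fun y hy => Set.mem_iUnion.2 ⟨⟨y, hy⟩, z ⟨y, hy⟩, hzA _, hz _⟩)
  let m : Fin s.card → V := fun a => (s.equivFin.symm a).1
  refine ⟨s.card, fun a => Over.mk (((A (m a)).ι ≫ 𝒰.f (i (m a))) ≫ W.hom),
    fun a => Over.homMk ((A (m a)).ι ≫ 𝒰.f (i (m a))) rfl, fun a => hA (m a), fun a => ?_, fun a => ?_,
    fun a w => hAle (m a) w.2, fun x hx => ?_⟩
  · have h1 : Sieve.overEquiv W R (𝒰.f (i (m a))) := hle _ _ (Presieve.ofArrows.mk (i (m a)))
    exact (Sieve.overEquiv_iff _ _).1 ((Sieve.overEquiv W R).downward_closed h1 (A (m a)).ι)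
  · obtain ⟨hfl, hfp⟩ : Flat (𝒰.f (i (m a))) ∧ LocallyOfFinitePresentation (𝒰.f (i (m a))) := 𝒰.map_prop _
    show Flat ((A (m a)).ι ≫ 𝒰.f (i (m a)))
    infer_instance
  · obtain ⟨v, hvs, w, hw, hwx⟩ := Set.mem_iUnion₂.1 (hs hx)
    refine ⟨s.equivFin ⟨v, hvs⟩, ?_⟩
    have hm : m (s.equivFin ⟨v, hvs⟩) = v := by simp [m]
    show x ∈ Set.range ((A (m _)).ι ≫ 𝒰.f (i (m _)))
    rw [hm]
    exact ⟨⟨w, hw⟩, hwx⟩

end Groth.Agent.H14.ModDesc
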