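import Groth.Agent.H14.ModDesc.Pt
import Groth.Agent.H14.ModDesc.CovAff
import Groth.Agent.Lib.AlgStack.BasedBasic
import Groth.Prelude.Def_StMod
import Groth.Prelude.Def_StMod6
import Groth.Prelude.Def_StGerb
import Groth.Prelude.Def_StGerb2

/-!
The descent datum over an object of the base of a locally surjective functor of stacks.
-/

set_option autoImplicit false
set_option backward.isDefEq.respectTransparency false
set_option backward.isDefEq.respectTransparency.types false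
set_option linter.style.haveILetI false

universe u

open CategoryTheory CategoryTheory.Limits AlgebraicGeometry Opposite
open StMod (sch bmap)
open Groth.Agent.Lib.AlgStack

namespace Groth.Agent.H14.ModDesc

variable {S : Scheme.{u}} {𝒳 𝒴 : AlgSt.Cat S}

/-- Conditions making a quasi-coherent module on the source descend along `π`. -/
structure Hyp (π : 𝒳 ⥤ᵇ 𝒴) (F : StMod.QCoh 𝒳) : Prop where
  fibX : FibCat.IsFibGrpd 𝒳.p
  fibY : FibCat.IsFibGrpd 𝒴.p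
  locObj : Gerb.LocSurjObj (QuotSh.J Scheme.fppfPrecoverage S) π
  locHom : Gerb.LocSurjHom (QuotSh.J Scheme.fppfPrecoverage S) π
  dep : ∀ {x' x : 𝒳.obj} (φ φ' : x' ⟶ x), 𝒳.p.map φ = 𝒳.p.map φ' → π.map φ = π.map φ' →
    ∀ s, F.obj.mapTop φ s = F.obj.mapTop φ' s

/-- The trivial case. -/
theorem Hyp.id (h : FibCat.IsFibGrpd 𝒳.p) (F : StMod.QCoh 𝒳) : Hyp (BasedFunctor.id 𝒳) F where
  fibX := h
  fibY := h
  locObj y := ⟨⊤, GrothendieckTopology.top_mem _ _, fun V f _ => by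
    obtain ⟨x, φ, hφ⟩ := h.exists_lift f
    exact ⟨x, φ, hφ⟩⟩
  locHom x x' b hb := ⟨⊤, GrothendieckTopology.top_mem _ _, fun V f _ => by
    obtain ⟨x₀, φ, hφ⟩ := h.exists_lift f
    refine ⟨x₀, φ, φ ≫ b, hφ, ?_, rfl⟩
    have := hφ
    have := hb
    change 𝒳.p.IsHomLift (𝟙 (𝒳.p.obj x)) b at hb
    have h2 : 𝒳.p.IsHomLift (f ≫ 𝟙 (𝒳.p.obj x)) (φ ≫ b) := inferInstance
    simpa using h2⟩
  dep φ φ' _ h' s := by
    have : φ = φ' := h'
    rw [this]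

theorem sch_bmap_eq {x' x : 𝒳.obj} {φ φ' : x' ⟶ x} (h : bmap 𝒳 φ = bmap 𝒳 φ') : 𝒳.p.map φ = 𝒳.p.map φ' :=
  Over.OverMorphism.ext h

theorem isBC_mapTop (F : StMod.QCoh 𝒳) {x' x : 𝒳.obj} (φ : x' ⟶ x) [IsAffine (sch 𝒳 x')] [IsAffine (sch 𝒳 x)] :
    IsBC (bmap 𝒳 φ).appTop.hom
      { toFun := F.obj.mapTop φ, map_zero' := F.obj.mapTop_zero φ, map_add' := F.obj.mapTop_add φ } := by
  have : (F.obj.obj x).IsQuasicoherent := F.property.2 x
  refine (isBC_of_isIso_adjoint (bmap 𝒳 φ) (F.obj.map φ rfl) (F.property.1 φ rfl) (isAffineOpen_top _)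
    (isAffineOpen_top _) le_top).congr ?_ ?_
  · rw [Scheme.Hom.appTop, Scheme.Hom.app_eq_appLE]
    rfl
  · refine AddMonoidHom.ext fun s => ?_
    show (F.obj.obj x').presheaf.map (homOfLE _).op ((F.obj.map φ rfl).app ⊤ s) = F.obj.mapTop φ s
    rw [show (homOfLE (le_top : (⊤ : (sch 𝒳 x').Opens) ≤ ⊤)).op = 𝟙 _ from Quiver.Hom.unop_inj (Subsingleton.elim _ _)]
    erw [CategoryTheory.Functor.map_id]
    rfl

variable (π : 𝒳 ⥤ᵇ 𝒴) (F : StMod.QCoh 𝒳)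

/-- An affine lift of an object of the base. -/
structure Lift (y : 𝒴.obj) where
  /-- the object upstairs -/
  x : 𝒳.obj
  /-- the map to the given object -/
  u : π.obj x ⟶ y
  aff : IsAffine (sch 𝒳 x)

attribute [instance] Lift.aff

variable {π F} {y : 𝒴.obj}

/-- Morphisms of schemes coming from morphisms of lifts. -/
def LiftRel {l' l : Lift π y} (g : sch 𝒳 l'.x ⟶ sch 𝒳 l.x) : Prop :=
  ∃ φ : l'.x ⟶ l.x, bmap 𝒳 φ = g ∧ π.map φ ≫ l.u = l'.u

theorem Hyp.mapTop_eq (H : Hyp π F) {l' l : Lift π y} {φ φ' : l'.x ⟶ l.x} (hb : bmap 𝒳 φ = bmap 𝒳 φ')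
    (h : π.map φ ≫ l.u = l'.u) (h' : π.map φ' ≫ l.u = l'.u) (s : Γ(F.obj.obj l.x, ⊤)) :
    F.obj.mapTop φ s = F.obj.mapTop φ' s := by
  refine H.dep φ φ' (sch_bmap_eq hb) (BasedBasic.hom_eq_of_comp_eq H.fibY l.u ?_ (h.trans h'.symm)) s
  have e : ∀ ψ : l'.x ⟶ l.x, 𝒴.p.map (π.map ψ) =
      eqToHom (π.w_obj l'.x) ≫ 𝒳.p.map ψ ≫ eqToHom (π.w_obj l.x).symm :=
    fun ψ => IsHomLift.fac' 𝒴.p (𝒳.p.map ψ) (π.map ψ)
  rw [e, e, sch_bmap_eq hb]

/-- A lift along a morphism to the scheme under a lift. -/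
theorem Hyp.exists_pull (H : Hyp π F) (x : 𝒳.obj) {P : Scheme.{u}} (p : P ⟶ sch 𝒳 x) :
    ∃ (x' : 𝒳.obj) (φ : x' ⟶ x) (e : sch 𝒳 x' ≅ P), bmap 𝒳 φ = e.hom ≫ p := by
  let f : Over.mk (p ≫ (𝒳.p.obj x).hom) ⟶ 𝒳.p.obj x := Over.homMk p
  obtain ⟨x', φ, hφ⟩ := H.fibX.exists_lift f
  have e : 𝒳.p.obj x' = Over.mk (p ≫ (𝒳.p.obj x).hom) := IsHomLift.domain_eq 𝒳.p f φ
  have eg : 𝒳.p.map φ = eqToHom e ≫ f := by simpa using IsHomLift.fac' 𝒳.p f φ
  exact ⟨x', φ, (Over.forget S).mapIso (eqToIso e), congrArg CommaMorphism.left eg⟩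

variable (π y)

/-- The map from the scheme under a lift. -/
noncomputable abbrev liftB (l : Lift π y) : sch 𝒳 l.x ⟶ sch 𝒴 y := (StMod.baseOver π l.x l.u).left

variable {π y}

theorem LiftRel.over {l' l : Lift π y} {g : sch 𝒳 l'.x ⟶ sch 𝒳 l.x} (hg : LiftRel g) :
    g ≫ liftB π y l = liftB π y l' := by
  obtain ⟨φ, rfl, h⟩ := hg
  rw [liftB, StMod.bmap_comp_baseOver_left, h]

variable (π y)

/-- The descent datum over `y`. -/
noncomputable def datum (H : Hyp π F) : Datum.{u, u + 1} (sch 𝒴 y) where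
  Obj := Lift π y
  Z l := sch 𝒳 l.x
  isAffine l := l.aff
  b := liftB π y
  Rel := LiftRel
  rel_over := LiftRel.over
  rel_id l := ⟨𝟙 l.x, StMod.bmap_id _, by rw [π.toFunctor.map_id]; exact Category.id_comp _⟩
  rel_comp := fun {l'' l' l g' g} hg' hg => by
    obtain ⟨φ', rfl, h'⟩ := hg'
    obtain ⟨φ, rfl, h⟩ := hg
    exact ⟨φ' ≫ φ, StMod.bmap_comp _ _, by rw [π.toFunctor.map_comp, Category.assoc, h, h']⟩
  M l := Γ(F.obj.obj l.x, ⊤)
  res g hg :=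
    { toFun := F.obj.mapTop hg.choose
      map_zero' := F.obj.mapTop_zero _
      map_add' := F.obj.mapTop_add _ }
  res_id l x := by
    have hg : LiftRel (𝟙 (sch 𝒳 l.x)) (l' := l) (l := l) :=
      ⟨𝟙 l.x, StMod.bmap_id _, by rw [π.toFunctor.map_id]; exact Category.id_comp _⟩
    refine (H.mapTop_eq (φ' := 𝟙 l.x) ?_ hg.choose_spec.2 ?_ x).trans (StMod.Mod.mapTop_id _ _ _)
    · rw [hg.choose_spec.1, StMod.bmap_id]
    · rw [π.toFunctor.map_id]; exact Category.id_comp _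
  res_comp := fun {l'' l' l g' g} hg' hg x => by
    have hgg : LiftRel (g' ≫ g) (l' := l'') (l := l) := by
      obtain ⟨φ', rfl, h'⟩ := hg'
      obtain ⟨φ, rfl, h⟩ := hg
      exact ⟨φ' ≫ φ, StMod.bmap_comp _ _, by rw [π.toFunctor.map_comp, Category.assoc, h, h']⟩
    refine (H.mapTop_eq (φ' := hg'.choose ≫ hg.choose) ?_ hgg.choose_spec.2 ?_ x).trans (StMod.Mod.mapTop_comp _ _ _ _)
    · rw [hgg.choose_spec.1, StMod.bmap_comp, hg'.choose_spec.1, hg.choose_spec.1]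
    · rw [π.toFunctor.map_comp, Category.assoc, hg.choose_spec.2, hg'.choose_spec.2]
  bc := fun {l' l g} hg => (isBC_mapTop F hg.choose).congr (by rw [hg.choose_spec.1]) rfl
  pull l P _ p := by
    obtain ⟨x', φ, e, hφ⟩ := H.exists_pull l.x p
    exact ⟨⟨x', π.map φ ≫ l.u, IsAffine.of_isIso e.hom⟩, e, φ, hφ, rfl⟩
  factor := fun {E l' l g₁ g₂ g} h₁ h₂ hg => by
    obtain ⟨φ₁, rfl, e₁⟩ := h₁
    obtain ⟨φ₂, rfl, e₂⟩ := h₂
    have hgS : g ≫ (𝒳.p.obj l'.x).hom = (𝒳.p.obj E.x).hom := by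
      rw [← Over.w (𝒳.p.map φ₂), ← Over.w (𝒳.p.map φ₁), ← Category.assoc]
      exact congrArg (· ≫ (𝒳.p.obj l.x).hom) hg
    let g' : 𝒳.p.obj E.x ⟶ 𝒳.p.obj l'.x := Over.homMk g hgS
    have : 𝒳.p.IsHomLift (g' ≫ 𝒳.p.map φ₂) φ₁ := by
      rw [show g' ≫ 𝒳.p.map φ₂ = 𝒳.p.map φ₁ from Over.OverMorphism.ext hg]
      exact IsHomLift.map 𝒳.p φ₁
    obtain ⟨ψ, hψ, hψφ⟩ := BasedBasic.exists_lift_through H.fibX φ₂ φ₁ g'
    refine ⟨ψ, ?_, ?_⟩
    · have := IsHomLift.fac' 𝒳.p g' ψ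
      simp only [eqToHom_refl, Category.comp_id, Category.id_comp] at this
      exact congrArg CommaMorphism.left this
    · rw [← e₁, ← hψφ, π.toFunctor.map_comp, Category.assoc, e₂]
  refine' l₁ l₂ P _ p₁ p₂ hp := by
    obtain ⟨x₁, φ₁, e₁, hφ₁⟩ := H.exists_pull l₁.x p₁
    let W := 𝒳.p.obj x₁
    have hS₂ : (e₁.hom ≫ p₂) ≫ (𝒳.p.obj l₂.x).hom = W.hom := by
      rw [← Over.w (StMod.baseOver π l₂.x l₂.u), ← Over.w (𝒳.p.map φ₁), ← Over.w (StMod.baseOver π l₁.x l₁.u)]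
      show _ = bmap 𝒳 φ₁ ≫ _
      rw [hφ₁]
      simp only [Category.assoc]
      exact congrArg (e₁.hom ≫ ·) ((reassoc_of% hp) _).symm
    let f₂ : W ⟶ 𝒳.p.obj l₂.x := Over.homMk (e₁.hom ≫ p₂) hS₂
    obtain ⟨x₂, φ₂, hφ₂⟩ := H.fibX.exists_lift f₂
    have hx₂ : 𝒳.p.obj x₂ = W := IsHomLift.domain_eq 𝒳.p f₂ φ₂
    have hf₂ : 𝒳.p.map φ₂ = eqToHom hx₂ ≫ f₂ := by simpa using IsHomLift.fac' 𝒳.p f₂ φ₂
    let m₁ : π.obj x₁ ⟶ y := π.map φ₁ ≫ l₁.u
    let m₂ : π.obj x₂ ⟶ y := π.map φ₂ ≫ l₂.u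
    let g : 𝒴.p.obj (π.obj x₁) ⟶ 𝒴.p.obj (π.obj x₂) :=
      eqToHom ((π.w_obj x₁).trans (hx₂.symm.trans (π.w_obj x₂).symm))
    have hbase : g ≫ 𝒴.p.map m₂ = 𝒴.p.map m₁ := by
      have k₁ : 𝒳.p.map φ₁ ≫ StMod.baseOver π l₁.x l₁.u = f₂ ≫ StMod.baseOver π l₂.x l₂.u := by
        apply Over.OverMorphism.ext
        show bmap 𝒳 φ₁ ≫ liftB π y l₁ = (e₁.hom ≫ p₂) ≫ liftB π y l₂
        rw [hφ₁, Category.assoc, Category.assoc, hp]
      have k₂ : StMod.baseOver π x₁ m₁ = eqToHom hx₂.symm ≫ StMod.baseOver π x₂ m₂ := by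
        rw [← StMod.map_comp_baseOver, ← StMod.map_comp_baseOver, hf₂, k₁]
        simp
      simp only [StMod.baseOver] at k₂
      rw [← cancel_epi (eqToHom (π.w_obj x₁).symm), k₂]
      simp [g]
    have : 𝒴.p.IsHomLift (g ≫ 𝒴.p.map m₂) m₁ := by rw [hbase]; exact IsHomLift.map 𝒴.p m₁
    obtain ⟨β, hβ, hβm⟩ := BasedBasic.exists_lift_through H.fibY m₂ m₁ g
    have hβ' : 𝒴.p.IsHomLift (𝟙 (𝒳.p.obj x₁)) β := by
      have hm := IsHomLift.fac' 𝒴.p g β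
      refine IsHomLift.of_fac' 𝒴.p _ β (π.w_obj x₁) ((π.w_obj x₂).trans hx₂) ?_
      rw [hm]
      simp [g]
    obtain ⟨R, hR, hlift⟩ := H.locHom x₁ x₂ β hβ'
    have : IsAffine (sch 𝒳 x₁) := IsAffine.of_isIso e₁.hom
    have : IsAffine (𝒳.p.obj x₁).left := this
    obtain ⟨n, Z, f, hZ, hfR, hfl, -, hcov⟩ := exists_finite_affine hR (V := ⊤) (isAffineOpen_top _)
    choose x₀ φ ψ hφ hψ hφψ using fun a => hlift (f a) (hfR a)
    have hx₀ : ∀ a, 𝒳.p.obj (x₀ a) = Z a := fun a =>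
      have := hφ a
      IsHomLift.domain_eq 𝒳.p (f a) (φ a)
    have hbφ : ∀ a, 𝒳.p.map (φ a) = eqToHom (hx₀ a) ≫ f a := fun a => by
      have := hφ a
      simpa using IsHomLift.fac' 𝒳.p (f a) (φ a)
    have hbψ : ∀ a, 𝒳.p.map (ψ a) ≫ eqToHom hx₂ = eqToHom (hx₀ a) ≫ f a := fun a => by
      have := hψ a
      have h := IsHomLift.fac' 𝒳.p (f a) (ψ a)
      rw [h]
      simp
    have : ∀ a, IsAffine (sch 𝒳 (x₀ a)) := fun a => by
      have := hZ a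
      show IsAffine (𝒳.p.obj (x₀ a)).left
      rw [hx₀]
      infer_instance
    refine ⟨n, fun a => ⟨x₀ a, π.map (φ a) ≫ m₁, inferInstance⟩, fun a => bmap 𝒳 (φ a) ≫ e₁.hom,
      fun a => ?_, fun z => ?_, fun a => ⟨⟨φ a ≫ φ₁, ?_, ?_⟩, ⟨ψ a ≫ φ₂, ?_, ?_⟩⟩⟩
    · have := hfl a
      dsimp only
      rw [show bmap 𝒳 (φ a) = (eqToHom (hx₀ a)).left ≫ (f a).left from congrArg CommaMorphism.left (hbφ a)]
      haveI : IsIso (eqToHom (hx₀ a)).left := inferInstanceAs (IsIso ((Over.forget S).map (eqToHom (hx₀ a))))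
      infer_instance
    · obtain ⟨a, w, hw⟩ := hcov (e₁.inv z) trivial
      refine ⟨a, (eqToHom (hx₀ a).symm).left w, ?_⟩
      dsimp only
      rw [show bmap 𝒳 (φ a) = (eqToHom (hx₀ a)).left ≫ (f a).left from congrArg CommaMorphism.left (hbφ a)]
      have h1 : (eqToHom (hx₀ a).symm).left ≫ ((eqToHom (hx₀ a)).left ≫ (f a).left) ≫ e₁.hom =
          (f a).left ≫ e₁.hom := by
        rw [Category.assoc, ← Category.assoc (eqToHom (hx₀ a).symm).left, ← Over.comp_left, eqToHom_trans,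
          eqToHom_refl]
        exact Category.id_comp _
      refine (congrArg (fun q => q w) h1).trans ?_
      show e₁.hom ((f a).left w) = z
      rw [hw]
      show (e₁.inv ≫ e₁.hom) z = z
      rw [Iso.inv_hom_id]
      rfl
    · rw [StMod.bmap_comp, hφ₁]
      simp
    · rw [π.toFunctor.map_comp, Category.assoc]
    · rw [StMod.bmap_comp]
      have e₂ : bmap 𝒳 φ₂ = (eqToHom hx₂).left ≫ e₁.hom ≫ p₂ := congrArg CommaMorphism.left hf₂
      have e₃ : bmap 𝒳 (ψ a) ≫ (eqToHom hx₂).left = bmap 𝒳 (φ a) :=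
        congrArg CommaMorphism.left ((hbψ a).trans (hbφ a).symm)
      rw [e₂, ← Category.assoc, e₃, Category.assoc]
    · show π.map (ψ a ≫ φ₂) ≫ l₂.u = π.map (φ a) ≫ m₁
      rw [π.toFunctor.map_comp, ← hφψ a, Category.assoc, Category.assoc, hβm]
  cover := fun {V} hV => by
    obtain ⟨R, hR, hlift⟩ := H.locObj y
    obtain ⟨n, Z, f, hZ, hfR, hfl, hfV, hcov⟩ := exists_finite_affine hR hV
    choose x g hg using fun a => hlift (f a) (hfR a)
    have hx : ∀ a, 𝒳.p.obj (x a) = Z a := fun a =>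
      have := hg a
      (π.w_obj (x a)).symm.trans (IsHomLift.domain_eq 𝒴.p (f a) (g a))
    have hb : ∀ a, StMod.baseOver π (x a) (g a) = eqToHom (hx a) ≫ f a := fun a => by
      have := hg a
      rw [StMod.baseOver, IsHomLift.fac' 𝒴.p (f a) (g a)]
      simp
    have hiso : ∀ a, IsIso (eqToHom (hx a)).left := fun a =>
      inferInstanceAs (IsIso ((Over.forget S).map (eqToHom (hx a))))
    have haff : ∀ a, IsAffine (sch 𝒳 (x a)) := fun a => by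
      have := hZ a
      show IsAffine (𝒳.p.obj (x a)).left
      rw [hx]
      infer_instance
    let L : Fin n → Lift π y := fun a => ⟨x a, g a, haff a⟩
    have hL : ∀ a, liftB π y (L a) = (eqToHom (hx a)).left ≫ (f a).left := fun a => congrArg CommaMorphism.left (hb a)
    have hr : ∀ a, Set.range (liftB π y (L a)) ⊆ Set.range V.ι := fun a => by
      rintro _ ⟨w, rfl⟩
      rw [Scheme.Opens.range_ι, hL, Scheme.Hom.comp_apply]
      exact hfV a _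
    refine ⟨n, L, fun a => IsOpenImmersion.lift V.ι _ (hr a), fun a => IsOpenImmersion.lift_fac _ _ _,
      fun a => ?_, fun z => ?_⟩
    · have : Flat (IsOpenImmersion.lift V.ι _ (hr a) ≫ V.ι) := by
        rw [IsOpenImmersion.lift_fac, hL]
        have := hfl a
        have := hiso a
        infer_instance
      exact MorphismProperty.of_postcomp @Flat _ V.ι (show IsOpenImmersion V.ι by infer_instance) this
    · obtain ⟨a, w, hw⟩ := hcov (V.ι z) z.2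
      refine ⟨a, (eqToHom (hx a).symm).left w, V.ι.isOpenEmbedding.injective ?_⟩
      show (IsOpenImmersion.lift V.ι _ (hr a) ≫ V.ι) ((eqToHom (hx a).symm).left w) = _
      rw [IsOpenImmersion.lift_fac, hL, ← hw]
      have h1 : (eqToHom (hx a).symm).left ≫ (eqToHom (hx a)).left ≫ (f a).left = (f a).left := by
        rw [← Category.assoc, ← Over.comp_left, eqToHom_trans, eqToHom_refl]
        exact Category.id_comp _
      exact congrArg (fun q => q w) h1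

end Groth.Agent.H14.ModDesc
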