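import Mathlib.RingTheory.Flat.Basic
import Mathlib.RingTheory.Flat.Stability
import Mathlib.RingTheory.Ideal.Maximal
import Mathlib.LinearAlgebra.TensorProduct.Pi
import Mathlib.LinearAlgebra.TensorProduct.Quotient
import Mathlib.LinearAlgebra.TensorProduct.Tower
import Mathlib.RingTheory.Spectrum.Prime.Topology
import Mathlib.RingTheory.TensorProduct.Maps
import Groth.Agent.H14.GerbeDesc.Algebra

/-!
Semilinear maps exhibiting a module as a base change, and descent of elements along jointly surjective
flat families of algebras.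
-/

set_option autoImplicit false

universe u v w w'

open TensorProduct
open Groth.Agent.H14.GerbeDesc (JointlySurj)

namespace Groth.Agent.H14.ModDesc

section Basic

variable {A B : Type u} [CommRing A] [CommRing B]

/-- Semilinearity along a ring map, for an additive map. -/
def IsSL {M : Type v} {N : Type w} [AddCommGroup M] [Module A M] [AddCommGroup N] [Module B N]
    (φ : A →+* B) (g : M →+ N) : Prop :=
  ∀ a m, g (a • m) = φ a • g m

variable (A B) in
/-- The map out of the tensor product given by a semilinear map. -/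
noncomputable def bcMap [Algebra A B] {M : Type v} {N : Type w} [AddCommGroup M] [Module A M]
    [AddCommGroup N] [Module B N] (g : M →+ N) (hg : IsSL (algebraMap A B) g) : B ⊗[A] M →+ N :=
  TensorProduct.liftAddHom
    { toFun := fun b => (DistribSMul.toAddMonoidHom N b).comp g
      map_zero' := by ext m; simp
      map_add' := fun b b' => by ext m; simp [add_smul] }
    (fun a b m => by
      show (a • b) • g m = b • g (a • m)
      rw [hg, Algebra.smul_def, smul_smul, mul_comm])

@[simp] theorem bcMap_tmul [Algebra A B] {M : Type v} {N : Type w} [AddCommGroup M] [Module A M]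
    [AddCommGroup N] [Module B N] (g : M →+ N) (hg : IsSL (algebraMap A B) g) (b : B) (m : M) :
    bcMap A B g hg (b ⊗ₜ m) = b • g m := rfl

theorem bcMap_smul [Algebra A B] {M : Type v} {N : Type w} [AddCommGroup M] [Module A M]
    [AddCommGroup N] [Module B N] (g : M →+ N) (hg : IsSL (algebraMap A B) g) (b : B) (x : B ⊗[A] M) :
    bcMap A B g hg (b • x) = b • bcMap A B g hg x := by
  induction x with
  | zero => simp
  | tmul c m => rw [smul_tmul', bcMap_tmul, bcMap_tmul, smul_eq_mul, mul_smul]
  | add x y hx hy => rw [smul_add, map_add, map_add, hx, hy, smul_add]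

/-- `g` exhibits its target as the base change of its source along `φ`. -/
def IsBC {M : Type v} {N : Type w} [AddCommGroup M] [Module A M] [AddCommGroup N] [Module B N]
    (φ : A →+* B) (g : M →+ N) : Prop :=
  ∃ hg : IsSL φ g, @Function.Bijective _ _ (@bcMap A B _ _ φ.toAlgebra M N _ _ _ _ g hg)

theorem isBC_iff [Algebra A B] {M : Type v} {N : Type w} [AddCommGroup M] [Module A M]
    [AddCommGroup N] [Module B N] {φ : A →+* B} (hφ : φ = algebraMap A B) {g : M →+ N} :
    IsBC φ g ↔ ∃ hg : IsSL (algebraMap A B) g, Function.Bijective (bcMap A B g hg) := by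
  subst hφ
  have key : ∀ i j : Algebra A B, i = j →
      ((∃ hg : IsSL (@algebraMap A B _ _ i) g, Function.Bijective (@bcMap A B _ _ i M N _ _ _ _ g hg)) ↔
        ∃ hg : IsSL (@algebraMap A B _ _ j) g, Function.Bijective (@bcMap A B _ _ j M N _ _ _ _ g hg)) := by
    rintro i _ rfl
    exact Iff.rfl
  exact key (algebraMap A B).toAlgebra ‹Algebra A B› (Algebra.algebra_ext _ _ fun _ => rfl)

theorem IsBC.sl {M : Type v} {N : Type w} [AddCommGroup M] [Module A M] [AddCommGroup N] [Module B N]
    {φ : A →+* B} {g : M →+ N} (h : IsBC φ g) : IsSL φ g :=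
  h.1

theorem isBC_of_bijective {M : Type v} {N : Type w} [AddCommGroup M] [Module A M] [AddCommGroup N] [Module B N]
    {φ : A →+* B} (hφ : Function.Bijective φ) {g : M →+ N} (hg : IsSL φ g) (hb : Function.Bijective g) :
    IsBC φ g := by
  let := φ.toAlgebra
  refine (isBC_iff rfl).2 ⟨hg, ?_⟩
  have h1 : Function.Bijective (TensorProduct.mk A B M 1) := by
    constructor
    · intro m m' h
      apply hb.injective
      simpa using congrArg (bcMap A B g hg) h
    · intro x
      induction x with
      | zero => exact ⟨0, map_zero _⟩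
      | tmul b m =>
        obtain ⟨a, rfl⟩ := hφ.surjective b
        refine ⟨a • m, ?_⟩
        show (1 : B) ⊗ₜ[A] (a • m) = φ a ⊗ₜ[A] m
        rw [← smul_tmul, Algebra.smul_def, mul_one]
        rfl
      | add x y hx hy =>
        obtain ⟨a, rfl⟩ := hx
        obtain ⟨b, rfl⟩ := hy
        exact ⟨a + b, map_add _ _ _⟩
  refine (Function.Bijective.of_comp_iff _ h1).1 ?_
  convert hb
  ext m
  simp

theorem IsBC.bijective {M : Type v} {N : Type w} [AddCommGroup M] [Module A M] [AddCommGroup N] [Module B N]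
    {φ : A →+* B} {g : M →+ N} (h : IsBC φ g) (hφ : Function.Bijective φ) : Function.Bijective g := by
  let := φ.toAlgebra
  obtain ⟨hg, hb⟩ := (isBC_iff rfl).1 h
  have h1 : Function.Bijective (TensorProduct.lid A M) := (TensorProduct.lid A M).bijective
  let e : A ⊗[A] M ≃ₗ[A] B ⊗[A] M :=
    LinearEquiv.rTensor M (LinearEquiv.ofBijective (Algebra.linearMap A B) hφ)
  have : ⇑g = (bcMap A B g hg) ∘ e ∘ (TensorProduct.lid A M).symm := by
    ext m
    show g m = bcMap A B g hg (φ 1 ⊗ₜ m)
    rw [map_one, bcMap_tmul, one_smul]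
  rw [this]
  exact hb.comp (e.bijective.comp (TensorProduct.lid A M).symm.bijective)

theorem IsBC.congr {M : Type v} {N : Type w} [AddCommGroup M] [Module A M] [AddCommGroup N] [Module B N]
    {φ φ' : A →+* B} {g g' : M →+ N} (h : IsBC φ g) (hφ : φ = φ') (hg : g = g') : IsBC φ' g' := by
  subst hφ hg
  exact h

end Basic

section Trans

variable {A B C : Type u} [CommRing A] [CommRing B] [CommRing C]
  {M : Type v} {N : Type w} {P : Type w'} [AddCommGroup M] [Module A M] [AddCommGroup N] [Module B N]
  [AddCommGroup P] [Module C P] {φ : A →+* B} {ψ : B →+* C} {g : M →+ N} {h : N →+ P}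

theorem isBC_comp_iff (hg : IsBC φ g) : IsBC (ψ.comp φ) (h.comp g) ∧ IsSL ψ h ↔ IsBC ψ h := by
  let := φ.toAlgebra
  let := ψ.toAlgebra
  let := (ψ.comp φ).toAlgebra
  have : IsScalarTower A B C := IsScalarTower.of_algebraMap_eq fun _ => rfl
  obtain ⟨hg, hgb⟩ := (isBC_iff rfl).1 hg
  let e₀ : B ⊗[A] M ≃ₗ[B] N := LinearEquiv.ofBijective
    { bcMap A B g hg with map_smul' := bcMap_smul g hg } hgb
  let e : C ⊗[A] M ≃ₗ[B] C ⊗[B] N :=
    (TensorProduct.AlgebraTensorModule.cancelBaseChange A B B C M).symm ≪≫ₗ LinearEquiv.lTensor C e₀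
  have key : ∀ (hh : IsSL ψ h) (hhg : IsSL (ψ.comp φ) (h.comp g)) (x : C ⊗[A] M),
      bcMap B C h hh (e x) = bcMap A C (h.comp g) hhg x := by
    intro hh hhg x
    induction x with
    | zero => simp
    | tmul c m =>
      show bcMap B C h hh (c ⊗ₜ[B] ((1 : B) • g m)) = c • h (g m)
      rw [bcMap_tmul, one_smul]
    | add x y hx hy => rw [map_add, map_add, map_add, hx, hy]
  constructor
  · rintro ⟨hc, hh⟩
    obtain ⟨hhg, hb⟩ := (isBC_iff rfl).1 hc
    refine (isBC_iff rfl).2 ⟨hh, (Function.Bijective.of_comp_iff _ e.bijective).1 ?_⟩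
    convert hb using 1
    ext x
    exact key hh hhg x
  · intro hc
    obtain ⟨hh, hb⟩ := (isBC_iff rfl).1 hc
    have hhg : IsSL (ψ.comp φ) (h.comp g) := fun a m => by
      show h (g (a • m)) = ψ (φ a) • h (g m)
      rw [hg]
      exact hh _ _
    refine ⟨(isBC_iff rfl).2 ⟨hhg, ?_⟩, hh⟩
    convert hb.comp e.bijective using 1
    ext x
    exact (key hh hhg x).symm

theorem IsBC.comp (hg : IsBC φ g) (hh : IsBC ψ h) : IsBC (ψ.comp φ) (h.comp g) :=
  ((isBC_comp_iff hg).2 hh).1

theorem IsBC.of_comp (hg : IsBC φ g) (hh : IsSL ψ h) (hc : IsBC (ψ.comp φ) (h.comp g)) : IsBC ψ h :=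
  (isBC_comp_iff hg).1 ⟨hc, hh⟩

end Trans

section Pushout

variable {A B C D : Type u} [CommRing A] [CommRing B] [CommRing C] [CommRing D] [Algebra A B] [Algebra A C]
  [Algebra A D] {M : Type v} {N : Type w} [AddCommGroup M] [Module A M] [AddCommGroup N] [Module D N]

/-- Base change of a module over `C` to a model `D` of `B ⊗ C` is its base change along `A → B`. -/
theorem bijective_of_pushout [Module C M] [IsScalarTower A C M] (i₁ : B →ₐ[A] D) (i₂ : C →ₐ[A] D)
    (hD : Function.Bijective (Algebra.TensorProduct.productMap i₁ i₂)) {g : M →+ N}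
    (hg : IsBC i₂.toRingHom g) (f : B ⊗[A] M →+ N) (hf : ∀ b m, f (b ⊗ₜ m) = i₁ b • g m) :
    Function.Bijective f := by
  let := i₂.toRingHom.toAlgebra
  have : IsScalarTower A C D := IsScalarTower.of_algebraMap_eq fun a => (i₂.commutes a).symm
  obtain ⟨hg, hb⟩ := (isBC_iff rfl).1 hg
  have hD' : Function.Bijective (Algebra.TensorProduct.productMap i₂ i₁) := by
    convert hD.comp (Algebra.TensorProduct.comm A C B).bijective using 1
    ext x
    induction x with
    | zero => simp
    | tmul c b => simp [mul_comm]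
    | add x y hx hy => simp_all
  let l : C ⊗[A] B →ₗ[C] D :=
    { toFun := Algebra.TensorProduct.productMap i₂ i₁
      map_add' := map_add _
      map_smul' := fun c x => by
        show Algebra.TensorProduct.productMap i₂ i₁ (c • x) = i₂ c * Algebra.TensorProduct.productMap i₂ i₁ x
        induction x with
        | zero => simp
        | tmul c' b => simp [TensorProduct.smul_tmul', mul_assoc]
        | add x y hx hy => rw [smul_add, map_add, map_add, hx, hy, mul_add] }
  let e : B ⊗[A] M ≃+ D ⊗[C] M :=
    ((TensorProduct.comm A B M).toAddEquiv.trans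
      (TensorProduct.AlgebraTensorModule.cancelBaseChange A C C M B).symm.toAddEquiv).trans
      ((LinearEquiv.lTensor M (LinearEquiv.ofBijective l hD')).trans (TensorProduct.comm C M D)).toAddEquiv
  have key : ∀ x, bcMap C D g hg (e x) = f x := by
    intro x
    induction x with
    | zero => simp
    | tmul b m =>
      show (Algebra.TensorProduct.productMap i₂ i₁ ((1 : C) ⊗ₜ b)) • g m = f (b ⊗ₜ m)
      simp [hf]
    | add x y hx hy => rw [map_add, map_add, map_add, hx, hy]
  rw [show ⇑f = bcMap C D g hg ∘ e from funext fun x => (key x).symm]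
  exact hb.comp e.bijective

end Pushout

section Descent

variable {A : Type u} [CommRing A] {J : Type*} (B : J → Type u) [∀ j, CommRing (B j)] [∀ j, Algebra A (B j)]
  [∀ j, Module.Flat A (B j)] {M : Type v} [AddCommGroup M] [Module A M] (hB : JointlySurj A B)

include hB

/-- An element killed by all the base changes is zero. -/
theorem eq_zero_of_one_tmul (z : M) (h : ∀ j, (1 : B j) ⊗ₜ[A] z = 0) : z = 0 := by
  by_contra hne
  let φ : A →ₗ[A] M := LinearMap.toSpanSingleton A M z
  have htop : LinearMap.ker φ ≠ ⊤ := fun e => hne (by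
    simpa [φ] using (show (1 : A) ∈ LinearMap.ker φ from e ▸ Submodule.mem_top))
  obtain ⟨m, hm, hle⟩ := Ideal.exists_le_maximal (LinearMap.ker φ) htop
  obtain ⟨j, q, hq⟩ := hB ⟨m, hm.isPrime⟩
  have hinj : Function.Injective
      ((Submodule.liftQ (LinearMap.ker φ) φ le_rfl).lTensor (B j)) :=
    Module.Flat.lTensor_preserves_injective_linearMap _
      (LinearMap.ker_eq_bot.1 (Submodule.ker_liftQ_eq_bot _ _ le_rfl le_rfl))
  let I : Ideal A := LinearMap.ker φ
  have h0 : (1 : B j) ⊗ₜ[A] (Submodule.Quotient.mk 1 : A ⧸ I) = 0 := by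
    apply hinj
    rw [map_zero, LinearMap.lTensor_tmul]
    show (1 : B j) ⊗ₜ[A] φ 1 = 0
    simpa [φ] using h j
  have h1 : TensorProduct.tensorQuotEquivQuotSMul (B j) I ((1 : B j) ⊗ₜ[A] (Submodule.Quotient.mk 1 : A ⧸ I)) = 0 := by
    rw [h0, map_zero]
  have h2 : (1 : B j) ∈ (I • ⊤ : Submodule A (B j)) := by
    rw [← Submodule.Quotient.mk_eq_zero, ← h1]
    exact ((TensorProduct.tensorQuotEquivQuotSMul_tmul_mk I (1 : B j) 1).trans (by rw [one_smul])).symm
  rw [Ideal.smul_top_eq_map] at h2
  refine q.2.ne_top (Ideal.eq_top_of_isUnit_mem _ (x := (1 : B j)) ?_ isUnit_one)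
  refine Ideal.map_le_iff_le_comap.2 (hle.trans ?_) (show (1 : B j) ∈ I.map (algebraMap A (B j)) from h2)
  rw [← PrimeSpectrum.comap_asIdeal, hq]

/-- A linear map which is injective after all base changes is injective. -/
theorem injective_of_lTensor {N : Type w} [AddCommGroup N] [Module A N] (f : M →ₗ[A] N)
    (h : ∀ j, Function.Injective (f.lTensor (B j))) : Function.Injective f := by
  rw [injective_iff_map_eq_zero]
  intro x hx
  refine eq_zero_of_one_tmul B hB x fun j => h j ?_
  rw [map_zero, LinearMap.lTensor_tmul, hx, tmul_zero]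

/-- A linear map which is surjective after all base changes is surjective. -/
theorem surjective_of_lTensor {N : Type w} [AddCommGroup N] [Module A N] (f : M →ₗ[A] N)
    (h : ∀ j, Function.Surjective (f.lTensor (B j))) : Function.Surjective f := by
  intro y
  suffices (LinearMap.range f).mkQ y = 0 from (Submodule.Quotient.mk_eq_zero _).1 this
  refine eq_zero_of_one_tmul B hB _ fun j => ?_
  obtain ⟨t, ht⟩ := h j ((1 : B j) ⊗ₜ y)
  rw [← LinearMap.lTensor_tmul, ← ht, ← LinearMap.comp_apply, ← LinearMap.lTensor_comp,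
    LinearMap.range_mkQ_comp, LinearMap.lTensor_zero]
  rfl

/-- An element whose images in the base changes all vanish is zero. -/
theorem eq_zero_of_isBC {N : J → Type w} [∀ j, AddCommGroup (N j)] [∀ j, Module (B j) (N j)]
    (g : ∀ j, M →+ N j) (hg : ∀ j, IsBC (algebraMap A (B j)) (g j)) (x : M) (hx : ∀ j, g j x = 0) : x = 0 := by
  refine eq_zero_of_one_tmul B hB x fun j => ?_
  obtain ⟨hs, hb⟩ := (isBC_iff rfl).1 (hg j)
  exact hb.injective (by rw [map_zero, bcMap_tmul, one_smul, hx])

/-- A compatible family of elements of the base changes comes from a unique element. -/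
theorem exists_of_tmul_compat [Finite J] (z : ∀ j, B j ⊗[A] M)
    (hz : ∀ i j, LinearMap.lTensor (B i) (TensorProduct.mk A (B j) M 1) (z i) = (1 : B i) ⊗ₜ[A] z j) :
    ∃ x : M, ∀ j, (1 : B j) ⊗ₜ[A] x = z j := by
  classical
  have := Fintype.ofFinite J
  let δ : M →ₗ[A] ∀ j, B j ⊗[A] M := LinearMap.pi fun j => TensorProduct.mk A (B j) M 1
  suffices (LinearMap.range δ).mkQ z = 0 by
    obtain ⟨x, hx⟩ := (Submodule.Quotient.mk_eq_zero _).1 this
    exact ⟨x, fun j => congrFun hx j⟩
  refine eq_zero_of_one_tmul B hB _ fun i => ?_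
  have h1 : LinearMap.lTensor (B i) δ (z i) = (1 : B i) ⊗ₜ[A] z := by
    apply (TensorProduct.piRight A A (B i) fun j => B j ⊗[A] M).injective
    funext j
    simp only [TensorProduct.piRight_apply, TensorProduct.piRightHom_tmul]
    rw [← hz i j]
    generalize z i = w
    induction w with
    | zero => simp
    | tmul b m => rfl
    | add x y hx hy => simp only [map_add, Pi.add_apply, hx, hy]
  rw [← LinearMap.lTensor_tmul, ← h1, ← LinearMap.comp_apply, ← LinearMap.lTensor_comp,
    LinearMap.range_mkQ_comp, LinearMap.lTensor_zero]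
  rfl

/-- Elements of the base changes agreeing on the fibre products glue. -/
theorem exists_glue [Finite J] {N : J → Type w} [∀ j, AddCommGroup (N j)] [∀ j, Module (B j) (N j)]
    (g : ∀ j, M →+ N j) (hg : ∀ j, IsBC (algebraMap A (B j)) (g j)) (y : ∀ j, N j)
    (hy : ∀ i j, ∃ (C : Type u) (_ : CommRing C) (_ : Algebra A C) (i₁ : B i →ₐ[A] C) (i₂ : B j →ₐ[A] C)
      (_ : Function.Bijective (Algebra.TensorProduct.productMap i₁ i₂)) (P : Type w') (_ : AddCommGroup P)
      (_ : Module C P) (r₁ : N i →+ P) (r₂ : N j →+ P), IsBC i₂.toRingHom r₂ ∧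
      IsSL i₁.toRingHom r₁ ∧ (∀ x, r₁ (g i x) = r₂ (g j x)) ∧ r₁ (y i) = r₂ (y j)) :
    ∃ x, ∀ j, g j x = y j := by
  choose hs hb using fun j => (isBC_iff rfl).1 (hg j)
  choose z hz using fun j => (hb j).surjective (y j)
  suffices ∀ i j, LinearMap.lTensor (B i) (TensorProduct.mk A (B j) M 1) (z i) = (1 : B i) ⊗ₜ[A] z j by
    obtain ⟨x, hx⟩ := exists_of_tmul_compat B hB z this
    refine ⟨x, fun j => ?_⟩
    rw [← hz j, ← hx j, bcMap_tmul, one_smul]
  intro i j
  obtain ⟨C, _, _, i₁, i₂, hC, P, _, _, r₁, r₂, hr₂, hr₁, hcomm, hyy⟩ := hy i j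
  let := i₂.toRingHom.toAlgebra
  have : IsScalarTower A (B j) C := IsScalarTower.of_algebraMap_eq fun a => (i₂.commutes a).symm
  let q : B j ⊗[A] M →+ P := r₂.comp (bcMap A (B j) (g j) (hs j))
  let f : B i ⊗[A] (B j ⊗[A] M) →+ P := TensorProduct.liftAddHom
    { toFun := fun b => (DistribSMul.toAddMonoidHom P (i₁ b)).comp q
      map_zero' := by ext m; simp
      map_add' := fun b b' => by ext m; simp [add_smul] }
    (fun a b m => by
      show i₁ (a • b) • q m = i₁ b • q (a • m)
      have : q (a • m) = algebraMap A C a • q m := by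
        rw [← i₂.commutes a, ← IsScalarTower.algebraMap_smul (B j) a m]
        show r₂ (bcMap A (B j) (g j) (hs j) (algebraMap A (B j) a • m)) = _
        rw [bcMap_smul, hr₂.sl]
        rfl
      rw [this, map_smul, Algebra.smul_def, smul_smul, mul_comm])
  have hq : IsBC i₂.toRingHom q := by
    have h1 : IsBC (RingHom.id (B j)) (bcMap A (B j) (g j) (hs j)) :=
      isBC_of_bijective Function.bijective_id (fun b m => bcMap_smul (g j) (hs j) b m) (hb j)
    exact (h1.comp hr₂).congr rfl rfl
  have hf : Function.Bijective f := bijective_of_pushout i₁ i₂ hC hq f fun b m => rfl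
  apply hf.injective
  have e₁ : ∀ w, f (LinearMap.lTensor (B i) (TensorProduct.mk A (B j) M 1) w) = r₁ (bcMap A (B i) (g i) (hs i) w) := by
    intro w
    induction w with
    | zero => simp
    | tmul b m =>
      show i₁ b • r₂ ((1 : B j) • g j m) = r₁ (b • g i m)
      rw [one_smul, hr₁, hcomm]
      rfl
    | add x y hx hy => simp only [map_add, hx, hy]
  rw [e₁, hz]
  show r₁ (y i) = i₁ 1 • r₂ (bcMap A (B j) (g j) (hs j) (z j))
  rw [hz, map_one, one_smul, hyy]

end Descent

section Local

variable {A B : Type u} [CommRing A] [CommRing B] {J : Type*} {C : J → Type u} [∀ j, CommRing (C j)]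
  [∀ j, Algebra B (C j)] [∀ j, Module.Flat B (C j)]
  {M : Type v} {N : Type w} [AddCommGroup M] [Module A M] [AddCommGroup N] [Module B N]
  {P : J → Type w'} [∀ j, AddCommGroup (P j)] [∀ j, Module (C j) (P j)]

/-- Being a base change is local for jointly surjective flat families. -/
theorem IsBC.of_locally (hC : JointlySurj B C) {φ : A →+* B} {g : M →+ N} (hg : IsSL φ g) (h : ∀ j, N →+ P j)
    (hh : ∀ j, IsBC (algebraMap B (C j)) (h j))
    (hc : ∀ j, IsBC ((algebraMap B (C j)).comp φ) ((h j).comp g)) : IsBC φ g := by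
  let := φ.toAlgebra
  let f : B ⊗[A] M →ₗ[B] N := { bcMap A B g hg with map_smul' := bcMap_smul g hg }
  suffices ∀ j, Function.Bijective (f.lTensor (C j)) from
    (isBC_iff rfl).2 ⟨hg, injective_of_lTensor C hC f fun j => (this j).injective,
      surjective_of_lTensor C hC f fun j => (this j).surjective⟩
  intro j
  let := ((algebraMap B (C j)).comp φ).toAlgebra
  have : IsScalarTower A B (C j) := IsScalarTower.of_algebraMap_eq fun a => rfl
  obtain ⟨hs, hb⟩ := (isBC_iff rfl).1 (hh j)
  obtain ⟨hs', hb'⟩ := (isBC_iff rfl).1 (hc j)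
  let e := TensorProduct.AlgebraTensorModule.cancelBaseChange A B B (C j) M
  have key : ∀ x, bcMap B (C j) (h j) hs (f.lTensor (C j) x) = bcMap A (C j) ((h j).comp g) hs' (e x) := by
    intro x
    induction x with
    | zero => simp
    | tmul c y =>
      induction y with
      | zero => simp
      | tmul b m =>
        show c • h j (b • g m) = (b • c) • h j (g m)
        rw [hs, Algebra.smul_def, mul_comm, mul_smul]
      | add y y' hy hy' => simp only [tmul_add, map_add, hy, hy']
    | add x y hx hy => simp only [map_add, hx, hy]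
  refine (Function.Bijective.of_comp_iff' hb _).1 ?_
  convert hb'.comp e.bijective using 1
  exact funext key

end Local

end Groth.Agent.H14.ModDesc
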