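import Mathlib.AlgebraicGeometry.AffineScheme
import Mathlib.AlgebraicGeometry.Pullbacks
import Mathlib.AlgebraicGeometry.Morphisms.Affine
import Mathlib.AlgebraicGeometry.Morphisms.Flat
import Groth.Agent.H14.ModDesc.Alg

/-!
Rings of global functions of affine schemes.
-/

set_option autoImplicit false
set_option backward.isDefEq.respectTransparency false
set_option backward.isDefEq.respectTransparency.types false

universe u

open CategoryTheory CategoryTheory.Limits AlgebraicGeometry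
open Groth.Agent.H14.GerbeDesc (JointlySurj)

namespace Groth.Agent.H14.ModDesc

theorem appTop_comp_hom {X Y Z : Scheme.{u}} (f : X ⟶ Y) (g : Y ⟶ Z) :
    (f ≫ g).appTop.hom = f.appTop.hom.comp g.appTop.hom := by
  rw [Scheme.Hom.comp_appTop]
  rfl

theorem flat_appTop {X Y : Scheme.{u}} [IsAffine X] [IsAffine Y] (f : X ⟶ Y) [Flat f] :
    f.appTop.hom.Flat :=
  (HasRingHomProperty.iff_of_isAffine (P := @Flat)).1 inferInstance

theorem bijective_appTop {X Y : Scheme.{u}} (f : X ⟶ Y) [IsIso f] : Function.Bijective f.appTop.hom :=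
  ConcreteCategory.bijective_of_isIso f.appTop

theorem jointlySurj_appTop {J : Type*} {E : J → Scheme.{u}} [∀ a, IsAffine (E a)] {Z : Scheme.{u}} [IsAffine Z]
    (e : ∀ a, E a ⟶ Z) [∀ a, Algebra Γ(Z, ⊤) Γ(E a, ⊤)]
    (halg : ∀ a, algebraMap Γ(Z, ⊤) Γ(E a, ⊤) = (e a).appTop.hom) (he : ∀ z, ∃ a, z ∈ Set.range (e a)) :
    JointlySurj Γ(Z, ⊤) (fun a => Γ(E a, ⊤)) := by
  intro p
  obtain ⟨a, x, hx⟩ := he (Z.isoSpec.inv p)
  refine ⟨a, (E a).isoSpec.hom x, ?_⟩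
  have h := congrArg (fun f : E a ⟶ Spec Γ(Z, ⊤) => f x) (Scheme.isoSpec_hom_naturality (e a))
  simp only [Scheme.Hom.comp_apply] at h
  rw [halg]
  refine h.trans ?_
  rw [hx]
  show (Z.isoSpec.inv ≫ Z.isoSpec.hom) p = p
  rw [Iso.inv_hom_id]
  rfl

/-- Functions on an affine fibre product. -/
theorem bijective_productMap {P X Y Z : Scheme.{u}} [IsAffine X] [IsAffine Y] [IsAffine Z] {p : P ⟶ X} {q : P ⟶ Y}
    {f : X ⟶ Z} {g : Y ⟶ Z} (h : IsPullback p q f g) [Algebra Γ(Z, ⊤) Γ(X, ⊤)] [Algebra Γ(Z, ⊤) Γ(Y, ⊤)]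
    [Algebra Γ(Z, ⊤) Γ(P, ⊤)] (hf : algebraMap Γ(Z, ⊤) Γ(X, ⊤) = f.appTop.hom)
    (hg : algebraMap Γ(Z, ⊤) Γ(Y, ⊤) = g.appTop.hom)
    (i₁ : Γ(X, ⊤) →ₐ[Γ(Z, ⊤)] Γ(P, ⊤)) (i₂ : Γ(Y, ⊤) →ₐ[Γ(Z, ⊤)] Γ(P, ⊤))
    (h₁ : i₁.toRingHom = p.appTop.hom) (h₂ : i₂.toRingHom = q.appTop.hom) :
    Function.Bijective (Algebra.TensorProduct.productMap i₁ i₂) := by
  have h1 := isPushout_appTop_of_isPullback h
  have hf' : f.appTop = CommRingCat.ofHom (algebraMap Γ(Z, ⊤) Γ(X, ⊤)) := by rw [hf]; rfl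
  have hg' : g.appTop = CommRingCat.ofHom (algebraMap Γ(Z, ⊤) Γ(Y, ⊤)) := by rw [hg]; rfl
  rw [hf', hg'] at h1
  have h2 := CommRingCat.isPushout_tensorProduct Γ(Z, ⊤) Γ(X, ⊤) Γ(Y, ⊤)
  let e := h2.isoIsPushout _ _ h1
  have : CommRingCat.ofHom (Algebra.TensorProduct.productMap i₁ i₂).toRingHom = e.hom := by
    apply h2.hom_ext
    · rw [IsPushout.inl_isoIsPushout_hom]
      ext s
      exact (Algebra.TensorProduct.productMap_left_apply i₁ i₂ s).trans (RingHom.congr_fun h₁ s)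
    · rw [IsPushout.inr_isoIsPushout_hom]
      ext s
      exact (Algebra.TensorProduct.productMap_right_apply i₁ i₂ s).trans (RingHom.congr_fun h₂ s)
  have hb := ConcreteCategory.bijective_of_isIso e.hom
  rw [← this] at hb
  exact hb

/-- The fibre product of affine schemes over an affine scheme, with the algebra structures. -/
theorem exists_algHom {P X Y Z : Scheme.{u}} [IsAffine X] [IsAffine Y] [IsAffine Z] {p : P ⟶ X} {q : P ⟶ Y}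
    {f : X ⟶ Z} {g : Y ⟶ Z} (h : IsPullback p q f g) [Algebra Γ(Z, ⊤) Γ(X, ⊤)] [Algebra Γ(Z, ⊤) Γ(Y, ⊤)]
    (hf : algebraMap Γ(Z, ⊤) Γ(X, ⊤) = f.appTop.hom)
    (hg : algebraMap Γ(Z, ⊤) Γ(Y, ⊤) = g.appTop.hom) :
    ∃ (_ : Algebra Γ(Z, ⊤) Γ(P, ⊤)) (i₁ : Γ(X, ⊤) →ₐ[Γ(Z, ⊤)] Γ(P, ⊤)) (i₂ : Γ(Y, ⊤) →ₐ[Γ(Z, ⊤)] Γ(P, ⊤)),
      i₁.toRingHom = p.appTop.hom ∧ i₂.toRingHom = q.appTop.hom ∧
        Function.Bijective (Algebra.TensorProduct.productMap i₁ i₂) := by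
  let := ((p ≫ f).appTop.hom).toAlgebra
  have c₁ : ∀ r, p.appTop.hom (algebraMap Γ(Z, ⊤) Γ(X, ⊤) r) = (p ≫ f).appTop.hom r := fun r => by
    rw [hf, appTop_comp_hom]; rfl
  have c₂ : ∀ r, q.appTop.hom (algebraMap Γ(Z, ⊤) Γ(Y, ⊤) r) = (p ≫ f).appTop.hom r := fun r => by
    rw [hg, h.w, appTop_comp_hom]; rfl
  let i₁ : Γ(X, ⊤) →ₐ[Γ(Z, ⊤)] Γ(P, ⊤) := { p.appTop.hom with commutes' := c₁ }
  let i₂ : Γ(Y, ⊤) →ₐ[Γ(Z, ⊤)] Γ(P, ⊤) := { q.appTop.hom with commutes' := c₂ }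
  exact ⟨inferInstance, i₁, i₂, rfl, rfl, bijective_productMap h hf hg i₁ i₂ rfl rfl⟩

end Groth.Agent.H14.ModDesc
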