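import Groth.Agent.H14.ModDesc.Equiv
import Groth.Prelude.Def_TwSh

/-!
The descent hypothesis for untwisted modules on banded gerbes.
-/

set_option autoImplicit false
set_option backward.isDefEq.respectTransparency false
set_option backward.isDefEq.respectTransparency.types false
set_option linter.style.haveILetI false

universe u

open CategoryTheory CategoryTheory.Limits AlgebraicGeometry Opposite
open StMod (sch bmap)
open Groth.Agent.Lib.AlgStack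

namespace Groth.Agent.H14.ModDesc

variable {S : Scheme.{u}} {𝒳 𝒴 : AlgSt.Cat S} {π : 𝒳 ⥤ᵇ 𝒴}

/-- A vertical morphism as an automorphism over the identity. -/
noncomputable def autOfVertical (hfib : FibCat.IsFibGrpd 𝒳.p) {x : 𝒳.obj} (a : x ⟶ x) (ha : 𝒳.p.map a = 𝟙 _) :
    Gerb.AutO x :=
  have hl : 𝒳.p.IsHomLift (𝟙 (𝒳.p.obj x)) a := ha ▸ IsHomLift.map 𝒳.p a
  haveI := BasedBasic.isIso_of_isHomLift_id hfib (R := 𝒳.p.obj x) a
  { hom := ⟨a, hl⟩
    inv := ⟨inv a,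
      haveI : 𝒳.p.IsHomLift (𝟙 (𝒳.p.obj x)) (asIso a).hom := hl
      IsHomLift.lift_id_inv _ _ (asIso a)⟩
    hom_inv_id := Functor.Fiber.hom_ext (IsIso.hom_inv_id _)
    inv_hom_id := Functor.Fiber.hom_ext (IsIso.inv_hom_id _) }

theorem charUnit_zero {A : (Over S)ᵒᵖ ⥤ GrpCat.{u}} (χ : A ⟶ TwSh.GmPsh S) (ξ : 𝒳.obj)
    (a : A.obj (op (𝒳.p.obj ξ))) : (((TwSh.charUnit χ ξ a) ^ (0 : ℤ))⁻¹).val = 1 := by
  simp

/-- Untwisted quasi-coherent modules descend along banded gerbes. -/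
theorem hyp_of_isTwisted_zero (h𝒳 : FibCat.IsFibGrpd 𝒳.p) (h𝒴 : FibCat.IsFibGrpd 𝒴.p)
    {A : (Over S)ᵒᵖ ⥤ GrpCat.{u}} (χ : A ⟶ TwSh.GmPsh S) {ι : TwSh.BandHom 𝒳 A}
    (hπ : TwSh.IsBandedGerbe (QuotSh.J Scheme.fppfPrecoverage S) π ι) (F : StMod.QCoh 𝒳)
    (hF : TwSh.IsTwisted F.obj ι χ 0) : Hyp π F where
  fibX := h𝒳
  fibY := h𝒴
  locObj := hπ.1.1
  locHom := hπ.1.2
  dep := fun {x' x} φ φ' hp hπeq s => by
    have : 𝒳.p.IsHomLift (𝟙 (𝒳.p.obj x') ≫ 𝒳.p.map φ) φ' := by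
      rw [Category.id_comp, hp]
      exact IsHomLift.map 𝒳.p φ'
    obtain ⟨a, ha, hae⟩ := BasedBasic.exists_lift_through h𝒳 φ φ' (𝟙 (𝒳.p.obj x'))
    have hpa : 𝒳.p.map a = 𝟙 _ := by simpa using IsHomLift.fac' 𝒳.p (𝟙 (𝒳.p.obj x')) a
    have hπa : π.map a = 𝟙 (π.obj x') := by
      refine BasedBasic.hom_eq_of_comp_eq h𝒴 (π.map φ) ?_ ?_
      · rw [CategoryTheory.Functor.map_id]
        have e : 𝒴.p.map (π.map a) = eqToHom (π.w_obj x') ≫ 𝒳.p.map a ≫ eqToHom (π.w_obj x').symm :=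
          IsHomLift.fac' 𝒴.p (𝒳.p.map a) (π.map a)
        rw [e, hpa]
        simp
      · rw [Category.id_comp, ← π.toFunctor.map_comp, hae, hπeq]
    let α := autOfVertical h𝒳 a hpa
    have hker : α ∈ (Gerb.autMap π x').ker := by
      rw [MonoidHom.mem_ker]
      apply Aut.ext
      apply Functor.Fiber.hom_ext
      exact hπa
    rw [← (hπ.2 x').2] at hker
    obtain ⟨t, ht⟩ := hker
    have hinert := hF x' t ⊤ (F.obj.mapTop φ s)
    rw [ht, TwSh.inert_app_top, charUnit_zero, map_one, one_smul] at hinert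
    have : α.hom.1 = a := rfl
    rw [this] at hinert
    rw [← hae, StMod.Mod.mapTop_comp, hinert]

theorem isTwisted_zero_comap {A : (Over S)ᵒᵖ ⥤ GrpCat.{u}} (χ : A ⟶ TwSh.GmPsh S) {ι : TwSh.BandHom 𝒳 A}
    (hπ : TwSh.IsBandedGerbe (QuotSh.J Scheme.fppfPrecoverage S) π ι) (G : StMod.Mod 𝒴) :
    TwSh.IsTwisted (StMod.Mod.comap π G) ι χ 0 := by
  rw [TwSh.isTwisted_iff_inert_eq]
  intro ξ a
  have hmap : π.map (ι.hom ξ a).hom.1 = 𝟙 _ := TwSh.IsBandedGerbe.map_hom_eq_id π hπ ξ a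
  have hg : StMod.bmap 𝒳 (ι.hom ξ a).hom.1 = 𝟙 _ := TwSh.bmap_autO ξ _
  have key : ∀ {X T : Scheme.{u}} (hX : X = T) {M : X.Modules} {g₁ : X ⟶ X} {g : T ⟶ T}
      (hg : g₁ ≫ eqToHom hX = eqToHom hX ≫ g) (m : M ⟶ (Scheme.Modules.pushforward g₁).obj M)
      (h₁ : g₁ = 𝟙 X) (h : g = 𝟙 T)
      (_ : m ≫ (Scheme.Modules.pushforwardCongr h₁).hom.app M ≫ (Scheme.Modules.pushforwardId X).hom.app M = 𝟙 M),
      StMod.castMap hX hX hg m ≫ (Scheme.Modules.pushforwardCongr h).hom.app _ ≫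
        (Scheme.Modules.pushforwardId T).hom.app (StMod.castMod hX M) = 𝟙 _ := by
    intro X T hX M g₁ g hg m h₁ h hm
    subst hX
    obtain rfl : g₁ = g := by simpa using hg
    rw [StMod.castMap_rfl_self]
    exact hm
  have h1 : TwSh.inert (StMod.Mod.comap π G) ξ (ι.hom ξ a) = 𝟙 _ := by
    have := key (StMod.sch_obj_eq π ξ) (StMod.bmap_map_comm π (ι.hom ξ a).hom.1 rfl)
      (G.map (π.map (ι.hom ξ a).hom.1) rfl) (by rw [hmap, StMod.bmap_id]) hg (by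
        rw [← Category.assoc, StMod.Mod.map_comp_pushforwardCongr, G.map_congr hmap]
        exact G.map_id _)
    rw [← Category.assoc] at this
    exact (congrArg (· ≫ (Scheme.Modules.pushforwardId (sch 𝒳 ξ)).hom.app _)
      (StMod.Mod.map_comp_pushforwardCongr (StMod.Mod.comap π G) (ι.hom ξ a).hom.1 (g := bmap 𝒳 (ι.hom ξ a).hom.1) rfl hg)).symm.trans this
  rw [h1, charUnit_zero]
  apply Scheme.Modules.hom_ext
  intro U
  ext s
  rw [TwSh.scalarEnd_app_apply, map_one, one_smul]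
  rfl

end Groth.Agent.H14.ModDesc
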