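import Groth.Agent.H14.ModDesc.Push

/-!
Sections of transported modules, and morphisms out of inverse images.
-/

set_option autoImplicit false
set_option backward.isDefEq.respectTransparency false
set_option backward.isDefEq.respectTransparency.types false
set_option linter.style.haveILetI false

universe u v w v' w'

open CategoryTheory CategoryTheory.Limits AlgebraicGeometry Opposite TopologicalSpace
open StMod (sch bmap)

namespace Groth.Agent.H14.ModDesc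

section Cast

variable {X T X' T' : Scheme.{u}}

/-- Sections of a transported module. -/
noncomputable def castTop (h : X = T) (M : X.Modules) : Γ(M, ⊤) →+ Γ(StMod.castMod h M, ⊤) := by
  subst h
  exact AddMonoidHom.id _

theorem castTop_bijective (h : X = T) (M : X.Modules) : Function.Bijective (castTop h M) := by
  subst h
  exact Function.bijective_id

theorem castTop_smul (h : X = T) (M : X.Modules) (r : Γ(X, ⊤)) (s : Γ(M, ⊤)) :
    castTop h M (r • s) = (eqToHom h.symm).appTop.hom r • castTop h M s := by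
  subst h
  show r • s = (Scheme.Hom.appTop (𝟙 X)).hom r • s
  rw [Scheme.Hom.id_appTop]
  rfl

theorem isBC_castTop (h : X = T) (M : X.Modules) : IsBC (eqToHom h.symm).appTop.hom (castTop h M) :=
  isBC_of_bijective (bijective_appTop _) (castTop_smul h M) (castTop_bijective h M)

theorem castTop_castMap (hX : X = T) (hX' : X' = T') {g₁ : X' ⟶ X} {g : T' ⟶ T}
    (hg : g₁ ≫ eqToHom hX = eqToHom hX' ≫ g) {M : X.Modules} {N : X'.Modules}
    (m : M ⟶ (Scheme.Modules.pushforward g₁).obj N) (s : Γ(M, ⊤)) :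
    (show Γ(StMod.castMod hX' N, ⊤) from (StMod.castMap hX hX' hg m).app ⊤ (castTop hX M s)) =
      castTop hX' N (show Γ(N, ⊤) from m.app ⊤ s) := by
  subst hX hX'
  obtain rfl : g₁ = g := by simpa using hg
  rw [StMod.castMap_rfl_self]
  rfl

theorem castTop_castHom (h : X = T) {M M' : X.Modules} (f : M ⟶ M') (s : Γ(M, ⊤)) :
    (StMod.castHom h f).app ⊤ (castTop h M s) = castTop h M' (f.app ⊤ s) := by
  subst h
  rw [StMod.castHom_rfl]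
  rfl

/-- A morphism out of a transported module. -/
noncomputable def castOut (h : X = T) {M : X.Modules} {N : T.Modules}
    (a : M ⟶ (Scheme.Modules.pushforward (eqToHom h.symm)).obj N) : StMod.castMod h M ⟶ N := by
  subst h
  exact a ≫ (Scheme.Modules.pushforwardId X).hom.app N

theorem castOut_isIso (h : X = T) {M : X.Modules} {N : T.Modules}
    (a : M ⟶ (Scheme.Modules.pushforward (eqToHom h.symm)).obj N)
    (hb : ∀ V : X.Opens, IsAffineOpen V → Function.Bijective (a.app V)) : IsIso (castOut h a) := by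
  subst h
  exact Groth.Agent.Lib.CohDelta.BC.Transpose.isIso_of_bijective_basis _ X.isBasis_affineOpens hb

theorem preimage_le (hX : X = T) (hX' : X' = T') {g₁ : X' ⟶ X} {g : T' ⟶ T}
    (hg : g₁ ≫ eqToHom hX = eqToHom hX' ≫ g) (V : X.Opens) :
    g ⁻¹ᵁ (eqToHom hX.symm ⁻¹ᵁ V) ≤ eqToHom hX'.symm ⁻¹ᵁ (g₁ ⁻¹ᵁ V) := by
  subst hX hX'
  obtain rfl : g₁ = g := by simpa using hg
  exact le_rfl

theorem castOut_comm (hX : X = T) (hX' : X' = T') {g₁ : X' ⟶ X} {g : T' ⟶ T}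
    (hg : g₁ ≫ eqToHom hX = eqToHom hX' ≫ g) {M : X.Modules} {M' : X'.Modules} {N : T.Modules} {N' : T'.Modules}
    (m : M ⟶ (Scheme.Modules.pushforward g₁).obj M') (n : N ⟶ (Scheme.Modules.pushforward g).obj N')
    (a : M ⟶ (Scheme.Modules.pushforward (eqToHom hX.symm)).obj N)
    (a' : M' ⟶ (Scheme.Modules.pushforward (eqToHom hX'.symm)).obj N')
    (H : ∀ (V : X.Opens) (s : Γ(M, V)),
      N'.presheaf.map (homOfLE (preimage_le hX hX' hg V)).op (a'.app (g₁ ⁻¹ᵁ V) (m.app V s)) = n.app _ (a.app V s)) :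
    StMod.castMap hX hX' hg m ≫ (Scheme.Modules.pushforward g).map (castOut hX' a') = castOut hX a ≫ n := by
  subst hX hX'
  obtain rfl : g₁ = g := by simpa using hg
  rw [StMod.castMap_rfl_self]
  apply Scheme.Modules.hom_ext
  intro V
  ext s
  refine Eq.trans ?_ (H V s)
  show _ = N'.presheaf.map (𝟙 _) _
  rw [CategoryTheory.Functor.map_id]
  rfl

theorem castOut_castHom (h : X = T) {M M' : X.Modules} {N N' : T.Modules} (f : M ⟶ M') (k : N ⟶ N')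
    (a : M ⟶ (Scheme.Modules.pushforward (eqToHom h.symm)).obj N)
    (a' : M' ⟶ (Scheme.Modules.pushforward (eqToHom h.symm)).obj N')
    (H : ∀ (V : X.Opens) (s : Γ(M, V)), a'.app V (f.app V s) = k.app _ (a.app V s)) :
    StMod.castHom h f ≫ castOut h a' = castOut h a ≫ k := by
  subst h
  rw [StMod.castHom_rfl]
  apply Scheme.Modules.hom_ext
  intro V
  ext s
  exact H V s

end Cast

section MapU

variable {S : Scheme.{u}} {𝒳 : BasedCategory.{v, w} (Over S)} {𝒴 : BasedCategory.{v', w'} (Over S)}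

theorem mapTop_comap (π : 𝒳 ⥤ᵇ 𝒴) (G : StMod.Mod 𝒴) {x' x : 𝒳.obj} (φ : x' ⟶ x) (s : Γ(G.obj (π.obj x), ⊤)) :
    (StMod.Mod.comap π G).mapTop φ (castTop (StMod.sch_obj_eq π x) _ s) =
      castTop (StMod.sch_obj_eq π x') _ (G.mapTop (π.map φ) s) :=
  castTop_castMap (StMod.sch_obj_eq π x) (StMod.sch_obj_eq π x') (StMod.bmap_map_comm π φ rfl) (G.map (π.map φ) rfl) s

variable (G : StMod.Mod 𝒳)

/-- Restriction of a section over an open along a morphism landing in the open. -/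
noncomputable def mapU {x' x : 𝒳.obj} (φ : x' ⟶ x) (U : (sch 𝒳 x).Opens) (h : ⊤ ≤ bmap 𝒳 φ ⁻¹ᵁ U) :
    Γ(G.obj x, U) →+ Γ(G.obj x', ⊤) :=
  ((G.obj x').presheaf.map (homOfLE h).op).hom.comp ((G.map φ rfl).app U).hom

theorem mapU_congr {x' x : 𝒳.obj} {φ φ' : x' ⟶ x} (e : φ = φ') (U : (sch 𝒳 x).Opens) (h : ⊤ ≤ bmap 𝒳 φ ⁻¹ᵁ U)
    (h' : ⊤ ≤ bmap 𝒳 φ' ⁻¹ᵁ U) (s : Γ(G.obj x, U)) : mapU G φ U h s = mapU G φ' U h' s := by
  subst e
  rfl

theorem mapU_res {x' x : 𝒳.obj} (φ : x' ⟶ x) {U V : (sch 𝒳 x).Opens} (i : V ≤ U) (h : ⊤ ≤ bmap 𝒳 φ ⁻¹ᵁ U)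
    (h' : ⊤ ≤ bmap 𝒳 φ ⁻¹ᵁ V) (s : Γ(G.obj x, U)) :
    mapU G φ V h' ((G.obj x).presheaf.map (homOfLE i).op s) = mapU G φ U h s := by
  show (G.obj x').presheaf.map _ ((G.map φ rfl).app V _) = (G.obj x').presheaf.map _ ((G.map φ rfl).app U s)
  erw [(G.map φ rfl).mapPresheaf.naturality_apply (homOfLE i).op s]
  show (G.obj x').presheaf.map _ ((G.obj x').presheaf.map _ _) = _
  rw [← ConcreteCategory.comp_apply, ← Functor.map_comp]
  rfl

theorem mapU_smul {x' x : 𝒳.obj} (φ : x' ⟶ x) (U : (sch 𝒳 x).Opens) (h : ⊤ ≤ bmap 𝒳 φ ⁻¹ᵁ U)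
    (r : Γ(sch 𝒳 x, U)) (s : Γ(G.obj x, U)) :
    mapU G φ U h (r • s) = ((bmap 𝒳 φ).appLE U ⊤ h).hom r • mapU G φ U h s := by
  show (G.obj x').presheaf.map _ ((G.map φ rfl).app U (r • s)) = _
  rw [Scheme.Modules.Hom.app_smul]
  exact (G.obj x').map_smul (homOfLE h) ((bmap 𝒳 φ).app U r) ((G.map φ rfl).app U s)

theorem mapU_comp {x'' x' x : 𝒳.obj} (ψ : x'' ⟶ x') (φ : x' ⟶ x) (U : (sch 𝒳 x).Opens)
    (h : ⊤ ≤ bmap 𝒳 φ ⁻¹ᵁ U) (h' : ⊤ ≤ bmap 𝒳 (ψ ≫ φ) ⁻¹ᵁ U) (s : Γ(G.obj x, U)) :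
    G.mapTop ψ (mapU G φ U h s) = mapU G (ψ ≫ φ) U h' s := by
  show (G.map ψ rfl).app ⊤ ((G.obj x').presheaf.map (homOfLE h).op ((G.map φ rfl).app U s)) = _
  erw [(G.map ψ rfl).mapPresheaf.naturality_apply (homOfLE h).op]
  have key : ∀ {g : sch 𝒳 x'' ⟶ sch 𝒳 x} (hg : bmap 𝒳 (ψ ≫ φ) = g) (h'' : ⊤ ≤ g ⁻¹ᵁ U),
      (G.obj x'').presheaf.map (homOfLE h'').op ((G.map (ψ ≫ φ) hg).app U s) = mapU G (ψ ≫ φ) U h' s := by
    rintro g rfl h''
    rfl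
  have h'' : ⊤ ≤ (bmap 𝒳 ψ ≫ bmap 𝒳 φ) ⁻¹ᵁ U := by rw [← StMod.bmap_comp]; exact h'
  rw [← key (StMod.bmap_comp ψ φ) h'', G.map_comp_app ψ φ rfl rfl U]
  rfl

theorem mapU_of_le {x'' x' x : 𝒳.obj} (ψ : x'' ⟶ x') (φ : x' ⟶ x) (U : (sch 𝒳 x).Opens)
    {V : (sch 𝒳 x').Opens} (hV : V ≤ bmap 𝒳 φ ⁻¹ᵁ U) (h : ⊤ ≤ bmap 𝒳 ψ ⁻¹ᵁ V)
    (h' : ⊤ ≤ bmap 𝒳 (ψ ≫ φ) ⁻¹ᵁ U) (s : Γ(G.obj x, U)) :
    mapU G ψ V h ((G.obj x').presheaf.map (homOfLE hV).op ((G.map φ rfl).app U s)) = mapU G (ψ ≫ φ) U h' s := by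
  rw [mapU_res G ψ hV (h.trans ((bmap 𝒳 ψ).preimage_mono hV))]
  show (G.obj x'').presheaf.map _ ((G.map ψ rfl).app (bmap 𝒳 φ ⁻¹ᵁ U) ((G.map φ rfl).app U s)) = _
  have key : ∀ {g : sch 𝒳 x'' ⟶ sch 𝒳 x} (hg : bmap 𝒳 (ψ ≫ φ) = g) (h'' : ⊤ ≤ g ⁻¹ᵁ U),
      (G.obj x'').presheaf.map (homOfLE h'').op ((G.map (ψ ≫ φ) hg).app U s) = mapU G (ψ ≫ φ) U h' s := by
    rintro g rfl h''
    rfl
  have h'' : ⊤ ≤ (bmap 𝒳 ψ ≫ bmap 𝒳 φ) ⁻¹ᵁ U := by rw [← StMod.bmap_comp]; exact h'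
  rw [← key (StMod.bmap_comp ψ φ) h'', G.map_comp_app ψ φ rfl rfl U]
  rfl

theorem mapU_app {F G : StMod.Mod 𝒳} (v : F ⟶ G) {x' x : 𝒳.obj} (φ : x' ⟶ x) (U : (sch 𝒳 x).Opens)
    (h : ⊤ ≤ bmap 𝒳 φ ⁻¹ᵁ U) (s : Γ(F.obj x, U)) :
    mapU G φ U h ((v.app x).app U s) = (v.app x').app ⊤ (mapU F φ U h s) := by
  show (G.obj x').presheaf.map _ ((G.map φ rfl).app U ((v.app x).app U s)) =
    (v.app x').app ⊤ ((F.obj x').presheaf.map _ ((F.map φ rfl).app U s))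
  refine Eq.trans ?_ ((v.app x').mapPresheaf.naturality_apply (homOfLE h).op _).symm
  refine congrArg _ ?_
  have e := congrArg (fun k => Scheme.Modules.Hom.app k U s) (v.comm φ rfl)
  simp only [Scheme.Modules.Hom.comp_app, Scheme.Modules.pushforward_map_app] at e
  exact e.symm

variable {G} in
theorem isBC_mapU (hG : StMod.isQCoh 𝒳 G) {x' x : 𝒳.obj} (φ : x' ⟶ x) [IsAffine (sch 𝒳 x')]
    {U : (sch 𝒳 x).Opens} (hU : IsAffineOpen U) (h : ⊤ ≤ bmap 𝒳 φ ⁻¹ᵁ U) :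
    IsBC ((bmap 𝒳 φ).appLE U ⊤ h).hom (mapU G φ U h) := by
  have : (G.obj x).IsQuasicoherent := hG.2 x
  exact isBC_of_isIso_adjoint (bmap 𝒳 φ) (G.map φ rfl) (hG.1 φ rfl) hU (isAffineOpen_top _) h

end MapU

end Groth.Agent.H14.ModDesc
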