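import Groth.Agent.H14.ModDesc.Aff

/-!
Descent data for modules on a category of affine lifts, and the compatible families of sections.
-/

set_option autoImplicit false
set_option backward.isDefEq.respectTransparency false
set_option backward.isDefEq.respectTransparency.types false

universe u w v

open CategoryTheory CategoryTheory.Limits AlgebraicGeometry
open Groth.Agent.H14.GerbeDesc (JointlySurj)

namespace Groth.Agent.H14.ModDesc

/-- Modules on the global functions of a category of affine schemes over `T` ("lifts"), whose restriction maps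
depend only on the underlying morphisms of schemes; two lifts are locally related, and lifts cover `T` flatly. -/
structure Datum (T : Scheme.{u}) where
  /-- the lifts -/
  Obj : Type w
  /-- the affine scheme under a lift -/
  Z : Obj → Scheme.{u}
  isAffine : ∀ l, IsAffine (Z l)
  /-- the map to the base -/
  b : ∀ l, Z l ⟶ T
  /-- the morphisms of schemes that underlie a morphism of lifts -/
  Rel : ∀ {l' l : Obj}, (Z l' ⟶ Z l) → Prop
  rel_over : ∀ {l' l : Obj} {g : Z l' ⟶ Z l}, Rel g → g ≫ b l = b l'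
  rel_id : ∀ l, Rel (𝟙 (Z l))
  rel_comp : ∀ {l'' l' l : Obj} {g' : Z l'' ⟶ Z l'} {g : Z l' ⟶ Z l}, Rel g' → Rel g → Rel (g' ≫ g)
  /-- the module of a lift -/
  M : Obj → Type u
  [grp : ∀ l, AddCommGroup (M l)]
  [mod : ∀ l, Module Γ(Z l, ⊤) (M l)]
  /-- restriction -/
  res : ∀ {l' l : Obj} (g : Z l' ⟶ Z l), Rel g → M l →+ M l'
  res_id : ∀ l (x : M l), res (𝟙 (Z l)) (rel_id l) x = x
  res_comp : ∀ {l'' l' l : Obj} {g' : Z l'' ⟶ Z l'} {g : Z l' ⟶ Z l} (hg' : Rel g') (hg : Rel g) (x : M l),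
    res (g' ≫ g) (rel_comp hg' hg) x = res g' hg' (res g hg x)
  bc : ∀ {l' l : Obj} {g : Z l' ⟶ Z l} (hg : Rel g), IsBC g.appTop.hom (res g hg)
  pull : ∀ (l : Obj) {P : Scheme.{u}} [IsAffine P] (p : P ⟶ Z l),
    ∃ (l' : Obj) (e : Z l' ≅ P), Rel (e.hom ≫ p)
  factor : ∀ {E l' l : Obj} {g₁ : Z E ⟶ Z l} {g₂ : Z l' ⟶ Z l} {g : Z E ⟶ Z l'},
    Rel g₁ → Rel g₂ → g ≫ g₂ = g₁ → Rel g
  refine' : ∀ (l₁ l₂ : Obj) {P : Scheme.{u}} [IsAffine P] (p₁ : P ⟶ Z l₁) (p₂ : P ⟶ Z l₂),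
    p₁ ≫ b l₁ = p₂ ≫ b l₂ →
    ∃ (n : ℕ) (E : Fin n → Obj) (e : ∀ a, Z (E a) ⟶ P),
      (∀ a, Flat (e a)) ∧ (∀ x, ∃ a, x ∈ Set.range (e a)) ∧ ∀ a, Rel (e a ≫ p₁) ∧ Rel (e a ≫ p₂)
  cover : ∀ {V : T.Opens}, IsAffineOpen V → ∃ (n : ℕ) (k : Fin n → Obj) (c : ∀ a, Z (k a) ⟶ V.toScheme),
    (∀ a, c a ≫ V.ι = b (k a)) ∧ (∀ a, Flat (c a)) ∧ ∀ x, ∃ a, x ∈ Set.range (c a)

attribute [instance] Datum.grp Datum.mod Datum.isAffine

namespace Datum

variable {T : Scheme.{u}} (D : Datum.{u, w} T)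

theorem res_congr {l' l : D.Obj} {g g' : D.Z l' ⟶ D.Z l} (h : g = g') (hg : D.Rel g) (hg' : D.Rel g') (x : D.M l) :
    D.res g hg x = D.res g' hg' x := by
  subst h
  rfl

/-- Two paths with the same underlying morphism restrict in the same way. -/
theorem res_res_eq {l₀ l₁ l₂ l : D.Obj} {a : D.Z l₀ ⟶ D.Z l₁} {b : D.Z l₁ ⟶ D.Z l} {a' : D.Z l₀ ⟶ D.Z l₂}
    {b' : D.Z l₂ ⟶ D.Z l} (ha : D.Rel a) (hb : D.Rel b) (ha' : D.Rel a') (hb' : D.Rel b')
    (h : a ≫ b = a' ≫ b') (x : D.M l) : D.res a ha (D.res b hb x) = D.res a' ha' (D.res b' hb' x) := by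
  rw [← D.res_comp, ← D.res_comp]
  exact D.res_congr h _ _ x

/-- A family of lifts related to `l`, flat and jointly surjective. -/
structure Cov (l : D.Obj) (J : Type v) where
  /-- the members -/
  E : J → D.Obj
  /-- the maps -/
  e : ∀ a, D.Z (E a) ⟶ D.Z l
  rel : ∀ a, D.Rel (e a)
  flat : ∀ a, Flat (e a)
  surj : ∀ x, ∃ a, x ∈ Set.range (e a)

variable {D}

theorem Cov.eq_of_res {l : D.Obj} {J : Type v} (C : D.Cov l J) {x y : D.M l}
    (h : ∀ a, D.res (C.e a) (C.rel a) x = D.res (C.e a) (C.rel a) y) : x = y := by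
  let : ∀ a, Algebra Γ(D.Z l, ⊤) Γ(D.Z (C.E a), ⊤) := fun a => (C.e a).appTop.hom.toAlgebra
  have : ∀ a, Module.Flat Γ(D.Z l, ⊤) Γ(D.Z (C.E a), ⊤) := fun a =>
    have := C.flat a
    flat_appTop (C.e a)
  rw [← sub_eq_zero]
  refine eq_zero_of_isBC (fun a => Γ(D.Z (C.E a), ⊤)) (jointlySurj_appTop C.e (fun a => rfl) C.surj)
    (fun a => D.res (C.e a) (C.rel a)) (fun a => D.bc (C.rel a)) _ fun a => ?_
  rw [map_sub, h, sub_self]

theorem Cov.exists_glue {l : D.Obj} {J : Type v} [Finite J] (C : D.Cov l J) (y : ∀ a, D.M (C.E a))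
    (hy : ∀ a a' (d : D.Obj) (q : D.Z d ⟶ D.Z (C.E a)) (q' : D.Z d ⟶ D.Z (C.E a')) (hq : D.Rel q) (hq' : D.Rel q'),
      q ≫ C.e a = q' ≫ C.e a' → D.res q hq (y a) = D.res q' hq' (y a')) :
    ∃ x, ∀ a, D.res (C.e a) (C.rel a) x = y a := by
  let : ∀ a, Algebra Γ(D.Z l, ⊤) Γ(D.Z (C.E a), ⊤) := fun a => (C.e a).appTop.hom.toAlgebra
  have : ∀ a, Module.Flat Γ(D.Z l, ⊤) Γ(D.Z (C.E a), ⊤) := fun a =>
    have := C.flat a
    flat_appTop (C.e a)
  refine ModDesc.exists_glue (fun a => Γ(D.Z (C.E a), ⊤)) (jointlySurj_appTop C.e (fun a => rfl) C.surj)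
    (fun a => D.res (C.e a) (C.rel a)) (fun a => D.bc (C.rel a)) y fun a a' => ?_
  obtain ⟨d, i, hd⟩ := D.pull (C.E a) (pullback.fst (C.e a) (C.e a'))
  have hP : IsPullback (i.hom ≫ pullback.fst (C.e a) (C.e a')) (i.hom ≫ pullback.snd (C.e a) (C.e a'))
      (C.e a) (C.e a') :=
    (IsPullback.of_hasPullback (C.e a) (C.e a')).of_iso i.symm (Iso.refl _) (Iso.refl _) (Iso.refl _)
      (by simp) (by simp) (by simp) (by simp)
  have hd' : D.Rel (i.hom ≫ pullback.snd (C.e a) (C.e a')) :=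
    D.factor (D.rel_comp hd (C.rel a)) (C.rel a') hP.w.symm
  obtain ⟨alg, i₁, i₂, h₁, h₂, hbij⟩ := exists_algHom hP rfl rfl
  refine ⟨Γ(D.Z d, ⊤), inferInstance, alg, i₁, i₂, hbij, D.M d, inferInstance, inferInstance, D.res _ hd, D.res _ hd',
    (D.bc hd').congr h₂.symm rfl, fun r x => ?_, fun x => D.res_res_eq hd (C.rel a) hd' (C.rel a') hP.w x,
    hy a a' d _ _ hd hd' hP.w⟩
  rw [h₁]
  exact (D.bc hd).sl r x

variable (D)

/-- Compatible families of elements on the lifts over `W`. -/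
def Fam {W : Scheme.{u}} (h : W ⟶ T) : AddSubgroup (∀ (l : D.Obj), {c : D.Z l ⟶ W // c ≫ h = D.b l} → D.M l) where
  carrier := {s | ∀ ⦃l' l : D.Obj⦄ (g : D.Z l' ⟶ D.Z l) (hg : D.Rel g) (c : D.Z l ⟶ W) (hc : c ≫ h = D.b l),
    D.res g hg (s l ⟨c, hc⟩) = s l' ⟨g ≫ c, by rw [Category.assoc, hc, D.rel_over hg]⟩}
  zero_mem' := fun l' l g hg c hc => map_zero _
  add_mem' := fun {a b} ha hb l' l g hg c hc => by
    simp only [Pi.add_apply, map_add]
    rw [ha g hg c hc, hb g hg c hc]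
  neg_mem' := fun {a} ha l' l g hg c hc => by
    simp only [Pi.neg_apply, map_neg]
    exact congrArg Neg.neg (ha g hg c hc)

variable {D} {W W' : Scheme.{u}} {h : W ⟶ T} {h' : W' ⟶ T}

theorem fam_congr (s : D.Fam h) {l : D.Obj} {c c' : D.Z l ⟶ W} (e : c = c') (hc : c ≫ h = D.b l)
    (hc' : c' ≫ h = D.b l) : s.1 l ⟨c, hc⟩ = s.1 l ⟨c', hc'⟩ := by
  subst e
  rfl

@[ext] theorem fam_ext {s t : D.Fam h} (H : ∀ l c hc, s.1 l ⟨c, hc⟩ = t.1 l ⟨c, hc⟩) : s = t :=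
  Subtype.ext (funext fun l => funext fun c => H l c.1 c.2)

noncomputable instance famModule : Module Γ(W, ⊤) (D.Fam h) where
  smul r s := ⟨fun l c => c.1.appTop.hom r • s.1 l c, fun l' l g hg c hc => by
    show D.res g hg (c.appTop.hom r • s.1 l ⟨c, hc⟩) = (g ≫ c).appTop.hom r • s.1 l' ⟨g ≫ c, _⟩
    rw [(D.bc hg).sl, s.2 g hg c hc, appTop_comp_hom]
    rfl⟩
  one_smul s := fam_ext fun l c hc => by
    show c.appTop.hom 1 • s.1 l ⟨c, hc⟩ = _
    rw [map_one, one_smul]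
  mul_smul r r' s := fam_ext fun l c hc => by
    show c.appTop.hom (r * r') • s.1 l ⟨c, hc⟩ = c.appTop.hom r • c.appTop.hom r' • s.1 l ⟨c, hc⟩
    rw [map_mul, mul_smul]
  smul_zero r := fam_ext fun l c hc => smul_zero _
  smul_add r s t := fam_ext fun l c hc => smul_add _ _ _
  add_smul r r' s := fam_ext fun l c hc => by
    show c.appTop.hom (r + r') • s.1 l ⟨c, hc⟩ = c.appTop.hom r • s.1 l ⟨c, hc⟩ + c.appTop.hom r' • s.1 l ⟨c, hc⟩
    rw [map_add, add_smul]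
  zero_smul s := fam_ext fun l c hc => by
    show c.appTop.hom 0 • s.1 l ⟨c, hc⟩ = 0
    rw [map_zero, zero_smul]

theorem smul_val (r : Γ(W, ⊤)) (s : D.Fam h) (l : D.Obj) (c : D.Z l ⟶ W) (hc : c ≫ h = D.b l) :
    (r • s).1 l ⟨c, hc⟩ = c.appTop.hom r • s.1 l ⟨c, hc⟩ := rfl

/-- Evaluation at a lift. -/
def ev (l : D.Obj) (c : D.Z l ⟶ W) (hc : c ≫ h = D.b l) : D.Fam h →+ D.M l where
  toFun s := s.1 l ⟨c, hc⟩
  map_zero' := rfl
  map_add' _ _ := rfl

theorem isSL_ev (l : D.Obj) (c : D.Z l ⟶ W) (hc : c ≫ h = D.b l) :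
    IsSL c.appTop.hom (ev (h := h) l c hc) :=
  fun _ _ => rfl

/-- Restriction of families along a morphism over `T`. -/
def restr (j : W' ⟶ W) (hj : j ≫ h = h') : D.Fam h →+ D.Fam h' where
  toFun s := ⟨fun l c => s.1 l ⟨c.1 ≫ j, by rw [Category.assoc, hj, c.2]⟩,
    fun l' l g hg c hc => (s.2 g hg _ _).trans (fam_congr s (Category.assoc _ _ _).symm _ _)⟩
  map_zero' := rfl
  map_add' _ _ := rfl

theorem isSL_restr (j : W' ⟶ W) (hj : j ≫ h = h') : IsSL j.appTop.hom (restr (D := D) j hj) := fun r s =>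
  fam_ext fun l c hc => by
    show (c ≫ j).appTop.hom r • s.1 l ⟨_, _⟩ = c.appTop.hom (j.appTop.hom r) • s.1 l ⟨_, _⟩
    rw [appTop_comp_hom]
    rfl

/-- A finite flat cover of `W` by lifts. -/
structure WCov (D : Datum.{u, w} T) {W : Scheme.{u}} (h : W ⟶ T) (n : ℕ) where
  /-- the members -/
  k : Fin n → D.Obj
  /-- the maps -/
  c : ∀ a, D.Z (k a) ⟶ W
  hc : ∀ a, c a ≫ h = D.b (k a)
  flat : ∀ a, Flat (c a)
  surj : ∀ x, ∃ a, x ∈ Set.range (c a)

namespace WCov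

variable [IsAffine W] {n : ℕ} (K : D.WCov h n)

/-- Lifts covering the fibre products of a lift over `W` with the members. -/
theorem exists_cov (l : D.Obj) (c : D.Z l ⟶ W) (hc : c ≫ h = D.b l) :
    ∃ (J : Type) (_ : Finite J) (C : D.Cov l J) (i : J → Fin n) (q : ∀ a, D.Z (C.E a) ⟶ D.Z (K.k (i a))),
      ∀ a, D.Rel (q a) ∧ q a ≫ K.c (i a) = C.e a ≫ c := by
  have w : ∀ i, pullback.fst c (K.c i) ≫ D.b l = pullback.snd c (K.c i) ≫ D.b (K.k i) := fun i => by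
    rw [← hc, ← K.hc i, pullback.condition_assoc]
  choose m E e hfl hsurj hrel using fun i => D.refine' l (K.k i) (pullback.fst c (K.c i)) (pullback.snd c (K.c i)) (w i)
  refine ⟨Σ i, Fin (m i), inferInstance,
    { E := fun a => E a.1 a.2
      e := fun a => e a.1 a.2 ≫ pullback.fst c (K.c a.1)
      rel := fun a => (hrel a.1 a.2).1
      flat := fun a => by
        have := K.flat a.1
        have := hfl a.1 a.2
        infer_instance
      surj := fun x => by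
        obtain ⟨i, y, hy⟩ := K.surj (c x)
        obtain ⟨z, hz, -⟩ := Scheme.Pullback.exists_preimage_pullback (f := c) (g := K.c i) x y hy.symm
        obtain ⟨a, t, rfl⟩ := hsurj i z
        exact ⟨⟨i, a⟩, t, hz⟩ },
    fun a => a.1, fun a => e a.1 a.2 ≫ pullback.snd c (K.c a.1), fun a => ⟨(hrel a.1 a.2).2, ?_⟩⟩
  simp [pullback.condition]

theorem eq_of_ev {s t : D.Fam h} (H : ∀ a, s.1 (K.k a) ⟨(K.c a), (K.hc a)⟩ = t.1 (K.k a) ⟨(K.c a), (K.hc a)⟩) : s = t := by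
  refine fam_ext fun l c hc => ?_
  obtain ⟨J, _, C, i, q, hq⟩ := K.exists_cov l c hc
  refine C.eq_of_res fun a => ?_
  rw [s.2 _ (C.rel a) c hc, t.2 _ (C.rel a) c hc, fam_congr s (hq a).2.symm _ (by rw [Category.assoc, K.hc, D.rel_over (hq a).1]),
    fam_congr t (hq a).2.symm _ (by rw [Category.assoc, K.hc, D.rel_over (hq a).1]), ← s.2 _ (hq a).1 _ (K.hc _), ← t.2 _ (hq a).1 _ (K.hc _), H]

/-- A family of values at the members agreeing on all common lifts. -/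
def Compat (m : ∀ a, D.M (K.k a)) : Prop :=
  ∀ a a' (d : D.Obj) (q : D.Z d ⟶ D.Z (K.k a)) (q' : D.Z d ⟶ D.Z (K.k a')) (hq : D.Rel q) (hq' : D.Rel q'),
    q ≫ K.c a = q' ≫ K.c a' → D.res q hq (m a) = D.res q' hq' (m a')

theorem compat_of_fam (s : D.Fam h) : K.Compat fun a => s.1 (K.k a) ⟨(K.c a), (K.hc a)⟩ :=
  fun a a' d q q' hq hq' e => by
    rw [s.2 q hq, s.2 q' hq']
    exact fam_congr s e _ _

theorem exists_fam (m : ∀ a, D.M (K.k a)) (hm : K.Compat m) :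
    ∃ s : D.Fam h, ∀ a, s.1 (K.k a) ⟨(K.c a), (K.hc a)⟩ = m a := by
  have key : ∀ (l : D.Obj) (c : D.Z l ⟶ W) (_ : c ≫ h = D.b l), ∃ x : D.M l,
      ∀ (d : D.Obj) (g : D.Z d ⟶ D.Z l) (hg : D.Rel g) (a : Fin n) (q : D.Z d ⟶ D.Z (K.k a)) (hq : D.Rel q),
        q ≫ K.c a = g ≫ c → D.res g hg x = D.res q hq (m a) := by
    intro l c hc
    obtain ⟨J, _, C, i, q, hq⟩ := K.exists_cov l c hc
    obtain ⟨x, hx⟩ := C.exists_glue (fun a => D.res (q a) (hq a).1 (m (i a))) fun a a' d p p' hp hp' e => by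
      rw [← D.res_comp, ← D.res_comp]
      exact hm _ _ _ _ _ _ _ (by rw [Category.assoc, Category.assoc, (hq a).2, (hq a').2, reassoc_of% e])
    refine ⟨x, fun d g hg a p hp e => ?_⟩
    -- compare on lifts related to `d` and to a member of the first cover
    choose m' E' e' hfl' hsurj' hrel' using fun (a : J) =>
      D.refine' d (C.E a) (pullback.fst g (C.e a)) (pullback.snd g (C.e a))
        (by rw [← D.rel_over hg, ← D.rel_over (C.rel a), pullback.condition_assoc])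
    let C'' : D.Cov d (Σ a, Fin (m' a)) :=
      { E := fun b => E' b.1 b.2
        e := fun b => e' b.1 b.2 ≫ pullback.fst g (C.e b.1)
        rel := fun b => (hrel' b.1 b.2).1
        flat := fun b => by
          have := C.flat b.1
          have := hfl' b.1 b.2
          infer_instance
        surj := fun z => by
          obtain ⟨a, y, hy⟩ := C.surj (g z)
          obtain ⟨t, ht, -⟩ := Scheme.Pullback.exists_preimage_pullback (f := g) (g := C.e a) z y hy.symm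
          obtain ⟨b, v, rfl⟩ := hsurj' a t
          exact ⟨⟨a, b⟩, v, ht⟩ }
    refine C''.eq_of_res fun b => ?_
    have e1 : C''.e b ≫ g = (e' b.1 b.2 ≫ pullback.snd g (C.e b.1)) ≫ C.e b.1 := by
      simp [C'', pullback.condition]
    rw [D.res_res_eq (C''.rel b) hg (hrel' b.1 b.2).2 (C.rel b.1) e1, hx, ← D.res_comp, ← D.res_comp]
    refine hm _ _ _ _ _ _ _ ?_
    simp only [Category.assoc, (hq b.1).2, e]
    simpa using ((reassoc_of% e1) c).symm
  choose x hx using key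
  refine ⟨⟨fun l c => x l c.1 c.2, fun l' l g hg c hc => ?_⟩, fun a => ?_⟩
  · obtain ⟨J, _, C, i, q, hq⟩ := K.exists_cov l' (g ≫ c) (by rw [Category.assoc, hc, D.rel_over hg])
    refine C.eq_of_res fun a => ?_
    rw [hx l' _ _ _ _ (C.rel a) _ _ (hq a).1 (hq a).2, ← D.res_comp]
    exact hx l c hc _ _ _ _ _ _ (by rw [(hq a).2, Category.assoc])
  · have := hx (K.k a) (K.c a) (K.hc a) (K.k a) (𝟙 _) (D.rel_id _) a (𝟙 _) (D.rel_id _) rfl
    rwa [D.res_id, D.res_id] at this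

end WCov

/-- The value of a family at a lift, as the families over that lift. -/
theorem bijective_ev_self (l : D.Obj) : Function.Bijective (ev (D := D) (h := D.b l) l (𝟙 _) (Category.id_comp _)) := by
  let K : D.WCov (D.b l) 1 := ⟨fun _ => l, fun _ => 𝟙 _, fun _ => Category.id_comp _, fun _ => inferInstance,
    fun x => ⟨0, x, rfl⟩⟩
  refine ⟨fun s t e => K.eq_of_ev fun _ => e, fun m => ?_⟩
  obtain ⟨s, hs⟩ := K.exists_fam (fun _ => m) fun a a' d q q' hq hq' e => D.res_congr (by simpa [K] using e) hq hq' m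
  exact ⟨s, hs 0⟩

end Datum

end Groth.Agent.H14.ModDesc
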