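import Groth.Agent.H14.ModDesc.Datum

/-!
The formation of compatible families commutes with flat affine base change; evaluation at a lift is a
base change map.
-/

set_option autoImplicit false
set_option backward.isDefEq.respectTransparency false
set_option backward.isDefEq.respectTransparency.types false
set_option linter.style.haveILetI false

universe u w

open CategoryTheory CategoryTheory.Limits AlgebraicGeometry TensorProduct

namespace Groth.Agent.H14.ModDesc

namespace Datum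

variable {T : Scheme.{u}} {D : Datum.{u, w} T} {W W' : Scheme.{u}} {h : W ⟶ T} {h' : W' ⟶ T}
  [IsAffine W] [IsAffine W']

/-- A pulled back lift, with the resulting base change bijection. -/
theorem exists_pulled (j : W' ⟶ W) (hj : j ≫ h = h') (l : D.Obj) (c : D.Z l ⟶ W) (hc : c ≫ h = D.b l)
    [Algebra Γ(W, ⊤) Γ(W', ⊤)] (halg : algebraMap Γ(W, ⊤) Γ(W', ⊤) = j.appTop.hom)
    [Module Γ(W, ⊤) (D.M l)] (hmod : ∀ (r : Γ(W, ⊤)) (m : D.M l), r • m = c.appTop.hom r • m) :
    ∃ (l' : D.Obj) (c' : D.Z l' ⟶ W') (g : D.Z l' ⟶ D.Z l) (hg : D.Rel g), IsPullback c' g j c ∧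
      c' ≫ h' = D.b l' ∧
      ∃ f : Γ(W', ⊤) ⊗[Γ(W, ⊤)] D.M l →+ D.M l', Function.Bijective f ∧
        ∀ b m, f (b ⊗ₜ m) = c'.appTop.hom b • D.res g hg m := by
  obtain ⟨l', i, hl'⟩ := D.pull l (pullback.snd j c)
  have hP : IsPullback (i.hom ≫ pullback.fst j c) (i.hom ≫ pullback.snd j c) j c :=
    (IsPullback.of_hasPullback j c).of_iso i.symm (Iso.refl _) (Iso.refl _) (Iso.refl _)
      (by simp) (by simp) (by simp) (by simp)
  let := c.appTop.hom.toAlgebra
  have : IsScalarTower Γ(W, ⊤) Γ(D.Z l, ⊤) (D.M l) := IsScalarTower.of_algebraMap_smul fun r m => (hmod r m).symm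
  obtain ⟨alg, i₁, i₂, h₁, h₂, hb⟩ := exists_algHom hP halg rfl
  refine ⟨l', _, _, hl', hP, by rw [← hj, hP.w_assoc, hc, D.rel_over hl'], ?_⟩
  have hbc : IsBC i₂.toRingHom (D.res _ hl') := (D.bc hl').congr h₂.symm rfl
  let f : Γ(W', ⊤) ⊗[Γ(W, ⊤)] D.M l →+ D.M l' := TensorProduct.liftAddHom
    { toFun := fun b => (DistribSMul.toAddMonoidHom (D.M l') (i₁ b)).comp (D.res _ hl')
      map_zero' := by ext m; simp
      map_add' := fun b b' => by ext m; simp [add_smul] }
    (fun r b m => by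
      show i₁ (r • b) • D.res _ hl' m = i₁ b • D.res _ hl' (r • m)
      rw [hmod, hbc.sl, map_smul, Algebra.smul_def, smul_smul, mul_comm]
      congr 2
      exact (i₂.commutes r).symm)
  refine ⟨f, bijective_of_pushout i₁ i₂ hb hbc f fun b m => rfl, fun b m => ?_⟩
  show i₁ b • D.res _ hl' m = _
  rw [← h₁]
  rfl

namespace WCov

variable {n : ℕ} (K : D.WCov h n)

include K

/-- Flat affine base change. -/
theorem isBC_restr (j : W' ⟶ W) [Flat j] (hj : j ≫ h = h') : IsBC j.appTop.hom (restr (D := D) j hj) := by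
  classical
  let := j.appTop.hom.toAlgebra
  have : Module.Flat Γ(W, ⊤) Γ(W', ⊤) := flat_appTop j
  refine (isBC_iff rfl).2 ⟨isSL_restr j hj, ?_⟩
  let : ∀ a, Module Γ(W, ⊤) (D.M (K.k a)) := fun a => Module.compHom _ (K.c a).appTop.hom
  choose m E e hfl hsurj hrel using fun (x : Fin n × Fin n) => D.refine' (K.k x.1) (K.k x.2)
    (pullback.fst (K.c x.1) (K.c x.2)) (pullback.snd (K.c x.1) (K.c x.2))
    (by rw [← K.hc, ← K.hc, pullback.condition_assoc])
  let X := Σ x : Fin n × Fin n, Fin (m x)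
  let cE : ∀ x : X, D.Z (E x.1 x.2) ⟶ W := fun x => e x.1 x.2 ≫ pullback.fst _ _ ≫ K.c x.1.1
  have hcE : ∀ x : X, cE x ≫ h = D.b (E x.1 x.2) := fun x => by
    rw [← D.rel_over (hrel x.1 x.2).1, ← K.hc]
    simp [cE]
  have hcE' : ∀ x : X, e x.1 x.2 ≫ pullback.snd _ _ ≫ K.c x.1.2 = cE x := fun x => by
    simp [cE, pullback.condition]
  let : ∀ x : X, Module Γ(W, ⊤) (D.M (E x.1 x.2)) := fun x => Module.compHom _ (cE x).appTop.hom
  let iota : D.Fam h →ₗ[Γ(W, ⊤)] ∀ a, D.M (K.k a) :=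
    { toFun := fun s a => s.1 (K.k a) ⟨K.c a, K.hc a⟩
      map_add' := fun s t => rfl
      map_smul' := fun r s => rfl }
  let d₁ : (∀ a, D.M (K.k a)) →ₗ[Γ(W, ⊤)] ∀ x : X, D.M (E x.1 x.2) :=
    { toFun := fun v x => D.res _ (hrel x.1 x.2).1 (v x.1.1) - D.res _ (hrel x.1 x.2).2 (v x.1.2)
      map_add' := fun v v' => funext fun x => by
        simp only [Pi.add_apply, map_add]
        abel
      map_smul' := fun r v => funext fun x => by
        show D.res _ _ ((K.c x.1.1).appTop.hom r • v x.1.1) - D.res _ _ ((K.c x.1.2).appTop.hom r • v x.1.2) =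
          (cE x).appTop.hom r • (D.res _ (hrel x.1 x.2).1 (v x.1.1) - D.res _ (hrel x.1 x.2).2 (v x.1.2))
        rw [(D.bc _).sl, (D.bc _).sl, smul_sub]
        congr 2
        all_goals rw [← RingHom.comp_apply, ← appTop_comp_hom, Category.assoc]
        all_goals rw [hcE'] }
  have hinj : Function.Injective iota := fun s t e' => K.eq_of_ev fun a => congrFun e' a
  have hexact : Function.Exact iota d₁ := by
    intro v
    refine ⟨fun hv => ?_, ?_⟩
    · refine (K.exists_fam v fun a a' d q q' hq hq' hqq => ?_).imp fun s hs => funext hs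
      let P := pullback (K.c a) (K.c a')
      let q'' : D.Z d ⟶ P := pullback.lift q q' hqq
      choose m' E' e' hfl' hsurj' hrel' using fun (i : Fin (m (a, a'))) =>
        D.refine' d (E (a, a') i) (pullback.fst q'' (e (a, a') i)) (pullback.snd q'' (e (a, a') i)) (by
          rw [← D.rel_over hq, ← D.rel_over (hrel (a, a') i).1, Category.assoc, ← pullback.condition_assoc]
          simp [q''])
      let C : D.Cov d (Σ i, Fin (m' i)) :=
        { E := fun b => E' b.1 b.2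
          e := fun b => e' b.1 b.2 ≫ pullback.fst q'' (e (a, a') b.1)
          rel := fun b => (hrel' b.1 b.2).1
          flat := fun b => by
            have := hfl (a, a') b.1
            have := hfl' b.1 b.2
            infer_instance
          surj := fun z => by
            obtain ⟨i, y, hy⟩ := hsurj (a, a') (q'' z)
            obtain ⟨t, ht, -⟩ := Scheme.Pullback.exists_preimage_pullback (f := q'') (g := e (a, a') i) z y hy.symm
            obtain ⟨b, v, rfl⟩ := hsurj' i t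
            exact ⟨⟨i, b⟩, v, ht⟩ }
      refine C.eq_of_res fun b => ?_
      have e1 : C.e b ≫ q = (e' b.1 b.2 ≫ pullback.snd q'' (e (a, a') b.1)) ≫
          e (a, a') b.1 ≫ pullback.fst (K.c a) (K.c a') := by
        simp [C, ← pullback.condition_assoc, q'']
      have e2 : C.e b ≫ q' = (e' b.1 b.2 ≫ pullback.snd q'' (e (a, a') b.1)) ≫
          e (a, a') b.1 ≫ pullback.snd (K.c a) (K.c a') := by
        simp [C, ← pullback.condition_assoc, q'']
      rw [D.res_res_eq _ hq (hrel' b.1 b.2).2 (hrel (a, a') b.1).1 e1,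
        D.res_res_eq _ hq' (hrel' b.1 b.2).2 (hrel (a, a') b.1).2 e2]
      exact congrArg _ (sub_eq_zero.1 (congrFun hv ⟨(a, a'), b.1⟩))
    · rintro ⟨s, rfl⟩
      refine funext fun x => sub_eq_zero.2 ?_
      exact K.compat_of_fam s _ _ _ _ _ _ _ (by simpa [cE] using (hcE' x).symm)
  choose k' c' g hg hP hc' f hf hfm using fun a =>
    exists_pulled (D := D) j hj (K.k a) (K.c a) (K.hc a) rfl (fun _ _ => rfl)
  choose E'' cE'' gE hgE hPE hcE'' fE hfE hfEm using fun x : X =>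
    exists_pulled (D := D) j hj (E x.1 x.2) (cE x) (hcE x) rfl (fun _ _ => rfl)
  let K' : D.WCov h' n := ⟨k', c', hc', fun a => by
      have := K.flat a
      exact MorphismProperty.of_isPullback (P := @Flat) (hP a).flip this,
    fun x => by
      obtain ⟨a, y, hy⟩ := K.surj (j x)
      obtain ⟨t, ht, -⟩ := Scheme.exists_preimage_of_isPullback (hP a) x y hy.symm
      exact ⟨a, t, ht⟩⟩
  let F : Γ(W', ⊤) ⊗[Γ(W, ⊤)] (∀ a, D.M (K.k a)) → ∀ a, D.M (k' a) := fun y a =>
    f a (TensorProduct.piRight Γ(W, ⊤) Γ(W, ⊤) Γ(W', ⊤) (fun a => D.M (K.k a)) y a)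
  have hFinj : Function.Injective F := fun y y' e' =>
    (TensorProduct.piRight _ _ _ _).injective (funext fun a => (hf a).injective (congrFun e' a))
  have hF0 : F 0 = 0 := funext fun a => by simp [F]
  have key : ∀ x a, F (iota.lTensor _ x) a =
      (bcMap Γ(W, ⊤) Γ(W', ⊤) (restr (D := D) j hj) (isSL_restr j hj) x).1 (k' a) ⟨c' a, hc' a⟩ := by
    intro x a
    induction x with
    | zero => simp [F]
    | tmul b s =>
      show f a (b ⊗ₜ s.1 (K.k a) ⟨K.c a, K.hc a⟩) = (c' a).appTop.hom b • s.1 (k' a) ⟨c' a ≫ j, _⟩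
      rw [hfm, s.2 _ (hg a)]
      exact congrArg _ (fam_congr s (hP a).w.symm _ _)
    | add x y hx hy =>
      simp only [F, map_add, Pi.add_apply] at hx hy ⊢
      rw [hx, hy]
      rfl
  refine ⟨fun x x' e' => Module.Flat.lTensor_preserves_injective_linearMap iota hinj (hFinj (funext fun a => ?_)),
    fun s' => ?_⟩
  · rw [key, key, e']
  obtain ⟨z, hz⟩ := (TensorProduct.piRight Γ(W, ⊤) Γ(W, ⊤) Γ(W', ⊤) (fun a => D.M (K.k a))).surjective
    fun a => ((hf a).surjective (s'.1 (k' a) ⟨c' a, hc' a⟩)).choose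
  have hzF : ∀ a, F z a = s'.1 (k' a) ⟨c' a, hc' a⟩ := fun a => by
    simp only [F, hz]
    exact ((hf a).surjective (s'.1 (k' a) ⟨c' a, hc' a⟩)).choose_spec
  have hd : d₁.lTensor Γ(W', ⊤) z = 0 := by
    apply (TensorProduct.piRight Γ(W, ⊤) Γ(W, ⊤) Γ(W', ⊤) (fun x : X => D.M (E x.1 x.2))).injective
    rw [map_zero]
    refine funext fun x => (hfE x).injective ?_
    show fE x _ = fE x 0
    rw [map_zero]
    let q₁ : D.Z (E'' x) ⟶ D.Z (k' x.1.1) := (hP x.1.1).lift (cE'' x) (gE x ≫ e x.1 x.2 ≫ pullback.fst _ _)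
      (by rw [(hPE x).w]; simp [cE])
    let q₂ : D.Z (E'' x) ⟶ D.Z (k' x.1.2) := (hP x.1.2).lift (cE'' x) (gE x ≫ e x.1 x.2 ≫ pullback.snd _ _)
      (by rw [(hPE x).w, ← hcE']; simp)
    have hq₁ : D.Rel q₁ := D.factor (D.rel_comp (hgE x) (hrel x.1 x.2).1) (hg _) ((hP _).lift_snd _ _ _)
    have hq₂ : D.Rel q₂ := D.factor (D.rel_comp (hgE x) (hrel x.1 x.2).2) (hg _) ((hP _).lift_snd _ _ _)
    have hall : ∀ w, fE x (TensorProduct.piRight Γ(W, ⊤) Γ(W, ⊤) Γ(W', ⊤) (fun x : X => D.M (E x.1 x.2))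
        (d₁.lTensor Γ(W', ⊤) w) x) = D.res q₁ hq₁ (F w x.1.1) - D.res q₂ hq₂ (F w x.1.2) := by
      intro w
      induction w with
      | zero => simp [hF0]
      | tmul b v =>
        show fE x (b ⊗ₜ (D.res _ _ (v x.1.1) - D.res _ _ (v x.1.2))) =
          D.res q₁ hq₁ (f x.1.1 (b ⊗ₜ v x.1.1)) - D.res q₂ hq₂ (f x.1.2 (b ⊗ₜ v x.1.2))
        rw [tmul_sub, map_sub, hfEm, hfEm, hfm, hfm, (D.bc hq₁).sl, (D.bc hq₂).sl,
          D.res_res_eq (hgE x) (hrel x.1 x.2).1 hq₁ (hg _) ((hP _).lift_snd _ _ _).symm,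
          D.res_res_eq (hgE x) (hrel x.1 x.2).2 hq₂ (hg _) ((hP _).lift_snd _ _ _).symm,
          ← RingHom.comp_apply, ← appTop_comp_hom, ← RingHom.comp_apply, ← appTop_comp_hom,
          (hP _).lift_fst, (hP _).lift_fst]
      | add y y' hy hy' =>
        simp only [F, map_add, Pi.add_apply] at hy hy' ⊢
        rw [hy, hy']
        abel
    rw [hall, hzF, hzF, s'.2 _ hq₁, s'.2 _ hq₂, sub_eq_zero]
    exact fam_congr s' (((hP _).lift_fst _ _ _).trans ((hP _).lift_fst _ _ _).symm) _ _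
  obtain ⟨x, hx⟩ := (Module.Flat.lTensor_exact Γ(W', ⊤) hexact z).1 hd
  refine ⟨x, K'.eq_of_ev fun a => ?_⟩
  show _ = s'.1 (k' a) ⟨c' a, hc' a⟩
  rw [← hzF, ← hx]
  exact (key x a).symm

omit [IsAffine W'] in
/-- Evaluation at a lift over an affine scheme is a base change map. -/
theorem isBC_ev (l : D.Obj) (c : D.Z l ⟶ W) (hc : c ≫ h = D.b l) :
    IsBC c.appTop.hom (ev (h := h) l c hc) := by
  have hflat : ∀ a, IsBC (K.c a).appTop.hom (ev (h := h) (K.k a) (K.c a) (K.hc a)) := fun a => by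
    have := K.flat a
    refine ((K.isBC_restr (K.c a) (K.hc a)).comp
      (isBC_of_bijective (φ := RingHom.id Γ(D.Z (K.k a), ⊤)) Function.bijective_id (fun r s => ?_)
        (bijective_ev_self (K.k a)))).congr (RingHom.id_comp _) ?_
    · show (Scheme.Hom.appTop (𝟙 (D.Z (K.k a)))).hom r • ev (h := D.b (K.k a)) (K.k a) (𝟙 _) (Category.id_comp _) s = _
      rw [Scheme.Hom.id_appTop]
      rfl
    · ext s
      exact fam_congr s (Category.id_comp _) _ _
  obtain ⟨J, _, C, i, q, hq⟩ := K.exists_cov l c hc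
  let : ∀ a, Algebra Γ(D.Z l, ⊤) Γ(D.Z (C.E a), ⊤) := fun a => (C.e a).appTop.hom.toAlgebra
  have : ∀ a, Module.Flat Γ(D.Z l, ⊤) Γ(D.Z (C.E a), ⊤) := fun a =>
    have := C.flat a
    flat_appTop (C.e a)
  refine IsBC.of_locally (jointlySurj_appTop C.e (fun a => rfl) C.surj) (isSL_ev l c hc)
    (fun a => D.res (C.e a) (C.rel a)) (fun a => D.bc (C.rel a)) fun a => ?_
  refine ((hflat (i a)).comp (D.bc (hq a).1)).congr ?_ ?_
  · show _ = (C.e a).appTop.hom.comp c.appTop.hom
    rw [← appTop_comp_hom, ← appTop_comp_hom, (hq a).2]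
  · ext s
    show D.res _ _ (s.1 _ _) = D.res _ _ (s.1 _ _)
    rw [s.2 _ (hq a).1, s.2 _ (C.rel a)]
    exact fam_congr s (hq a).2 _ _

end WCov

end Datum

end Groth.Agent.H14.ModDesc
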