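import Groth.Agent.H14.ModDesc.Sheaf
import Groth.Agent.Lib.CohDelta.BC.Transpose

/-!
Maps of descended modules induced by maps of data, and the comparison with a given module.
-/

set_option autoImplicit false
set_option backward.isDefEq.respectTransparency false
set_option backward.isDefEq.respectTransparency.types false
set_option linter.style.haveILetI false

universe u w w'

open CategoryTheory CategoryTheory.Limits AlgebraicGeometry Opposite TopologicalSpace TensorProduct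
open ZarCoh.FlatBC.PullbackSections

namespace Groth.Agent.H14.ModDesc

/-- The transpose of `φ : A ⟶ g_* B` is an isomorphism if on affine sections `φ` is a base change map. -/
theorem isIso_adjoint_of_isBC {X Y : Scheme.{u}} (g : X ⟶ Y) {A : Y.Modules} [A.IsQuasicoherent] {B : X.Modules}
    (φ : A ⟶ (Scheme.Modules.pushforward g).obj B)
    (H : ∀ (V : Y.Opens) (V' : X.Opens), IsAffineOpen V → IsAffineOpen V' → ∀ e : V' ≤ g ⁻¹ᵁ V,
      IsBC (g.appLE V V' e).hom
        ((B.presheaf.map (homOfLE e).op).hom.comp (φ.app V).hom)) :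
    IsIso (((Scheme.Modules.pullbackPushforwardAdjunction g).homEquiv A B).symm φ) := by
  refine Groth.Agent.Lib.CohDelta.BC.Transpose.isIso_of_bijective_basis _
    (B := {W | ∃ V : Y.Opens, IsAffineOpen V ∧ IsAffineOpen W ∧ W ≤ g ⁻¹ᵁ V}) ?_ ?_
  · refine Opens.isBasis_iff_nbhd.2 fun {U x} hx ↦ ?_
    obtain ⟨V, hV, hxV, -⟩ := exists_isAffineOpen_mem_and_subset (U := (⊤ : Y.Opens)) (x := g x) trivial
    obtain ⟨V', hV', hxV', hle⟩ := exists_isAffineOpen_mem_and_subset (U := U ⊓ g ⁻¹ᵁ V) (x := x) ⟨hx, hxV⟩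
    exact ⟨V', ⟨V, hV, hV', fun y hy => (hle hy).2⟩, hxV', fun y hy => (hle hy).1⟩
  · rintro V' ⟨V, hV, hV', e⟩
    let := (g.appLE V V' e).hom.toAlgebra
    obtain ⟨hs, hb⟩ := (isBC_iff rfl).1 (H V V' hV hV' e)
    refine (Function.Bijective.of_comp_iff _ (bijective_pbTensor g A hV hV' e)).1 ?_
    convert hb using 1
    funext z
    induction z with
    | zero =>
      show (((Scheme.Modules.pullbackPushforwardAdjunction g).homEquiv A B).symm φ).app V' (pbTensor g A e 0) = _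
      simp only [map_zero]
    | tmul b m =>
      show (((Scheme.Modules.pullbackPushforwardAdjunction g).homEquiv A B).symm φ).app V' (pbTensor g A e (b ⊗ₜ m)) = _
      rw [pbTensor_tmul, Scheme.Modules.Hom.app_smul, Groth.Agent.Lib.CohDelta.BC.Transpose.transpose_pbRes]
      rfl
    | add x y hx hy =>
      simp only [Function.comp_apply] at hx hy ⊢
      simp only [map_add, hx, hy]

/-- Conversely, if the transpose is an isomorphism the maps on affine sections are base change maps. -/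
theorem isBC_of_isIso_adjoint {X Y : Scheme.{u}} (g : X ⟶ Y) {A : Y.Modules} [A.IsQuasicoherent] {B : X.Modules}
    (φ : A ⟶ (Scheme.Modules.pushforward g).obj B)
    (hφ : IsIso (((Scheme.Modules.pullbackPushforwardAdjunction g).homEquiv A B).symm φ))
    {V : Y.Opens} {V' : X.Opens} (hV : IsAffineOpen V) (hV' : IsAffineOpen V') (e : V' ≤ g ⁻¹ᵁ V) :
    IsBC (g.appLE V V' e).hom ((B.presheaf.map (homOfLE e).op).hom.comp (φ.app V).hom) := by
  let := (g.appLE V V' e).hom.toAlgebra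
  have hs : IsSL (g.appLE V V' e).hom ((B.presheaf.map (homOfLE e).op).hom.comp (φ.app V).hom) := fun r m => by
    show B.presheaf.map (homOfLE e).op (φ.app V (r • m)) = _
    rw [Scheme.Modules.Hom.app_smul]
    exact (B.map_smul (homOfLE e) ((g.app V).hom r) (φ.app V m))
  refine (isBC_iff rfl).2 ⟨hs, ?_⟩
  have hb := (ConcreteCategory.bijective_of_isIso
    ((((Scheme.Modules.pullbackPushforwardAdjunction g).homEquiv A B).symm φ).app V')).comp
      (bijective_pbTensor g A hV hV' e)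
  convert hb using 1
  funext z
  induction z with
  | zero => simp only [Function.comp_apply, map_zero]
  | tmul b m =>
    show _ = (((Scheme.Modules.pullbackPushforwardAdjunction g).homEquiv A B).symm φ).app V' (pbTensor g A e (b ⊗ₜ m))
    rw [pbTensor_tmul, Scheme.Modules.Hom.app_smul, Groth.Agent.Lib.CohDelta.BC.Transpose.transpose_pbRes]
    rfl
  | add x y hx hy =>
    simp only [Function.comp_apply] at hx hy ⊢
    simp only [map_add, hx, hy]

theorem appTop_apply {X Y Z : Scheme.{u}} (f : X ⟶ Y) (g : Y ⟶ Z) (r : Γ(Z, ⊤)) :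
    (f ≫ g).appTop.hom r = f.appTop.hom (g.appTop.hom r) := by
  rw [appTop_comp_hom]
  rfl

theorem jointlySurj_of_bijective {A B : Type u} [CommRing A] [CommRing B] [Algebra A B]
    (h : Function.Bijective (algebraMap A B)) : Groth.Agent.H14.GerbeDesc.JointlySurj A (fun _ : Unit => B) := by
  intro p
  let e := RingEquiv.ofBijective _ h
  refine ⟨(), PrimeSpectrum.comap e.symm.toRingHom p, ?_⟩
  rw [← PrimeSpectrum.comap_comp_apply]
  rw [show e.symm.toRingHom.comp (algebraMap A B) = RingHom.id A from RingHom.ext e.symm_apply_apply]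
  exact PrimeSpectrum.ext (Ideal.comap_id _)

namespace Datum

variable {T' T : Scheme.{u}} {g : T' ⟶ T} (D' : Datum.{u, w'} T') (D : Datum.{u, w} T)

/-- A map of data over a morphism of the bases. -/
structure Map (g : T' ⟶ T) where
  /-- the lift of the target attached to a lift of the source -/
  obj : D'.Obj → D.Obj
  /-- the identification of the schemes -/
  e : ∀ l, D'.Z l ≅ D.Z (obj l)
  over : ∀ l, (e l).hom ≫ D.b (obj l) = D'.b l ≫ g
  /-- the comparison of modules -/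
  φ : ∀ l, D.M (obj l) →+ D'.M l
  sl : ∀ l, IsSL (e l).hom.appTop.hom (φ l)
  rel : ∀ {l₁ l₂ : D'.Obj} {q : D'.Z l₁ ⟶ D'.Z l₂}, D'.Rel q → D.Rel ((e l₁).inv ≫ q ≫ (e l₂).hom)
  comm : ∀ {l₁ l₂ : D'.Obj} {q : D'.Z l₁ ⟶ D'.Z l₂} (hq : D'.Rel q) (x : D.M (obj l₂)),
    D'.res q hq (φ l₂ x) = φ l₁ (D.res _ (rel hq) x)

variable {D' D} (f : Map D' D g)

theorem map_lift_prop {U : T.Opens} {U' : T'.Opens} (hU : U' ≤ g ⁻¹ᵁ U) {l : D'.Obj} {c : D'.Z l ⟶ U'.toScheme}
    (hc : c ≫ U'.ι = D'.b l) :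
    ((f.e l).inv ≫ c ≫ g.resLE U U' hU) ≫ U.ι = D.b (f.obj l) := by
  rw [Category.assoc, Category.assoc, Scheme.Hom.resLE_comp_ι, reassoc_of% hc, ← f.over, Iso.inv_hom_id_assoc]

/-- The induced map on families. -/
noncomputable def famMap {U : T.Opens} {U' : T'.Opens} (hU : U' ≤ g ⁻¹ᵁ U) : D.Fam U.ι →+ D'.Fam U'.ι where
  toFun s := ⟨fun l c => f.φ l (s.1 (f.obj l) ⟨(f.e l).inv ≫ c.1 ≫ g.resLE U U' hU, map_lift_prop f hU c.2⟩),
    fun l' l q hq c hc => by
      rw [f.comm hq, s.2 _ (f.rel hq)]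
      exact congrArg _ (fam_congr s (by simp) _ _)⟩
  map_zero' := fam_ext fun l c hc => map_zero (f.φ l)
  map_add' s t := fam_ext fun l c hc => map_add (f.φ l) _ _

theorem famMap_val {U : T.Opens} {U' : T'.Opens} (hU : U' ≤ g ⁻¹ᵁ U) (s : D.Fam U.ι) (l : D'.Obj)
    (c : D'.Z l ⟶ U'.toScheme) (hc : c ≫ U'.ι = D'.b l) :
    (famMap f hU s).1 l ⟨c, hc⟩ =
      f.φ l (s.1 (f.obj l) ⟨(f.e l).inv ≫ c ≫ g.resLE U U' hU, map_lift_prop f hU hc⟩) := rfl

theorem toGlobal_resLE {U : T.Opens} {U' : T'.Opens} (hU : U' ≤ g ⁻¹ᵁ U) (r : Γ(T, U)) :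
    (g.resLE U U' hU).appTop.hom (toGlobal U r) = toGlobal U' ((g.appLE U U' hU).hom r) := by
  rw [toGlobal_eq, toGlobal_eq]
  have h2 : (g.resLE U U' hU).appTop = (g.resLE U U' hU).appLE ⊤ ⊤ le_top := by
    rw [Scheme.Hom.appTop, Scheme.Hom.app_eq_appLE]
    rfl
  rw [h2]
  have key : ∀ {q q' : U'.toScheme ⟶ T} (_ : q = q') (e : (⊤ : U'.toScheme.Opens) ≤ q ⁻¹ᵁ U)
      (e' : (⊤ : U'.toScheme.Opens) ≤ q' ⁻¹ᵁ U), q.appLE U ⊤ e = q'.appLE U ⊤ e' := by
    rintro q _ rfl e e'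
    rfl
  have hU0 : (⊤ : U.toScheme.Opens) ≤ U.ι ⁻¹ᵁ U := by rw [Scheme.Opens.ι_preimage_self]
  have hU1 : (⊤ : U'.toScheme.Opens) ≤ U'.ι ⁻¹ᵁ U' := by rw [Scheme.Opens.ι_preimage_self]
  have h1 : U.ι.appLE U ⊤ hU0 ≫ (g.resLE U U' hU).appLE ⊤ ⊤ le_top = g.appLE U U' hU ≫ U'.ι.appLE U' ⊤ hU1 := by
    rw [Scheme.Hom.appLE_comp_appLE, Scheme.Hom.appLE_comp_appLE]
    exact key (g.resLE_comp_ι hU) _ _
  exact congr($(h1).hom r)

theorem famMap_smul {U : T.Opens} {U' : T'.Opens} (hU : U' ≤ g ⁻¹ᵁ U) (r : Γ(T, U)) (s : D.Fam U.ι) :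
    famMap f hU (r • s) = (g.appLE U U' hU).hom r • famMap f hU s := by
  refine fam_ext fun l c hc => ?_
  show f.φ l (((f.e l).inv ≫ c ≫ g.resLE U U' hU).appTop.hom (toGlobal U r) • s.1 _ _) =
    c.appTop.hom (toGlobal U' ((g.appLE U U' hU).hom r)) • f.φ l (s.1 _ _)
  rw [f.sl, ← toGlobal_resLE, ← appTop_apply, ← appTop_apply, Iso.hom_inv_id_assoc]

theorem famMap_restr {U V : T.Opens} {U' V' : T'.Opens} (hU : U' ≤ g ⁻¹ᵁ U) (hV : V' ≤ g ⁻¹ᵁ V) (h : V ≤ U)
    (h' : V' ≤ U') (s : D.Fam U.ι) :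
    restr (T'.homOfLE h') (T'.homOfLE_ι _) (famMap f hU s) =
      famMap f hV (restr (T.homOfLE h) (T.homOfLE_ι _) s) := by
  refine fam_ext fun l c hc => ?_
  show f.φ l (s.1 _ ⟨(f.e l).inv ≫ (c ≫ T'.homOfLE h') ≫ g.resLE U U' hU, _⟩) =
    f.φ l (s.1 _ ⟨((f.e l).inv ≫ c ≫ g.resLE V V' hV) ≫ T.homOfLE h, _⟩)
  refine congrArg _ (fam_congr s ?_ _ _)
  rw [← cancel_mono U.ι]
  simp only [Category.assoc, Scheme.Hom.resLE_comp_ι, T.homOfLE_ι, T'.homOfLE_ι_assoc]

/-- The sections of the map induced by a map of data. -/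
noncomputable def mapSec (U : T.Opens) : Γ(descMod D, U) →+ Γ(descMod D', g ⁻¹ᵁ U) :=
  (secEquiv D' (g ⁻¹ᵁ U)).symm.toAddEquiv.toAddMonoidHom.comp
    ((famMap f (le_refl _)).comp (secEquiv D U).toAddEquiv.toAddMonoidHom)

theorem secEquiv_mapSec (U : T.Opens) (x : Γ(descMod D, U)) :
    secEquiv D' (g ⁻¹ᵁ U) (mapSec f U x) = famMap f le_rfl (secEquiv D U x) :=
  (secEquiv D' _).apply_symm_apply _

theorem mapSec_smul (U : T.Opens) (r : Γ(T, U)) (x : Γ(descMod D, U)) :
    mapSec f U (r • x) = (g.app U).hom r • mapSec f U x := by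
  apply (secEquiv D' (g ⁻¹ᵁ U)).injective
  rw [secEquiv_mapSec, map_smul, famMap_smul, map_smul, secEquiv_mapSec, Scheme.Hom.app_eq_appLE]

/-- The map of descended modules induced by a map of data. -/
noncomputable def descMap : descMod D ⟶ (Scheme.Modules.pushforward g).obj (descMod D') :=
  ⟨PresheafOfModules.homMk
    { app := fun U => AddCommGrpCat.ofHom (mapSec f U.unop)
      naturality := fun U V i => by
        obtain ⟨U⟩ := U
        obtain ⟨V⟩ := V
        have hi : i = (homOfLE i.unop.le).op := Quiver.Hom.unop_inj (Subsingleton.elim _ _)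
        refine AddCommGrpCat.ext fun x => ?_
        show mapSec f V ((descMod D).presheaf.map i x) =
          (descMod D').presheaf.map (homOfLE (g.preimage_mono i.unop.le)).op (mapSec f U x)
        apply (secEquiv D' (g ⁻¹ᵁ V)).injective
        rw [secEquiv_mapSec, secEquiv_res, secEquiv_mapSec, hi, secEquiv_res, famMap_restr f le_rfl le_rfl] }
    fun U r x => mapSec_smul f U.unop r x⟩

theorem secEquiv_descMap (U : T.Opens) (x : Γ(descMod D, U)) :
    secEquiv D' (g ⁻¹ᵁ U) ((descMap f).app U x) = famMap f le_rfl (secEquiv D U x) :=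
  secEquiv_mapSec f U x

theorem secEquiv_descMap_le {U : T.Opens} {U' : T'.Opens} (hU : U' ≤ g ⁻¹ᵁ U) (x : Γ(descMod D, U)) :
    secEquiv D' U' ((descMod D').presheaf.map (homOfLE hU).op ((descMap f).app U x)) =
      famMap f hU (secEquiv D U x) := by
  refine (secEquiv_res D' hU _).trans ?_
  rw [secEquiv_descMap]
  refine fam_ext fun l c hc => ?_
  show f.φ l ((secEquiv D U x).1 _ ⟨(f.e l).inv ≫ (c ≫ T'.homOfLE hU) ≫ g.resLE U (g ⁻¹ᵁ U) le_rfl, _⟩) =
    f.φ l ((secEquiv D U x).1 _ ⟨(f.e l).inv ≫ c ≫ g.resLE U U' hU, _⟩)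
  refine congrArg _ (fam_congr _ ?_ _ _)
  rw [← cancel_mono U.ι]
  simp only [Category.assoc, Scheme.Hom.resLE_comp_ι, T'.homOfLE_ι_assoc]

theorem isIso_adjoint_descMap (hbc : ∀ l, Function.Bijective (f.φ l)) :
    IsIso (((Scheme.Modules.pullbackPushforwardAdjunction g).homEquiv (descMod D) (descMod D')).symm (descMap f)) := by
  have := isQuasicoherent_descMod D
  refine isIso_adjoint_of_isBC g (descMap f) fun V V' hV hV' e => ?_
  have : IsAffine V.toScheme := hV
  have : IsAffine V'.toScheme := hV'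
  obtain ⟨n, ⟨K⟩⟩ := exists_wcov (D := D) hV
  obtain ⟨n', ⟨K'⟩⟩ := exists_wcov (D := D') hV'
  have h1 : IsBC (toGlobal V) (secEquiv D V).toAddEquiv.toAddMonoidHom :=
    isBC_of_bijective (bijective_toGlobal V) (fun r s => (secEquiv D V).map_smul r s) (secEquiv D V).bijective
  have h2 : IsBC (toGlobal V') (secEquiv D' V').toAddEquiv.toAddMonoidHom :=
    isBC_of_bijective (bijective_toGlobal V') (fun r s => (secEquiv D' V').map_smul r s) (secEquiv D' V').bijective
  let : ∀ a, Algebra Γ(V'.toScheme, ⊤) Γ(D'.Z (K'.k a), ⊤) := fun a => (K'.c a).appTop.hom.toAlgebra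
  have : ∀ a, Module.Flat Γ(V'.toScheme, ⊤) Γ(D'.Z (K'.k a), ⊤) := fun a =>
    have := K'.flat a
    flat_appTop (K'.c a)
  have hF : IsBC (g.resLE V V' e).appTop.hom (famMap f e) := by
    have hs : IsSL (g.resLE V V' e).appTop.hom (famMap f e) := fun r s => fam_ext fun l c hc => by
      show f.φ l (((f.e l).inv ≫ c ≫ g.resLE V V' e).appTop.hom r • s.1 _ _) =
        c.appTop.hom ((g.resLE V V' e).appTop.hom r) • f.φ l (s.1 _ _)
      rw [f.sl, ← appTop_apply, ← appTop_apply, Iso.hom_inv_id_assoc]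
    refine IsBC.of_locally (jointlySurj_appTop K'.c (fun a => rfl) K'.surj) hs
      (fun a => ev (h := V'.ι) (K'.k a) (K'.c a) (K'.hc a)) (fun a => K'.isBC_ev _ _ _) fun a => ?_
    refine ((K.isBC_ev (f.obj (K'.k a)) _ (map_lift_prop f e (K'.hc a))).comp
      (isBC_of_bijective (bijective_appTop _) (f.sl (K'.k a)) (hbc _))).congr ?_ ?_
    · show _ = (K'.c a).appTop.hom.comp (g.resLE V V' e).appTop.hom
      rw [← appTop_comp_hom, ← appTop_comp_hom, Iso.hom_inv_id_assoc]
    · ext s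
      rfl
  let : Algebra Γ(T', V') Γ(V'.toScheme, ⊤) := (toGlobal V').toAlgebra
  have : Module.Flat Γ(T', V') Γ(V'.toScheme, ⊤) :=
    Module.Flat.of_linearEquiv (LinearEquiv.ofBijective (Algebra.linearMap Γ(T', V') Γ(V'.toScheme, ⊤))
      (bijective_toGlobal V')).symm
  refine IsBC.of_locally (J := Unit) (C := fun _ => Γ(V'.toScheme, ⊤)) (jointlySurj_of_bijective (bijective_toGlobal V')) (fun r m => ?_)
    (fun _ => (secEquiv D' V').toAddEquiv.toAddMonoidHom) (fun _ => h2) fun _ => ?_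
  · show (descMod D').presheaf.map (homOfLE e).op ((descMap f).app V (r • m)) =
      (g.appLE V V' e).hom r • (descMod D').presheaf.map (homOfLE e).op ((descMap f).app V m)
    rw [Scheme.Modules.Hom.app_smul]
    exact (descMod D').map_smul (homOfLE e) ((g.app V).hom r) ((descMap f).app V m)
  · refine (h1.comp hF).congr ?_ ?_
    · ext r
      exact toGlobal_resLE e r
    · refine AddMonoidHom.ext fun s => ?_
      exact (secEquiv_descMap_le f e s).symm

end Datum

end Groth.Agent.H14.ModDesc
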