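import Groth.Agent.H14.ModDesc.Map

/-!
A module with compatible base change maps to the modules of the lifts is the descended module.
-/

set_option autoImplicit false
set_option backward.isDefEq.respectTransparency false
set_option backward.isDefEq.respectTransparency.types false
set_option linter.style.haveILetI false

universe u w

open CategoryTheory CategoryTheory.Limits AlgebraicGeometry Opposite TopologicalSpace TensorProduct

namespace Groth.Agent.H14.ModDesc

namespace Datum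

variable {T : Scheme.{u}} (D : Datum.{u, w} T) (P : T.Modules)

/-- A module on `T` with compatible maps to the modules of the lifts. -/
structure Pt where
  /-- the value at a lift -/
  val : ∀ (U : T.Opens) (l : D.Obj) (_ : ⊤ ≤ D.b l ⁻¹ᵁ U), Γ(P, U) →+ D.M l
  sl : ∀ (U : T.Opens) (l : D.Obj) (h : ⊤ ≤ D.b l ⁻¹ᵁ U), IsSL ((D.b l).appLE U ⊤ h).hom (val U l h)
  res_open : ∀ {U V : T.Opens} (i : V ≤ U) (l : D.Obj) (h : ⊤ ≤ D.b l ⁻¹ᵁ U) (h' : ⊤ ≤ D.b l ⁻¹ᵁ V) (s : Γ(P, U)),
    val V l h' (P.presheaf.map (homOfLE i).op s) = val U l h s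
  res_lift : ∀ {U : T.Opens} {l' l : D.Obj} {g : D.Z l' ⟶ D.Z l} (hg : D.Rel g) (h : ⊤ ≤ D.b l ⁻¹ᵁ U)
    (h' : ⊤ ≤ D.b l' ⁻¹ᵁ U) (s : Γ(P, U)), D.res g hg (val U l h s) = val U l' h' s

namespace Pt

variable {D P} (p : D.Pt P)

theorem le_preimage {U : T.Opens} {l : D.Obj} {c : D.Z l ⟶ U.toScheme} (hc : c ≫ U.ι = D.b l) :
    ⊤ ≤ D.b l ⁻¹ᵁ U := fun z _ => by
  show D.b l z ∈ U
  rw [← hc, Scheme.Hom.comp_apply]
  exact (c z).2

theorem appLE_eq {U : T.Opens} {l : D.Obj} {c : D.Z l ⟶ U.toScheme} (hc : c ≫ U.ι = D.b l) (r : Γ(T, U)) :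
    c.appTop.hom (toGlobal U r) = ((D.b l).appLE U ⊤ (le_preimage hc)).hom r := by
  have h0 : (⊤ : U.toScheme.Opens) ≤ U.ι ⁻¹ᵁ U := by rw [Scheme.Opens.ι_preimage_self]
  have h2 : c.appTop = c.appLE ⊤ ⊤ le_top := by
    rw [Scheme.Hom.appTop, Scheme.Hom.app_eq_appLE]
    rfl
  have key : ∀ {q : D.Z l ⟶ T} (_ : q = D.b l) (e : (⊤ : (D.Z l).Opens) ≤ q ⁻¹ᵁ U)
      (e' : (⊤ : (D.Z l).Opens) ≤ D.b l ⁻¹ᵁ U), q.appLE U ⊤ e = (D.b l).appLE U ⊤ e' := by
    rintro q rfl e e'
    rfl
  have h1 : U.ι.appLE U ⊤ h0 ≫ c.appLE ⊤ ⊤ le_top = (D.b l).appLE U ⊤ (le_preimage hc) := by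
    rw [Scheme.Hom.appLE_comp_appLE]
    exact key hc _ _
  rw [toGlobal_eq, h2]
  exact congr($(h1).hom r)

/-- The family attached to a section. -/
noncomputable def toFam (U : T.Opens) : Γ(P, U) →+ D.Fam U.ι where
  toFun s := ⟨fun l c => p.val U l (le_preimage c.2) s, fun l' l g hg c hc => p.res_lift hg _ _ s⟩
  map_zero' := fam_ext fun l c hc => map_zero _
  map_add' s t := fam_ext fun l c hc => map_add _ _ _

theorem toFam_smul (U : T.Opens) (r : Γ(T, U)) (s : Γ(P, U)) : p.toFam U (r • s) = r • p.toFam U s :=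
  fam_ext fun l c hc => by
    show p.val U l _ (r • s) = c.appTop.hom (toGlobal U r) • p.val U l _ s
    rw [p.sl, appLE_eq hc]

theorem toFam_res {U V : T.Opens} (i : V ≤ U) (s : Γ(P, U)) :
    p.toFam V (P.presheaf.map (homOfLE i).op s) = restr (T.homOfLE i) (T.homOfLE_ι _) (p.toFam U s) :=
  fam_ext fun l c hc => p.res_open i l _ _ s

/-- The comparison map. -/
noncomputable def hom : P ⟶ descMod D :=
  ⟨PresheafOfModules.homMk
    { app := fun U => AddCommGrpCat.ofHom
        ((secEquiv D U.unop).symm.toAddEquiv.toAddMonoidHom.comp (p.toFam U.unop))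
      naturality := fun U V i => by
        obtain ⟨U⟩ := U
        obtain ⟨V⟩ := V
        have hi : i = (homOfLE i.unop.le).op := Quiver.Hom.unop_inj (Subsingleton.elim _ _)
        refine AddCommGrpCat.ext fun x => ?_
        show (secEquiv D V).symm (p.toFam V (P.presheaf.map i x)) =
          (descMod D).presheaf.map i ((secEquiv D U).symm (p.toFam U x))
        apply (secEquiv D V).injective
        rw [LinearEquiv.apply_symm_apply, hi, secEquiv_res, LinearEquiv.apply_symm_apply, toFam_res] }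
    fun U r x => by
      show (secEquiv D U.unop).symm (p.toFam U.unop ((show Γ(T, U.unop) from r) • (show Γ(P, U.unop) from x))) =
        (show Γ(T, U.unop) from r) • (secEquiv D U.unop).symm (p.toFam U.unop (show Γ(P, U.unop) from x))
      rw [toFam_smul, map_smul]⟩

theorem secEquiv_hom (U : T.Opens) (s : Γ(P, U)) : secEquiv D U (p.hom.app U s) = p.toFam U s :=
  (secEquiv D U).apply_symm_apply _

theorem isIso_hom (h : ∀ {U : T.Opens} (l : D.Obj) (hl : ⊤ ≤ D.b l ⁻¹ᵁ U), IsAffineOpen U →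
    IsBC ((D.b l).appLE U ⊤ hl).hom (p.val U l hl)) : IsIso p.hom := by
  refine Groth.Agent.Lib.CohDelta.BC.Transpose.isIso_of_bijective_basis _ (T.isBasis_affineOpens) fun V hV => ?_
  have : IsAffine V.toScheme := hV
  obtain ⟨n, ⟨K⟩⟩ := exists_wcov (D := D) hV
  let : Module Γ(V.toScheme, ⊤) Γ(P, V) := Module.compHom _ V.topIso.hom.hom
  let : ∀ a, Algebra Γ(V.toScheme, ⊤) Γ(D.Z (K.k a), ⊤) := fun a => (K.c a).appTop.hom.toAlgebra
  have : ∀ a, Module.Flat Γ(V.toScheme, ⊤) Γ(D.Z (K.k a), ⊤) := fun a =>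
    have := K.flat a
    flat_appTop (K.c a)
  have htg : ∀ r, toGlobal V (V.topIso.hom.hom r) = r := fun r => congr($(V.topIso.hom_inv_id).hom r)
  have hsl : IsSL (RingHom.id Γ(V.toScheme, ⊤)) (p.toFam V) := fun r s => by
    show p.toFam V (V.topIso.hom.hom r • s) = r • p.toFam V s
    rw [toFam_smul]
    show toGlobal V (V.topIso.hom.hom r) • p.toFam V s = _
    rw [htg]
  have hbc : IsBC (RingHom.id Γ(V.toScheme, ⊤)) (p.toFam V) := by
    refine IsBC.of_locally (jointlySurj_appTop K.c (fun a => rfl) K.surj) hsl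
      (fun a => ev (h := V.ι) (K.k a) (K.c a) (K.hc a)) (fun a => K.isBC_ev _ _ _) fun a => ?_
    have h0 : IsBC (toGlobal V) (AddMonoidHom.id Γ(P, V)) := isBC_of_bijective (bijective_toGlobal V)
      (fun r s => by
        show r • s = V.topIso.hom.hom (toGlobal V r) • s
        rw [show V.topIso.hom.hom (toGlobal V r) = r from congr($(V.topIso.inv_hom_id).hom r)]) Function.bijective_id
    refine IsBC.of_comp h0 (fun r s => ?_) ?_
    · show p.val V _ _ (V.topIso.hom.hom r • s) = (K.c a).appTop.hom r • p.val V _ _ s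
      rw [p.sl, ← appLE_eq (K.hc a), htg]
    · refine (h (K.k a) (le_preimage (K.hc a)) hV).congr ?_ rfl
      ext r
      exact (appLE_eq (K.hc a) r).symm
  have hb := hbc.bijective Function.bijective_id
  exact (secEquiv D V).symm.bijective.comp hb

end Pt

end Datum

end Groth.Agent.H14.ModDesc
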