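import Groth.Agent.H14.ModDesc.Banded

/-!
Multiplication by global functions and restriction maps.
-/

set_option autoImplicit false
set_option backward.isDefEq.respectTransparency false
set_option backward.isDefEq.respectTransparency.types false
set_option linter.style.haveILetI false

universe u v w

open CategoryTheory CategoryTheory.Limits AlgebraicGeometry Opposite
open StMod (sch bmap)
open TwSh (scalarEnd resTop)

namespace Groth.Agent.H14.ModDesc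

variable {X Y : Scheme.{u}}

theorem scalarEnd_one (M : X.Modules) : scalarEnd M 1 = 𝟙 M := by
  apply Scheme.Modules.hom_ext
  intro U
  ext s
  rw [TwSh.scalarEnd_app_apply, map_one, one_smul]
  rfl

theorem scalarEnd_mul (M : X.Modules) (r r' : Γ(X, ⊤)) : scalarEnd M r ≫ scalarEnd M r' = scalarEnd M (r * r') := by
  apply Scheme.Modules.hom_ext
  intro U
  ext s
  show (scalarEnd M r').app U ((scalarEnd M r).app U s) = _
  rw [TwSh.scalarEnd_app_apply, TwSh.scalarEnd_app_apply, TwSh.scalarEnd_app_apply, map_mul, mul_smul, smul_comm]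

theorem scalarEnd_comm {M N : X.Modules} (f : M ⟶ N) (r : Γ(X, ⊤)) : scalarEnd M r ≫ f = f ≫ scalarEnd N r := by
  apply Scheme.Modules.hom_ext
  intro U
  ext s
  show f.app U ((scalarEnd M r).app U s) = (scalarEnd N r).app U (f.app U s)
  rw [TwSh.scalarEnd_app_apply, TwSh.scalarEnd_app_apply, Scheme.Modules.Hom.app_smul]

theorem app_resTop (g : Y ⟶ X) (U : X.Opens) (r : Γ(X, ⊤)) :
    g.app U (resTop X U r) = resTop Y (g ⁻¹ᵁ U) (g.appTop r) :=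
  (ConcreteCategory.congr_hom (g.naturality (homOfLE (le_top : U ≤ ⊤)).op) r)

theorem scalarEnd_push {M : X.Modules} {N : Y.Modules} (g : Y ⟶ X) (m : M ⟶ (Scheme.Modules.pushforward g).obj N)
    (r : Γ(X, ⊤)) : scalarEnd M r ≫ m = m ≫ (Scheme.Modules.pushforward g).map (scalarEnd N (g.appTop r)) := by
  apply Scheme.Modules.hom_ext
  intro U
  ext s
  show m.app U ((scalarEnd M r).app U s) = (scalarEnd N (g.appTop r)).app (g ⁻¹ᵁ U) (m.app U s)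
  rw [TwSh.scalarEnd_app_apply, TwSh.scalarEnd_app_apply, Scheme.Modules.Hom.app_smul, ← app_resTop]
  rfl

theorem isIso_scalarEnd (M : X.Modules) (r : (Γ(X, ⊤))ˣ) : IsIso (scalarEnd M r.val) :=
  ⟨scalarEnd M (r⁻¹).val, by rw [scalarEnd_mul, r.mul_inv, scalarEnd_one], by rw [scalarEnd_mul, r.inv_mul, scalarEnd_one]⟩

section MapO

variable {S : Scheme.{u}} {𝒳 : BasedCategory.{v, w} (Over S)} (G : StMod.Mod 𝒳)

/-- Restriction of a section over an open to an open upstairs. -/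
noncomputable def mapO {x' x : 𝒳.obj} (φ : x' ⟶ x) (U : (sch 𝒳 x).Opens) (W : (sch 𝒳 x').Opens)
    (h : W ≤ bmap 𝒳 φ ⁻¹ᵁ U) : Γ(G.obj x, U) →+ Γ(G.obj x', W) :=
  ((G.obj x').presheaf.map (homOfLE h).op).hom.comp ((G.map φ rfl).app U).hom

theorem mapO_congr {x' x : 𝒳.obj} {φ φ' : x' ⟶ x} (e : φ = φ') (U : (sch 𝒳 x).Opens) (W : (sch 𝒳 x').Opens)
    (h : W ≤ bmap 𝒳 φ ⁻¹ᵁ U) (h' : W ≤ bmap 𝒳 φ' ⁻¹ᵁ U) (s : Γ(G.obj x, U)) :
    mapO G φ U W h s = mapO G φ' U W h' s := by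
  subst e
  rfl

theorem mapO_eq {x' x : 𝒳.obj} (φ : x' ⟶ x) {g : sch 𝒳 x' ⟶ sch 𝒳 x} (hg : bmap 𝒳 φ = g) (U : (sch 𝒳 x).Opens)
    (W : (sch 𝒳 x').Opens) (h : W ≤ g ⁻¹ᵁ U) (h' : W ≤ bmap 𝒳 φ ⁻¹ᵁ U) (s : Γ(G.obj x, U)) :
    (G.obj x').presheaf.map (homOfLE h).op ((G.map φ hg).app U s) = mapO G φ U W h' s := by
  subst hg
  rfl

theorem mapO_self {x' x : 𝒳.obj} (φ : x' ⟶ x) {g : sch 𝒳 x' ⟶ sch 𝒳 x} (hg : bmap 𝒳 φ = g) (U : (sch 𝒳 x).Opens)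
    (h' : g ⁻¹ᵁ U ≤ bmap 𝒳 φ ⁻¹ᵁ U) (s : Γ(G.obj x, U)) :
    (G.map φ hg).app U s = mapO G φ U (g ⁻¹ᵁ U) h' s := by
  subst hg
  show _ = (G.obj x').presheaf.map (𝟙 _) _
  rw [CategoryTheory.Functor.map_id]
  rfl

theorem mapO_comp {x'' x' x : 𝒳.obj} (ψ : x'' ⟶ x') (φ : x' ⟶ x) (U : (sch 𝒳 x).Opens) (W : (sch 𝒳 x').Opens)
    (W' : (sch 𝒳 x'').Opens) (h : W ≤ bmap 𝒳 φ ⁻¹ᵁ U) (k : W' ≤ bmap 𝒳 ψ ⁻¹ᵁ W)
    (h' : W' ≤ bmap 𝒳 (ψ ≫ φ) ⁻¹ᵁ U) (s : Γ(G.obj x, U)) :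
    mapO G ψ W W' k (mapO G φ U W h s) = mapO G (ψ ≫ φ) U W' h' s := by
  have h'' : W' ≤ (bmap 𝒳 ψ ≫ bmap 𝒳 φ) ⁻¹ᵁ U := by rw [← StMod.bmap_comp]; exact h'
  rw [← mapO_eq G (ψ ≫ φ) (StMod.bmap_comp ψ φ) U W' h'' h', G.map_comp_app ψ φ rfl rfl U]
  show (G.obj x'').presheaf.map _ ((G.map ψ rfl).app W ((G.obj x').presheaf.map (homOfLE h).op _)) = _
  erw [(G.map ψ rfl).mapPresheaf.naturality_apply (homOfLE h).op]
  show (G.obj x'').presheaf.map _ ((G.obj x'').presheaf.map _ _) = _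
  rw [← ConcreteCategory.comp_apply, ← Functor.map_comp]
  rfl

theorem mapO_inert {x : 𝒳.obj} (α : Gerb.AutO x) (U W : (sch 𝒳 x).Opens) (hWU : W ≤ U)
    (h : W ≤ bmap 𝒳 α.hom.1 ⁻¹ᵁ U) (s : Γ(G.obj x, U)) :
    mapO G α.hom.1 U W h s = (TwSh.inert G x α).app W ((G.obj x).presheaf.map (homOfLE hWU).op s) := by
  rw [← mapO_eq G α.hom.1 (TwSh.bmap_autO x α) U W hWU h s]
  exact ((TwSh.inert G x α).mapPresheaf.naturality_apply (homOfLE hWU).op s).symm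

end MapO

end Groth.Agent.H14.ModDesc
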