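import Groth.Agent.H14.ModDesc.Triv

/-!
Twisted modules on a gerbe with a section and modules on the base.
-/

set_option autoImplicit false
set_option backward.isDefEq.respectTransparency false
set_option backward.isDefEq.respectTransparency.types false
set_option linter.style.haveILetI false

universe u

open CategoryTheory CategoryTheory.Limits AlgebraicGeometry Opposite TopologicalSpace
open StMod (sch bmap)
open TwSh (scalarEnd resTop)
open Groth.Agent.Lib.AlgStack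

namespace Groth.Agent.H14.ModDesc

section Cast2

variable {X T R X' T' R' : Scheme.{u}}

/-- A morphism out of a twice transported module. -/
noncomputable def castOut2 (h₂ : X = T) (h₁ : T = R) {M : X.Modules} {N : R.Modules}
    (a : M ⟶ (Scheme.Modules.pushforward (eqToHom (h₂.trans h₁).symm)).obj N) :
    StMod.castMod h₁ (StMod.castMod h₂ M) ⟶ N := by
  subst h₂ h₁
  exact a ≫ (Scheme.Modules.pushforwardId X).hom.app N

theorem castOut2_isIso (h₂ : X = T) (h₁ : T = R) {M : X.Modules} {N : R.Modules}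
    (a : M ⟶ (Scheme.Modules.pushforward (eqToHom (h₂.trans h₁).symm)).obj N)
    (hb : ∀ V : X.Opens, IsAffineOpen V → Function.Bijective (a.app V)) : IsIso (castOut2 h₂ h₁ a) := by
  subst h₂ h₁
  exact Groth.Agent.Lib.CohDelta.BC.Transpose.isIso_of_bijective_basis _ X.isBasis_affineOpens hb

theorem castOut2_castHom (h₂ : X = T) (h₁ : T = R) {M M' : X.Modules} {N N' : R.Modules} (f : M ⟶ M') (k : N ⟶ N')
    (a : M ⟶ (Scheme.Modules.pushforward (eqToHom (h₂.trans h₁).symm)).obj N)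
    (a' : M' ⟶ (Scheme.Modules.pushforward (eqToHom (h₂.trans h₁).symm)).obj N')
    (H : ∀ (V : X.Opens) (s : Γ(M, V)), a'.app V (f.app V s) = k.app _ (a.app V s)) :
    StMod.castHom h₁ (StMod.castHom h₂ f) ≫ castOut2 h₂ h₁ a' = castOut2 h₂ h₁ a ≫ k := by
  subst h₂ h₁
  rw [StMod.castHom_rfl, StMod.castHom_rfl]
  apply Scheme.Modules.hom_ext
  intro V
  ext s
  exact H V s

theorem preimage_le2 (h₂ : X = T) (h₁ : T = R) (h₂' : X' = T') (h₁' : T' = R') {g₂ : X' ⟶ X} {g₁ : T' ⟶ T} {g : R' ⟶ R}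
    (hg₂ : g₂ ≫ eqToHom h₂ = eqToHom h₂' ≫ g₁) (hg₁ : g₁ ≫ eqToHom h₁ = eqToHom h₁' ≫ g) (V : X.Opens) :
    g ⁻¹ᵁ (eqToHom (h₂.trans h₁).symm ⁻¹ᵁ V) ≤ eqToHom (h₂'.trans h₁').symm ⁻¹ᵁ (g₂ ⁻¹ᵁ V) := by
  subst h₂ h₁ h₂' h₁'
  obtain rfl : g₂ = g₁ := by simpa using hg₂
  obtain rfl : g₂ = g := by simpa using hg₁
  exact le_rfl

theorem castOut2_comm (h₂ : X = T) (h₁ : T = R) (h₂' : X' = T') (h₁' : T' = R') {g₂ : X' ⟶ X} {g₁ : T' ⟶ T} {g : R' ⟶ R}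
    (hg₂ : g₂ ≫ eqToHom h₂ = eqToHom h₂' ≫ g₁) (hg₁ : g₁ ≫ eqToHom h₁ = eqToHom h₁' ≫ g)
    {M : X.Modules} {M' : X'.Modules} {N : R.Modules} {N' : R'.Modules}
    (m : M ⟶ (Scheme.Modules.pushforward g₂).obj M') (n : N ⟶ (Scheme.Modules.pushforward g).obj N')
    (a : M ⟶ (Scheme.Modules.pushforward (eqToHom (h₂.trans h₁).symm)).obj N)
    (a' : M' ⟶ (Scheme.Modules.pushforward (eqToHom (h₂'.trans h₁').symm)).obj N') (r : Γ(R', ⊤))
    (H : ∀ (V : X.Opens) (s : Γ(M, V)), resTop R' (g ⁻¹ᵁ (eqToHom (h₂.trans h₁).symm ⁻¹ᵁ V)) r •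
      N'.presheaf.map (homOfLE (preimage_le2 h₂ h₁ h₂' h₁' hg₂ hg₁ V)).op (a'.app (g₂ ⁻¹ᵁ V) (m.app V s)) =
        n.app _ (a.app V s)) :
    (StMod.castMap h₁ h₁' hg₁ (StMod.castMap h₂ h₂' hg₂ m) ≫
        (Scheme.Modules.pushforward g).map (scalarEnd _ r)) ≫
      (Scheme.Modules.pushforward g).map (castOut2 h₂' h₁' a') = castOut2 h₂ h₁ a ≫ n := by
  subst h₂ h₁ h₂' h₁'
  obtain rfl : g₂ = g₁ := by simpa using hg₂
  obtain rfl : g₂ = g := by simpa using hg₁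
  rw [StMod.castMap_rfl_self, StMod.castMap_rfl_self]
  apply Scheme.Modules.hom_ext
  intro V
  ext s
  refine Eq.trans ?_ (H V s)
  show a'.app (g₂ ⁻¹ᵁ V) ((scalarEnd M' r).app (g₂ ⁻¹ᵁ V) (m.app V s)) = _
  rw [TwSh.scalarEnd_app_apply, Scheme.Modules.Hom.app_smul]
  refine congrArg _ ?_
  show _ = N'.presheaf.map (𝟙 _) _
  rw [CategoryTheory.Functor.map_id]
  rfl

end Cast2

namespace Triv

variable {S : Scheme.{u}} {X : Over S} {𝒳 : AlgSt.Cat S} {π : 𝒳 ⥤ᵇ AlgSt.ofSch X} (σ : AlgSt.ofSch X ⥤ᵇ 𝒳)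
  {A : (Over S)ᵒᵖ ⥤ GrpCat.{u}} {ι : TwSh.BandHom 𝒳 A} (χ : A ⟶ TwSh.GmPsh S)
  (hfib : FibCat.IsFibGrpd 𝒳.p) (hπ : TwSh.IsBandedGerbe (QuotSh.J Scheme.fppfPrecoverage S) π ι)

theorem bmap_beta (x : (cat π σ).obj) : bmap 𝒳 (beta π σ x) =
    eqToHom ((StMod.sch_obj_eq σ (π.obj x.obj)).trans (StMod.sch_obj_eq (BasedFunctor.comp (incl π σ) π) x)).symm := by
  show (𝒳.p.map (beta π σ x)).left = _
  rw [map_beta, Over.eqToHom_left]

theorem comap_incl_map (G : StMod.Mod 𝒳) {x' x : (cat π σ).obj} (φ : x' ⟶ x) {g : sch (cat π σ) x' ⟶ sch (cat π σ) x}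
    (hg : bmap (cat π σ) φ = g) : (StMod.Mod.comap (incl π σ) G).map φ hg = G.map φ.hom hg := by
  subst hg
  exact StMod.castMap_rfl_self (by simp) _

/-- The comparison of the twisted inverse image of the restriction to the section. -/
noncomputable def epsApp (F : StMod.Mod 𝒳) (x : (cat π σ).obj) :
    (psi σ χ hfib hπ (StMod.Mod.comap σ F)).obj x ⟶ (StMod.Mod.comap (incl π σ) F).obj x :=
  castOut2 (StMod.sch_obj_eq σ (π.obj x.obj)) (StMod.sch_obj_eq (BasedFunctor.comp (incl π σ) π) x)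
    (F.map (beta π σ x) (bmap_beta σ x))

theorem isIso_epsApp (F : StMod.QCoh 𝒳) (x : (cat π σ).obj) : IsIso (epsApp σ χ hfib hπ F.obj x) := by
  refine castOut2_isIso _ _ _ fun V hV => ?_
  have : (F.obj.obj (σ.obj (π.obj x.obj))).IsQuasicoherent := F.property.2 _
  have h := (StMod.sch_obj_eq σ (π.obj x.obj)).trans (StMod.sch_obj_eq (BasedFunctor.comp (incl π σ) π) x)
  have hW : IsAffineOpen (eqToHom h.symm ⁻¹ᵁ V) := hV.preimage_of_isIso _
  have hb := (isBC_of_isIso_adjoint _ (F.obj.map (beta π σ x) (bmap_beta σ x))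
    (F.property.1 (beta π σ x) (bmap_beta σ x)) hV hW le_rfl).bijective (by
      show Function.Bijective ((eqToHom h.symm).appLE V _ le_rfl).hom
      rw [← Scheme.Hom.app_eq_appLE]
      exact ConcreteCategory.bijective_of_isIso _)
  refine Eq.mp (congrArg Function.Bijective (funext fun t => ?_)) hb
  show (F.obj.obj x.obj).presheaf.map (𝟙 _) _ = _
  rw [CategoryTheory.Functor.map_id]
  rfl

theorem epsApp_comm (F : StMod.Mod 𝒳) (hF : TwSh.IsTwisted F ι χ 1) {x' x : (cat π σ).obj} (φ : x' ⟶ x)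
    (g : sch (cat π σ) x' ⟶ sch (cat π σ) x) (hg : bmap (cat π σ) φ = g) :
    (psi σ χ hfib hπ (StMod.Mod.comap σ F)).map φ hg ≫ (Scheme.Modules.pushforward g).map (epsApp σ χ hfib hπ F x') =
      epsApp σ χ hfib hπ F x ≫ (StMod.Mod.comap (incl π σ) F).map φ hg := by
  refine castOut2_comm _ _ _ _ (StMod.bmap_map_comm σ (π.map φ.hom) rfl)
    (StMod.bmap_map_comm (BasedFunctor.comp (incl π σ) π) φ hg) (F.map (σ.map (π.map φ.hom)) rfl) _ _ _ _ fun V s => ?_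
  rw [comap_incl_map]
  let t := disc hfib hπ φ
  let h := (StMod.sch_obj_eq σ (π.obj x.obj)).trans (StMod.sch_obj_eq (BasedFunctor.comp (incl π σ) π) x)
  let W' : (sch 𝒳 x'.obj).Opens := g ⁻¹ᵁ (eqToHom h.symm ⁻¹ᵁ V)
  have hW : W' ≤ bmap 𝒳 (φ.hom ≫ beta π σ x) ⁻¹ᵁ V := by
    rw [StMod.bmap_comp, bmap_beta, show bmap 𝒳 φ.hom = g from hg]
    exact le_rfl
  have hW' : W' ≤ bmap 𝒳 (beta π σ x' ≫ σ.map (π.map φ.hom)) ⁻¹ᵁ V := by
    rw [StMod.bmap_comp, bmap_beta]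
    exact preimage_le2 _ _ _ _ (StMod.bmap_map_comm σ (π.map φ.hom) rfl)
      (StMod.bmap_map_comm (BasedFunctor.comp (incl π σ) π) φ hg) V
  have hW'' : W' ≤ bmap 𝒳 (ι.hom x'.obj t).hom.1 ⁻¹ᵁ W' := by rw [TwSh.bmap_autO]; exact le_rfl
  have hW3 : W' ≤ bmap 𝒳 ((ι.hom x'.obj t).hom.1 ≫ φ.hom ≫ beta π σ x) ⁻¹ᵁ V := by
    rw [disc_spec hfib hπ φ]
    exact hW'
  have e₁ : (F.obj x'.obj).presheaf.map (homOfLE (preimage_le2 _ _ _ _ (StMod.bmap_map_comm σ (π.map φ.hom) rfl)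
      (StMod.bmap_map_comm (BasedFunctor.comp (incl π σ) π) φ hg) V)).op
        ((F.map (beta π σ x') (bmap_beta σ x')).app _ ((F.map (σ.map (π.map φ.hom)) rfl).app V s)) =
      mapO F (beta π σ x' ≫ σ.map (π.map φ.hom)) V W' hW' s := by
    have h1 := StMod.Mod.map_comp_app F (beta π σ x') (σ.map (π.map φ.hom)) (bmap_beta σ x') rfl V
    rw [← mapO_eq F (beta π σ x' ≫ σ.map (π.map φ.hom)) (g := _ ≫ _)
      (by rw [StMod.bmap_comp, bmap_beta]) V W' (preimage_le2 _ _ _ _ (StMod.bmap_map_comm σ (π.map φ.hom) rfl)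
        (StMod.bmap_map_comm (BasedFunctor.comp (incl π σ) π) φ hg) V) hW' s, h1]
    rfl
  have e₂ : (F.map φ.hom hg).app _ ((F.map (beta π σ x) (bmap_beta σ x)).app V s) =
      mapO F (φ.hom ≫ beta π σ x) V W' hW s := by
    rw [← mapO_eq F (φ.hom ≫ beta π σ x) (g := g ≫ _) (by rw [StMod.bmap_comp, bmap_beta, show bmap 𝒳 φ.hom = g from hg])
      V W' le_rfl hW s, StMod.Mod.map_comp_app F φ.hom (beta π σ x) hg (bmap_beta σ x) V]
    show _ = (F.obj x'.obj).presheaf.map (𝟙 _) _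
    rw [CategoryTheory.Functor.map_id]
    rfl
  refine Eq.trans (congrArg (fun z => resTop (sch 𝒳 x'.obj) W' (unit χ hfib hπ φ).val • z) e₁) (Eq.trans ?_ e₂.symm)
  show resTop (sch 𝒳 x'.obj) W' (TwSh.charUnit χ x'.obj t).val • mapO F (beta π σ x' ≫ σ.map (π.map φ.hom)) V W' hW' s = _
  rw [mapO_congr F (disc_spec hfib hπ φ).symm V W' hW' hW3, ← mapO_comp F (ι.hom x'.obj t).hom.1 (φ.hom ≫ beta π σ x) V W' W' hW hW'' hW3,
    mapO_inert F (ι.hom x'.obj t) W' W' le_rfl hW'']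
  show _ • (TwSh.inert F x'.obj (ι.hom x'.obj t)).app W' ((F.obj x'.obj).presheaf.map (𝟙 _) _) = _
  rw [CategoryTheory.Functor.map_id]
  refine (congrArg _ (hF x'.obj t W' _)).trans ?_
  rw [zpow_one, ← mul_smul, ← map_mul, Units.mul_inv, map_one, one_smul]
  rfl

/-- The twisted inverse image of the restriction to the section is the restriction. -/
noncomputable def eps (F : StMod.QCoh 𝒳) (hF : TwSh.IsTwisted F.obj ι χ 1) :
    psi σ χ hfib hπ (StMod.Mod.comap σ F.obj) ≅ StMod.Mod.comap (incl π σ) F.obj :=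
  have : ∀ x, IsIso (epsApp σ χ hfib hπ F.obj x) := isIso_epsApp σ χ hfib hπ F
  StMod.Mod.isoMk (fun x => @asIso _ _ _ _ (epsApp σ χ hfib hπ F.obj x) (this x))
    fun x' x φ g hg => epsApp_comm σ χ hfib hπ F.obj hF φ g hg

theorem eps_natural (F G : StMod.QCoh 𝒳) (hF : TwSh.IsTwisted F.obj ι χ 1) (hG : TwSh.IsTwisted G.obj ι χ 1)
    (v : F.obj ⟶ G.obj) :
    psiMap σ χ hfib hπ (StMod.Mod.comapMap (BasedFunctor.comp (incl π σ) π) (StMod.Mod.comapMap σ v)) ≫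
        (eps σ χ hfib hπ G hG).hom = (eps σ χ hfib hπ F hF).hom ≫ StMod.Mod.comapMap (incl π σ) v := by
  refine StMod.Mod.hom_ext fun x => ?_
  refine castOut2_castHom _ _ (v.app (σ.obj (π.obj x.obj))) (StMod.castHom (StMod.sch_obj_eq (incl π σ) x) (v.app x.obj))
    _ _ fun V s => ?_
  have h := congrArg (fun f => Scheme.Modules.Hom.app f V s) (v.comm (beta π σ x) (bmap_beta σ x))
  simp only [Scheme.Modules.Hom.comp_app, Scheme.Modules.pushforward_map_app] at h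
  exact h.symm

theorem isTwisted_push (F : StMod.QCoh (cat π σ)) (H : Hyp (incl π σ) F)
    (hF : ∀ {x : (cat π σ).obj} (φ : x ⟶ x) (t : A.obj (op (𝒳.p.obj x.obj))), φ.hom = (ι.hom x.obj t).hom.1 →
      ∀ s, F.obj.mapTop φ s = ((TwSh.charUnit χ x.obj t)⁻¹).val • s) :
    TwSh.IsTwisted (push H) ι χ 1 := by
  intro ξ a U s
  apply ((datum (incl π σ) ξ H).secEquiv U).injective
  refine (Datum.secEquiv_descMap (pushMap H (y' := ξ) (y := ξ) (ι.hom ξ a).hom.1 (TwSh.bmap_autO ξ _)) U s).trans ?_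
  rw [map_smul]
  refine Datum.fam_ext fun (l : Lift (incl π σ) ξ) (c : sch (cat π σ) l.x ⟶ U.toScheme)
    (hc : c ≫ U.ι = liftB (incl π σ) ξ l) => ?_
  let t : A.obj (op (𝒳.p.obj l.x.obj)) := A.map (𝒳.p.map l.u).op a
  let α' := ι.hom l.x.obj t
  let φ' : l.x ⟶ l.x := ObjectProperty.homMk α'.hom.1
  let α : ξ ⟶ ξ := (ι.hom ξ a).hom.1
  let l₂ : Lift (incl π σ) ξ := ⟨l.x, l.u ≫ α, l.aff⟩
  have hb : bmap (cat π σ) φ' = 𝟙 _ := TwSh.bmap_autO _ _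
  have hn : (incl π σ).map φ' ≫ l.u = l₂.u := ι.natural l.u a
  have hrel : LiftRel (π := incl π σ) (y := ξ) (l' := l₂) (l := l) (𝟙 _) := ⟨φ', hb, hn⟩
  have hres := ((datum (incl π σ) ξ H).secEquiv U s).2 (l' := l₂) (l := l) (𝟙 (sch (cat π σ) l.x)) hrel c hc
  have hval : F.obj.mapTop hrel.choose (((datum (incl π σ) ξ H).secEquiv U s).1 l ⟨c, hc⟩) =
      F.obj.mapTop φ' (((datum (incl π σ) ξ H).secEquiv U s).1 l ⟨c, hc⟩) :=
    H.mapTop_eq (l' := l₂) (l := l) (by rw [hrel.choose_spec.1, hb]) hrel.choose_spec.2 hn _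
  have hc₂ : ((𝟙 _ : sch (cat π σ) l.x ⟶ sch (cat π σ) l.x) ≫ c) ≫ U.ι = liftB (incl π σ) ξ l₂ := by
    rw [Category.id_comp]
    exact hc.trans ((Category.id_comp _).symm.trans (LiftRel.over hrel))
  refine Eq.trans ?_ (Eq.trans ((show _ = _ from hres).symm.trans (hval.trans (hF φ' t rfl _))) ?_)
  · refine Datum.fam_congr (D := datum (incl π σ) ξ H) (h := U.ι) (l := l₂) _ ?_ _ hc₂
    show 𝟙 _ ≫ c ≫ (𝟙 (sch 𝒳 ξ) : sch 𝒳 ξ ⟶ sch 𝒳 ξ).resLE U U le_rfl = 𝟙 _ ≫ c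
    rw [← cancel_mono U.ι]
    simp only [Category.assoc, Scheme.Hom.resLE_comp_ι, Category.comp_id]
  suffices key : ((TwSh.charUnit χ l.x.obj t)⁻¹).val =
      c.appTop.hom (Datum.toGlobal U (resTop (sch 𝒳 ξ) U ((TwSh.charUnit χ ξ a ^ (1 : ℤ))⁻¹).val)) from
    congrArg (fun (r : Γ(sch (cat π σ) l.x, ⊤)) => r •
      (show Γ(F.obj.obj l.x, ⊤) from ((datum (incl π σ) ξ H).secEquiv U s).1 l ⟨c, hc⟩)) key
  refine Eq.trans ?_ (Datum.Pt.appLE_eq (D := datum (incl π σ) ξ H) hc _).symm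
  rw [zpow_one]
  show _ = ((sch 𝒳 ξ).presheaf.map (homOfLE le_top).op ≫ (liftB (incl π σ) ξ l).appLE U ⊤ _).hom _
  rw [Scheme.Hom.map_appLE]
  have hb' : liftB (incl π σ) ξ l = bmap 𝒳 l.u := by
    show (eqToHom rfl ≫ 𝒳.p.map l.u).left = _
    rw [eqToHom_refl, Category.id_comp]
  have h3 : ∀ r : Γ(sch 𝒳 ξ, ⊤), ((liftB (incl π σ) ξ l).appLE ⊤ ⊤ le_top).hom r = (bmap 𝒳 l.u).appTop.hom r := by
    intro r
    rw [appLE_congr_hom hb' _ le_top, Scheme.Hom.appTop, Scheme.Hom.app_eq_appLE]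
    rfl
  rw [h3]
  have hnu : TwSh.charUnit χ l.x.obj t =
      Units.map ((bmap 𝒳 l.u).appTop.hom.toMonoidHom : Γ(sch 𝒳 ξ, ⊤) →* Γ(sch 𝒳 l.x.obj, ⊤))
        (TwSh.charUnit χ ξ a) :=
    congr($(χ.naturality (𝒳.p.map l.u).op).hom a)
  rw [hnu]
  rfl

end Triv

end Groth.Agent.H14.ModDesc
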