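import Groth.Agent.H14.ModDesc.FlatBC
import Groth.Agent.Lib.QCoh.Localizing
import Mathlib.AlgebraicGeometry.Modules.Sheaf
import Mathlib.Algebra.Module.Shrink
import Mathlib.Topology.Sheaves.SheafCondition.UniqueGluing
import Mathlib.RingTheory.Localization.BaseChange

/-!
The quasi-coherent module of compatible families.
-/

set_option autoImplicit false
set_option backward.isDefEq.respectTransparency false
set_option backward.isDefEq.respectTransparency.types false
set_option linter.style.haveILetI false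

universe u w w'

open CategoryTheory CategoryTheory.Limits AlgebraicGeometry Opposite TopologicalSpace TensorProduct
open Groth.Agent.Lib.QCoh.Localizing

namespace Groth.Agent.H14.ModDesc

namespace Datum

variable {T : Scheme.{u}} {D : Datum.{u, w} T}

/-- A cover pulled back along a morphism of lifts. -/
theorem Cov.exists_pullback {l d : D.Obj} {J : Type w'} (C : D.Cov l J) (g : D.Z d ⟶ D.Z l) (hg : D.Rel g) :
    ∃ (F : D.Cov d J), ∀ a, ∃ r : D.Z (F.E a) ⟶ D.Z (C.E a), D.Rel r ∧ r ≫ C.e a = F.e a ≫ g := by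
  choose E i hi using fun a => D.pull d (pullback.fst g (C.e a))
  refine ⟨{ E := E, e := fun a => (i a).hom ≫ pullback.fst g (C.e a), rel := hi,
            flat := fun a => ?_, surj := fun z => ?_ }, fun a => ⟨(i a).hom ≫ pullback.snd g (C.e a), ?_, ?_⟩⟩
  · have := C.flat a
    infer_instance
  · obtain ⟨a, y, hy⟩ := C.surj (g z)
    obtain ⟨t, ht, -⟩ := Scheme.Pullback.exists_preimage_pullback (f := g) (g := C.e a) z y hy.symm
    refine ⟨a, (i a).inv t, ?_⟩
    rw [← Scheme.Hom.comp_apply, Iso.inv_hom_id_assoc]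
    exact ht
  · exact D.factor (D.rel_comp (hi a) hg) (C.rel a) (by simp [pullback.condition])
  · simp [pullback.condition]

/-- A Zariski cover of a lift by lifts, subordinate to a family of opens. -/
theorem exists_zarCov (l : D.Obj) {I : Type*} (U : I → (D.Z l).Opens) (hU : ∀ z, ∃ i, z ∈ U i) :
    ∃ (J : Type u) (_ : Finite J) (C : D.Cov l J) (i : J → I), ∀ a z, C.e a z ∈ U (i a) := by
  classical
  choose i hi using hU
  choose V hV hzV hle using fun z => exists_isAffineOpen_mem_and_subset (X := D.Z l) (x := z) (U := U (i z)) (hi z)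
  obtain ⟨s, hs⟩ := (isCompact_univ (X := D.Z l)).elim_finite_subcover (fun z => (V z : Set (D.Z l)))
    (fun z => (V z).isOpen) (fun z _ => Set.mem_iUnion.2 ⟨z, hzV z⟩)
  choose E e he using fun z : D.Z l =>
    haveI : IsAffine (V z).toScheme := hV z
    D.pull l (V z).ι
  refine ⟨s, inferInstance,
    { E := fun a => E a.1, e := fun a => (e a.1).hom ≫ (V a.1).ι, rel := fun a => he a.1,
      flat := fun a => inferInstance, surj := fun z => ?_ }, fun a => i a.1, fun a z => hle a.1 ?_⟩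
  · obtain ⟨x, hx, hzx⟩ := Set.mem_iUnion₂.1 (hs (Set.mem_univ z))
    refine ⟨⟨x, hx⟩, (e x).inv ⟨z, hzx⟩, ?_⟩
    rw [← Scheme.Hom.comp_apply, Iso.inv_hom_id_assoc]
    rfl
  · rw [Scheme.Hom.comp_apply]
    exact ((e a.1).hom z).2

theorem exists_wcov {V : T.Opens} (hV : IsAffineOpen V) : ∃ n, Nonempty (D.WCov V.ι n) := by
  obtain ⟨n, k, c, hc, hfl, hs⟩ := D.cover hV
  exact ⟨n, ⟨⟨k, c, hc, hfl, hs⟩⟩⟩

theorem small_fam (U : T.Opens) : Small.{u} (D.Fam U.ι) := by
  classical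
  choose n K using fun V : {V : T.Opens // IsAffineOpen V ∧ V ≤ U} => exists_wcov (D := D) V.2.1
  let res' : ∀ V : {V : T.Opens // IsAffineOpen V ∧ V ≤ U}, D.Fam U.ι →+ D.Fam V.1.ι := fun V =>
    restr (T.homOfLE V.2.2) (T.homOfLE_ι _)
  let F : D.Fam U.ι → ∀ V : {V : T.Opens // IsAffineOpen V ∧ V ≤ U}, ∀ a, D.M ((K V).some.k a) :=
    fun s V a => (res' V s).1 _ ⟨(K V).some.c a, (K V).some.hc a⟩
  refine small_of_injective (f := F) fun s t e => fam_ext fun l c hc => ?_
  obtain ⟨J, _, C, i, hi⟩ := exists_zarCov (D := D) l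
    (fun V : {V : T.Opens // IsAffineOpen V ∧ V ≤ U} => D.b l ⁻¹ᵁ V.1) (fun z => by
      obtain ⟨V, hV, hzV, hle⟩ := exists_isAffineOpen_mem_and_subset (X := T) (x := D.b l z) (U := U)
        (by rw [← hc, Scheme.Hom.comp_apply]; exact (c z).2)
      exact ⟨⟨V, hV, hle⟩, hzV⟩)
  refine C.eq_of_res fun a => ?_
  rw [s.2 _ (C.rel a), t.2 _ (C.rel a)]
  have : IsAffine (i a).1.toScheme := (i a).2.1
  have hr : Set.range (D.b (C.E a)) ⊆ Set.range (i a).1.ι := by
    rintro _ ⟨z, rfl⟩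
    rw [Scheme.Opens.range_ι, ← D.rel_over (C.rel a), Scheme.Hom.comp_apply]
    exact hi a z
  let c' := IsOpenImmersion.lift (i a).1.ι (D.b (C.E a)) hr
  have hst : res' (i a) s = res' (i a) t := (K (i a)).some.eq_of_ev fun b => congrFun (congrFun e (i a)) b
  have hc' : c' ≫ T.homOfLE (i a).2.2 = C.e a ≫ c := by
    rw [← cancel_mono U.ι, Category.assoc, T.homOfLE_ι, IsOpenImmersion.lift_fac, Category.assoc, hc,
      D.rel_over (C.rel a)]
  have := congrArg (fun f : D.Fam (i a).1.ι => f.1 (C.E a) ⟨c', IsOpenImmersion.lift_fac _ _ hr⟩) hst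
  exact (fam_congr s hc'.symm _ _).trans (this.trans (fam_congr t hc' _ _))

instance (U : T.Opens) : Small.{u} (D.Fam U.ι) := small_fam U

variable (D)

/-- The sections over an open. -/
abbrev Sec (U : T.Opens) : Type u := Shrink.{u} (D.Fam U.ι)

/-- The sections over an open are the compatible families. -/
noncomputable def shr (U : T.Opens) : D.Sec U ≃+ D.Fam U.ι := Shrink.addEquiv

/-- Functions on an open as global functions on the open subscheme. -/
abbrev toGlobal (U : T.Opens) : Γ(T, U) →+* Γ(U.toScheme, ⊤) := U.topIso.inv.hom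

noncomputable instance famModuleOpen (U : T.Opens) : Module Γ(T, U) (D.Fam U.ι) :=
  Module.compHom _ (toGlobal U)

theorem toGlobal_eq (U : T.Opens) :
    toGlobal U = (U.ι.appLE U ⊤ (by rw [Scheme.Opens.ι_preimage_self])).hom := by
  rw [Scheme.Opens.ι_appLE]
  rfl

theorem homOfLE_toGlobal {U V : T.Opens} (h : V ≤ U) (r : Γ(T, U)) :
    (T.homOfLE h).appTop.hom (toGlobal U r) = toGlobal V (T.presheaf.map (homOfLE h).op r) := by
  rw [toGlobal_eq, toGlobal_eq]
  have hU : (⊤ : U.toScheme.Opens) ≤ U.ι ⁻¹ᵁ U := by rw [Scheme.Opens.ι_preimage_self]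
  have hV : (⊤ : V.toScheme.Opens) ≤ V.ι ⁻¹ᵁ V := by rw [Scheme.Opens.ι_preimage_self]
  have key : ∀ {q : V.toScheme ⟶ T} (_ : q = V.ι) (e : (⊤ : V.toScheme.Opens) ≤ q ⁻¹ᵁ U)
      (e' : (⊤ : V.toScheme.Opens) ≤ V.ι ⁻¹ᵁ V),
      q.appLE U ⊤ e = T.presheaf.map (homOfLE h).op ≫ V.ι.appLE V ⊤ e' := by
    rintro q rfl e e'
    rw [Scheme.Hom.map_appLE]
  have h1 : U.ι.appLE U ⊤ hU ≫ (T.homOfLE h).appLE ⊤ ⊤ le_top =
      T.presheaf.map (homOfLE h).op ≫ V.ι.appLE V ⊤ hV := by
    rw [Scheme.Hom.appLE_comp_appLE]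
    exact key (T.homOfLE_ι h) _ _
  have h2 : (T.homOfLE h).appTop = (T.homOfLE h).appLE ⊤ ⊤ le_top := by
    rw [Scheme.Hom.appTop, Scheme.Hom.app_eq_appLE]
    rfl
  rw [h2]
  exact congr($(h1).hom r)

/-- The presheaf of abelian groups of sections. -/
noncomputable def secPresheaf : T.Opensᵒᵖ ⥤ AddCommGrpCat.{u} where
  obj U := AddCommGrpCat.of (D.Sec U.unop)
  map {U V} i := AddCommGrpCat.ofHom
    ((shr D (V.unop)).symm.toAddMonoidHom.comp
      ((restr (T.homOfLE i.unop.le) (T.homOfLE_ι _)).comp (shr D (U.unop)).toAddMonoidHom))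
  map_id U := by
    refine AddCommGrpCat.ext fun x => ?_
    apply (shr D _).injective
    refine ((shr D _).apply_symm_apply _).trans (fam_ext fun l c hc => ?_)
    show (shr D U.unop x).1 l ⟨c ≫ T.homOfLE _, _⟩ = (shr D U.unop x).1 l ⟨c, hc⟩
    exact fam_congr _ (by rw [← cancel_mono U.unop.ι, Category.assoc, T.homOfLE_ι]) _ _
  map_comp {U V W} i j := by
    refine AddCommGrpCat.ext fun x => ?_
    apply (shr D _).injective
    refine ((shr D _).apply_symm_apply _).trans (Eq.trans ?_ ((shr D _).apply_symm_apply _).symm)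
    refine fam_ext fun l c hc => ?_
    show (shr D U.unop x).1 l ⟨c ≫ T.homOfLE _, _⟩ =
      (shr D V.unop ((shr D V.unop).symm (restr (T.homOfLE i.unop.le) (T.homOfLE_ι _) (shr D U.unop x)))).1 l ⟨c ≫ T.homOfLE _, _⟩
    rw [AddEquiv.apply_symm_apply]
    show (shr D U.unop x).1 l ⟨c ≫ T.homOfLE _, _⟩ = (shr D U.unop x).1 l ⟨(c ≫ T.homOfLE _) ≫ T.homOfLE _, _⟩
    exact fam_congr _ (by rw [← cancel_mono U.unop.ι]; simp only [Category.assoc, T.homOfLE_ι]) _ _

theorem secPresheaf_map_apply {U V : T.Opens} (h : V ≤ U) (x : D.Sec U) :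
    shr D _ ((secPresheaf D).map (homOfLE h).op x) =
      restr (T.homOfLE h) (T.homOfLE_ι _) (shr D (U) x) :=
  (shr D (V)).apply_symm_apply _

noncomputable instance (U : T.Opensᵒᵖ) : Module ((T.ringCatSheaf.obj).obj U) ((secPresheaf D).obj U) :=
  inferInstanceAs (Module Γ(T, U.unop) (D.Sec U.unop))

theorem secPresheaf_map_smul {U V : T.Opensᵒᵖ} (i : U ⟶ V) (r : (T.ringCatSheaf.obj).obj U)
    (x : (secPresheaf D).obj U) :
    (secPresheaf D).map i (r • x) = (T.ringCatSheaf.obj).map i r • (secPresheaf D).map i x := by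
  obtain ⟨U⟩ := U
  obtain ⟨V⟩ := V
  have hi : i = (homOfLE i.unop.le).op := Quiver.Hom.unop_inj (Subsingleton.elim _ _)
  rw [hi]
  have hs : ∀ {O : T.Opens} (r : Γ(T, O)) (x : D.Sec O),
      shr D (O) (r • x) = toGlobal O r • shr D (O) x :=
    fun {O} r x => (Shrink.linearEquiv Γ(T, O) (D.Fam O.ι)).map_smul r x
  apply (shr D (V)).injective
  refine (secPresheaf_map_apply D _ (show D.Sec U from r • x)).trans
    (Eq.trans ?_ (hs (T.presheaf.map (homOfLE i.unop.le).op r) _).symm)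
  rw [secPresheaf_map_apply, ← homOfLE_toGlobal, ← isSL_restr]
  exact congrArg _ (hs (show Γ(T, U) from r) x)

theorem isSheaf_secPresheaf : TopCat.Presheaf.IsSheaf (C := AddCommGrpCat.{u}) (X := T.carrier) (secPresheaf D) := by
  rw [TopCat.Presheaf.isSheaf_iff_isSheafUniqueGluing]
  intro I U sf hsf
  change I → T.Opens at U
  let f : ∀ i, D.Fam (U i).ι := fun i => shr D _ (sf i)
  have hagree : ∀ (d : D.Obj) (i j : I) (ci : D.Z d ⟶ (U i).toScheme) (cj : D.Z d ⟶ (U j).toScheme)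
      (hi : ci ≫ (U i).ι = D.b d) (hj : cj ≫ (U j).ι = D.b d), (f i).1 d ⟨ci, hi⟩ = (f j).1 d ⟨cj, hj⟩ := by
    intro d i j ci cj hi hj
    have hr : Set.range (D.b d) ⊆ Set.range (U i ⊓ U j).ι := by
      rintro _ ⟨z, rfl⟩
      rw [Scheme.Opens.range_ι]
      refine ⟨?_, ?_⟩
      · rw [← hi, Scheme.Hom.comp_apply]; exact (ci z).2
      · rw [← hj, Scheme.Hom.comp_apply]; exact (cj z).2
    let c0 := IsOpenImmersion.lift (U i ⊓ U j).ι (D.b d) hr
    have e : restr (T.homOfLE (inf_le_left : U i ⊓ U j ≤ U i)) (T.homOfLE_ι _) (f i) =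
        restr (T.homOfLE (inf_le_right : U i ⊓ U j ≤ U j)) (T.homOfLE_ι _) (f j) :=
      (secPresheaf_map_apply D inf_le_left (sf i)).symm.trans
        ((congrArg (shr D _) (hsf i j)).trans (secPresheaf_map_apply D inf_le_right (sf j)))
    have e' := congrArg (fun s : D.Fam (U i ⊓ U j).ι => s.1 d ⟨c0, IsOpenImmersion.lift_fac _ _ hr⟩) e
    have e'' : (f i).1 d ⟨c0 ≫ T.homOfLE inf_le_left, by simp [c0, IsOpenImmersion.lift_fac]⟩ =
        (f j).1 d ⟨c0 ≫ T.homOfLE inf_le_right, by simp [c0, IsOpenImmersion.lift_fac]⟩ := e'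
    refine (fam_congr (f i) ?_ _ _).trans (e''.trans (fam_congr (f j) ?_ _ _))
    · rw [← cancel_mono (U i).ι, Category.assoc, T.homOfLE_ι, IsOpenImmersion.lift_fac, hi]
    · rw [← cancel_mono (U j).ι, Category.assoc, T.homOfLE_ι, IsOpenImmersion.lift_fac, hj]
  have key : ∀ (l : D.Obj) (c : D.Z l ⟶ (iSup U).toScheme) (_ : c ≫ (iSup U).ι = D.b l), ∃ x : D.M l,
      ∀ (d : D.Obj) (g : D.Z d ⟶ D.Z l) (hg : D.Rel g) (i : I) (c' : D.Z d ⟶ (U i).toScheme)
        (hc' : c' ≫ (U i).ι = D.b d), D.res g hg x = (f i).1 d ⟨c', hc'⟩ := by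
    intro l c hc
    obtain ⟨J, _, C, i, hi⟩ := exists_zarCov (D := D) l (fun i => D.b l ⁻¹ᵁ U i) (fun z => by
      have hz : D.b l z ∈ iSup U := by rw [← hc, Scheme.Hom.comp_apply]; exact (c z).2
      obtain ⟨i, hi⟩ := Opens.mem_iSup.1 hz
      exact ⟨i, hi⟩)
    have hr : ∀ a, Set.range (D.b (C.E a)) ⊆ Set.range (U (i a)).ι := by
      rintro a _ ⟨z, rfl⟩
      rw [Scheme.Opens.range_ι, ← D.rel_over (C.rel a), Scheme.Hom.comp_apply]
      exact hi a z
    let ca := fun a => IsOpenImmersion.lift (U (i a)).ι (D.b (C.E a)) (hr a)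
    obtain ⟨x, hx⟩ := C.exists_glue (fun a => (f (i a)).1 (C.E a) ⟨ca a, IsOpenImmersion.lift_fac _ _ _⟩)
      fun a a' d q q' hq hq' _ => by
        rw [(f (i a)).2 q hq, (f (i a')).2 q' hq']
        exact hagree d _ _ _ _ _ _
    refine ⟨x, fun d g hg j c' hc' => ?_⟩
    obtain ⟨F, hF⟩ := C.exists_pullback g hg
    refine F.eq_of_res fun a => ?_
    obtain ⟨r, hr, hre⟩ := hF a
    rw [D.res_res_eq (F.rel a) hg hr (C.rel a) hre.symm, hx, (f (i a)).2 r hr, (f j).2 _ (F.rel a)]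
    exact hagree _ _ _ _ _ _ _
  choose x hx using key
  let s : D.Fam (iSup U).ι := ⟨fun l c => x l c.1 c.2, fun l' l g hg c hc => by
    obtain ⟨J, _, C, i, hi⟩ := exists_zarCov (D := D) l' (fun i => D.b l' ⁻¹ᵁ U i) (fun z => by
      have hz : D.b l' z ∈ iSup U := by
        rw [← D.rel_over hg, ← hc, Scheme.Hom.comp_apply, Scheme.Hom.comp_apply]; exact (c (g z)).2
      obtain ⟨i, hi⟩ := Opens.mem_iSup.1 hz
      exact ⟨i, hi⟩)
    refine C.eq_of_res fun a => ?_
    have hr : Set.range (D.b (C.E a)) ⊆ Set.range (U (i a)).ι := by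
      rintro _ ⟨z, rfl⟩
      rw [Scheme.Opens.range_ι, ← D.rel_over (C.rel a), Scheme.Hom.comp_apply]
      exact hi a z
    rw [← D.res_comp, hx l c hc _ _ _ (i a) (IsOpenImmersion.lift _ _ hr) (IsOpenImmersion.lift_fac _ _ _),
      hx l' (g ≫ c) _ _ _ (C.rel a) (i a) (IsOpenImmersion.lift _ _ hr) (IsOpenImmersion.lift_fac _ _ _)]⟩
  refine ⟨(shr D _).symm s, fun i => (shr D ((U i))).injective ?_, fun t ht => ?_⟩
  · refine (secPresheaf_map_apply D (le_iSup U i) _).trans (fam_ext fun l c hc => ?_)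
    rw [AddEquiv.apply_symm_apply]
    have h1 := hx l (c ≫ T.homOfLE (le_iSup U i)) (by simp [hc]) l (𝟙 _) (D.rel_id l) i c hc
    rw [D.res_id] at h1
    exact h1
  · apply (shr D _).injective
    rw [AddEquiv.apply_symm_apply]
    refine fam_ext fun l c hc => ?_
    obtain ⟨J, _, C, i, hi⟩ := exists_zarCov (D := D) l (fun i => D.b l ⁻¹ᵁ U i) (fun z => by
      have hz : D.b l z ∈ iSup U := by rw [← hc, Scheme.Hom.comp_apply]; exact (c z).2
      obtain ⟨i, hi⟩ := Opens.mem_iSup.1 hz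
      exact ⟨i, hi⟩)
    refine C.eq_of_res fun a => ?_
    have hr : Set.range (D.b (C.E a)) ⊆ Set.range (U (i a)).ι := by
      rintro _ ⟨z, rfl⟩
      rw [Scheme.Opens.range_ι, ← D.rel_over (C.rel a), Scheme.Hom.comp_apply]
      exact hi a z
    let c' := IsOpenImmersion.lift (U (i a)).ι (D.b (C.E a)) hr
    have e := congrArg (fun s : D.Fam (U (i a)).ι => s.1 (C.E a) ⟨c', IsOpenImmersion.lift_fac _ _ _⟩)
      ((secPresheaf_map_apply D (le_iSup U (i a)) t).symm.trans (congrArg (shr D _) (ht (i a))))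
    rw [(shr D (iSup U) t).2 _ (C.rel a),
      hx l c hc _ _ (C.rel a) (i a) c' (IsOpenImmersion.lift_fac _ _ _)]
    refine Eq.trans (fam_congr _ ?_ _ _) e
    rw [← cancel_mono (iSup U).ι, Category.assoc, Category.assoc, T.homOfLE_ι, IsOpenImmersion.lift_fac, hc,
      D.rel_over (C.rel a)]

/-- The descended module. -/
noncomputable def descMod : T.Modules :=
  ⟨PresheafOfModules.ofPresheaf (R := T.ringCatSheaf.obj) (secPresheaf D)
    (fun _ _ i r x => secPresheaf_map_smul D i r x), isSheaf_secPresheaf D⟩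

/-- The sections of the descended module are the compatible families. -/
noncomputable def secEquiv (U : T.Opens) : Γ(descMod D, U) ≃ₗ[Γ(T, U)] D.Fam U.ι :=
  Shrink.linearEquiv Γ(T, U) (D.Fam U.ι)

theorem secEquiv_res {U V : T.Opens} (h : V ≤ U) (x : Γ(descMod D, U)) :
    secEquiv D V ((descMod D).presheaf.map (homOfLE h).op x) =
      restr (T.homOfLE h) (T.homOfLE_ι _) (secEquiv D U x) :=
  secPresheaf_map_apply D h x

theorem bijective_toGlobal (U : T.Opens) : Function.Bijective (toGlobal U) :=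
  ConcreteCategory.bijective_of_isIso U.topIso.inv

theorem isQuasicoherent_descMod : (descMod D).IsQuasicoherent := by
  refine isQCoh_of_forall_exists_localizes fun x => ?_
  obtain ⟨V, hV, hxV, -⟩ := exists_isAffineOpen_mem_and_subset (X := T) (x := x) (U := ⊤) trivial
  refine ⟨V, hV, hxV, fun f => ?_⟩
  have : IsAffine V.toScheme := hV
  have : IsAffine (T.basicOpen f).toScheme := hV.basicOpen f
  obtain ⟨n, ⟨K⟩⟩ := exists_wcov (D := D) hV
  let ψ := T.presheaf.map (homOfLE (T.basicOpen_le f)).op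
  let g := ((descMod D).presheaf.map (homOfLE (T.basicOpen_le f)).op).hom
  have hbc : IsBC ψ.hom g := by
    have hR : IsBC (T.homOfLE (T.basicOpen_le f)).appTop.hom (restr (D := D) (T.homOfLE (T.basicOpen_le f)) (T.homOfLE_ι _)) :=
      K.isBC_restr _ _
    have h1 : IsBC (toGlobal V) (secEquiv D V).toAddEquiv.toAddMonoidHom :=
      isBC_of_bijective (bijective_toGlobal V) (fun r s => (secEquiv D V).map_smul r s) (secEquiv D V).bijective
    have h2 : IsBC (T.basicOpen f).topIso.hom.hom (secEquiv D (T.basicOpen f)).symm.toAddEquiv.toAddMonoidHom :=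
      isBC_of_bijective (ConcreteCategory.bijective_of_isIso _) (fun r s => by
        apply (secEquiv D _).injective
        refine ((secEquiv D _).apply_symm_apply _).trans (Eq.trans ?_ ((secEquiv D _).map_smul _ _).symm)
        show r • s = toGlobal _ ((T.basicOpen f).topIso.hom.hom r) • secEquiv D _ ((secEquiv D _).symm s)
        rw [show toGlobal _ ((T.basicOpen f).topIso.hom.hom r) = r from
          congr($((T.basicOpen f).topIso.hom_inv_id).hom r)]
        exact congrArg (r • ·) ((secEquiv D _).apply_symm_apply s).symm) (secEquiv D _).symm.bijective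
    refine ((h1.comp hR).comp h2).congr ?_ ?_
    · ext r
      show (T.basicOpen f).topIso.hom.hom ((T.homOfLE (T.basicOpen_le f)).appTop.hom (toGlobal V r)) = ψ.hom r
      rw [homOfLE_toGlobal]
      exact congr($((T.basicOpen f).topIso.inv_hom_id).hom _)
    · ext s
      show (secEquiv D _).symm (restr (T.homOfLE (T.basicOpen_le f)) (T.homOfLE_ι _) (secEquiv D V s)) = g s
      rw [← secEquiv_res, LinearEquiv.symm_apply_apply]
  let := ψ.hom.toAlgebra
  obtain ⟨hg, hb⟩ := (isBC_iff rfl).1 hbc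
  have : IsLocalization.Away f Γ(T, T.basicOpen f) := hV.isLocalization_basicOpen f
  have hloc : IsLocalizedModule (Submonoid.powers f) (TensorProduct.mk Γ(T, V) Γ(T, T.basicOpen f) Γ(descMod D, V) 1) :=
    (isLocalizedModule_iff_isBaseChange (Submonoid.powers f) Γ(T, T.basicOpen f) _).2 (TensorProduct.isBaseChange _ _ _)
  have hpow : ∀ (n : ℕ) (s : Γ(descMod D, T.basicOpen f)), Groth.Agent.Lib.QCoh.Localizing.resR (T.basicOpen_le f) f ^ n • s = ψ.hom (f ^ n) • s :=
    fun n s => by rw [map_pow]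
  refine ⟨fun s => ?_, fun t ht => ?_⟩
  · obtain ⟨z, rfl⟩ := hb.surjective s
    obtain ⟨⟨m, ⟨_, k, rfl⟩⟩, hk⟩ := IsLocalizedModule.surj (Submonoid.powers f)
      (TensorProduct.mk Γ(T, V) Γ(T, T.basicOpen f) Γ(descMod D, V) 1) z
    refine ⟨k, m, ?_⟩
    rw [hpow, ← bcMap_smul]
    have : ψ.hom (f ^ k) • z = (1 : Γ(T, T.basicOpen f)) ⊗ₜ[Γ(T, V)] m := by
      exact (algebraMap_smul Γ(T, T.basicOpen f) (f ^ k) z).trans hk
    rw [this, bcMap_tmul, one_smul]
  · have h0 : (1 : Γ(T, T.basicOpen f)) ⊗ₜ[Γ(T, V)] t = 0 := hb.injective (by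
      rw [map_zero, bcMap_tmul, one_smul]
      exact ht)
    obtain ⟨⟨_, k, rfl⟩, hk⟩ := (IsLocalizedModule.eq_zero_iff (Submonoid.powers f)
      (TensorProduct.mk Γ(T, V) Γ(T, T.basicOpen f) Γ(descMod D, V) 1)).1 h0
    exact ⟨k, hk⟩

end Datum

end Groth.Agent.H14.ModDesc
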