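import Groth.Agent.H14.ModDesc.Scalar

/-!
A gerbe with a section: twisted modules and modules on the base.
-/

set_option autoImplicit false
set_option backward.isDefEq.respectTransparency false
set_option backward.isDefEq.respectTransparency.types false
set_option linter.style.haveILetI false

universe u

open CategoryTheory CategoryTheory.Limits AlgebraicGeometry Opposite TopologicalSpace
open StMod (sch bmap)
open TwSh (scalarEnd resTop)
open Groth.Agent.Lib.AlgStack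

namespace Groth.Agent.H14.ModDesc.Triv

variable {S : Scheme.{u}} {X : Over S} {𝒳 : AlgSt.Cat S} (π : 𝒳 ⥤ᵇ AlgSt.ofSch X) (σ : AlgSt.ofSch X ⥤ᵇ 𝒳)

/-- The equality of bases of an object and of the section at its image. -/
theorem base_eq (x : 𝒳.obj) : 𝒳.p.obj x = 𝒳.p.obj (σ.obj (π.obj x)) :=
  ((σ.w_obj (π.obj x)).trans (π.w_obj x)).symm

/-- The objects isomorphic to the section. -/
def IsTriv : ObjectProperty 𝒳.obj := fun x =>
  Nonempty {β : x ⟶ σ.obj (π.obj x) // 𝒳.p.map β = eqToHom (base_eq π σ x)}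

/-- The category of objects isomorphic to the section. -/
def cat : AlgSt.Cat S where
  obj := (IsTriv π σ).FullSubcategory
  p := (IsTriv π σ).ι ⋙ 𝒳.p

/-- The inclusion. -/
def incl : cat π σ ⥤ᵇ 𝒳 where
  toFunctor := (IsTriv π σ).ι
  w := rfl

/-- A chosen comparison with the section. -/
noncomputable def beta (x : (cat π σ).obj) : x.obj ⟶ σ.obj (π.obj x.obj) := x.property.some.1

theorem map_beta (x : (cat π σ).obj) : 𝒳.p.map (beta π σ x) = eqToHom (base_eq π σ x.obj) := x.property.some.2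

theorem map_comp_eq {x' x : 𝒳.obj} (φ : x' ⟶ x) :
    𝒳.p.map (σ.map (π.map φ)) = eqToHom (base_eq π σ x').symm ≫ 𝒳.p.map φ ≫ eqToHom (base_eq π σ x) := by
  haveI : 𝒳.p.IsHomLift (𝒳.p.map φ) φ := IsHomLift.map 𝒳.p φ
  haveI := BasedFunctor.preserves_isHomLift π (𝒳.p.map φ) φ
  haveI := BasedFunctor.preserves_isHomLift σ (𝒳.p.map φ) (π.map φ)
  exact IsHomLift.fac' 𝒳.p (𝒳.p.map φ) (σ.map (π.map φ))

variable {π σ}

section Basic

variable (hfib : FibCat.IsFibGrpd 𝒳.p)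

include hfib

theorem triv_of_hom {x' x : 𝒳.obj} (φ : x' ⟶ x) (hx : IsTriv π σ x) : IsTriv π σ x' := by
  obtain ⟨⟨β, hβ⟩⟩ := hx
  have : 𝒳.p.IsHomLift (eqToHom (base_eq π σ x') ≫ 𝒳.p.map (σ.map (π.map φ))) (φ ≫ β) := by
    rw [map_comp_eq]
    simp only [eqToHom_trans_assoc, eqToHom_refl, Category.id_comp]
    rw [← hβ, ← Functor.map_comp]
    exact IsHomLift.map 𝒳.p (φ ≫ β)
  obtain ⟨β', hβ', -⟩ := BasedBasic.exists_lift_through hfib (σ.map (π.map φ)) (φ ≫ β) (eqToHom (base_eq π σ x'))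
  exact ⟨⟨β', by simpa using IsHomLift.fac' 𝒳.p (eqToHom (base_eq π σ x')) β'⟩⟩

theorem isFibGrpd_cat : FibCat.IsFibGrpd (cat π σ).p where
  exists_lift := fun {x} {V} f => by
    obtain ⟨x', φ, hφ⟩ := hfib.exists_lift f
    refine ⟨⟨x', triv_of_hom hfib φ x.property⟩, ObjectProperty.homMk φ, ?_⟩
    have := hφ
    exact IsHomLift.of_fac' (cat π σ).p f _ (IsHomLift.domain_eq 𝒳.p f φ) rfl (IsHomLift.fac' 𝒳.p f φ)
  isStronglyCartesian := fun {y x} φ =>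
    { toIsHomLift := IsHomLift.map (cat π σ).p φ
      universal_property' := fun {z} g φ' hφ' => by
        haveI := hfib.isStronglyCartesian φ.hom
        haveI : 𝒳.p.IsHomLift (g ≫ 𝒳.p.map φ.hom) φ'.hom :=
          IsHomLift.of_fac' 𝒳.p _ _ rfl rfl (IsHomLift.fac' (cat π σ).p (g ≫ (cat π σ).p.map φ) φ')
        refine ⟨ObjectProperty.homMk (Functor.IsStronglyCartesian.map 𝒳.p (𝒳.p.map φ.hom) φ.hom (g := g) rfl φ'.hom),
          ⟨?_, ?_⟩, ?_⟩
        · exact IsHomLift.of_fac' (cat π σ).p g _ rfl rfl (IsHomLift.fac' 𝒳.p g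
            (Functor.IsStronglyCartesian.map 𝒳.p (𝒳.p.map φ.hom) φ.hom (g := g) rfl φ'.hom))
        · apply ObjectProperty.hom_ext
          exact Functor.IsStronglyCartesian.fac 𝒳.p (𝒳.p.map φ.hom) φ.hom rfl φ'.hom
        · rintro χ ⟨hχ, hχe⟩
          apply ObjectProperty.hom_ext
          haveI : 𝒳.p.IsHomLift g χ.hom := IsHomLift.of_fac' 𝒳.p _ _ rfl rfl (IsHomLift.fac' (cat π σ).p g χ)
          exact Functor.IsStronglyCartesian.map_uniq 𝒳.p (𝒳.p.map φ.hom) φ.hom rfl φ'.hom χ.hom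
            (congrArg (fun k => k.hom) hχe) }

variable {A : (Over S)ᵒᵖ ⥤ GrpCat.{u}} {ι : TwSh.BandHom 𝒳 A}
  (hπ : TwSh.IsBandedGerbe (QuotSh.J Scheme.fppfPrecoverage S) π ι) (e : BasedFunctor.comp σ π ≅ BasedFunctor.id (AlgSt.ofSch X))


include hπ e

theorem map_eInv (z : (AlgSt.ofSch X).obj) :
    ∃ b : z ⟶ π.obj (σ.obj z), (AlgSt.ofSch X).p.IsHomLift (𝟙 ((AlgSt.ofSch X).p.obj z)) b :=
  ⟨e.inv.app z, e.inv.isHomLift rfl⟩

theorem locSurjObj_incl : Gerb.LocSurjObj (QuotSh.J Scheme.fppfPrecoverage S) (incl π σ) := by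
  intro x
  obtain ⟨b, hb⟩ := map_eInv hfib hπ e (π.obj x)
  have hb' : (AlgSt.ofSch X).p.IsHomLift (𝟙 (𝒳.p.obj x)) b :=
    IsHomLift.of_fac' _ _ _ (π.w_obj x) ((π.w_obj _).trans (base_eq π σ x).symm) (by
      rw [IsHomLift.fac' (AlgSt.ofSch X).p (𝟙 ((AlgSt.ofSch X).p.obj (π.obj x))) b]
      simp)
  obtain ⟨R, hR, hlift⟩ := hπ.1.2 x (σ.obj (π.obj x)) b hb'
  refine ⟨R, hR, fun V f hf => ?_⟩
  obtain ⟨x₀, φ, ψ, hφ, hψ, -⟩ := hlift f hf
  have hd : 𝒳.p.obj x₀ = V := IsHomLift.domain_eq 𝒳.p f φ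
  have h₁ : 𝒳.p.map φ = eqToHom hd ≫ f := by simpa using IsHomLift.fac' 𝒳.p f φ
  have h₂ : 𝒳.p.map ψ = eqToHom hd ≫ f ≫ eqToHom (base_eq π σ x) := by
    simpa using IsHomLift.fac' 𝒳.p f ψ
  have : 𝒳.p.IsHomLift (eqToHom (base_eq π σ x₀) ≫ 𝒳.p.map (σ.map (π.map φ))) ψ := by
    rw [map_comp_eq, h₁]
    simp only [eqToHom_trans_assoc, eqToHom_refl, Category.id_comp, Category.assoc]
    rw [← h₂]
    exact IsHomLift.map 𝒳.p ψ
  obtain ⟨β', hβ', -⟩ := BasedBasic.exists_lift_through hfib (σ.map (π.map φ)) ψ (eqToHom (base_eq π σ x₀))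
  refine ⟨⟨x₀, ⟨⟨β', by simpa using IsHomLift.fac' 𝒳.p (eqToHom (base_eq π σ x₀)) β'⟩⟩⟩, φ, hφ⟩

theorem locSurjHom_incl : Gerb.LocSurjHom (QuotSh.J Scheme.fppfPrecoverage S) (incl π σ) := by
  intro x x' b hb
  refine ⟨⊤, GrothendieckTopology.top_mem _ _, fun V f _ => ?_⟩
  obtain ⟨x₀, φ, hφ⟩ := (isFibGrpd_cat (π := π) (σ := σ) hfib).exists_lift f
  let b' : x ⟶ x' := ObjectProperty.homMk b
  haveI := hφ
  haveI : (cat π σ).p.IsHomLift (𝟙 ((cat π σ).p.obj x)) b' :=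
    IsHomLift.of_fac' _ _ _ rfl (IsHomLift.codomain_eq 𝒳.p (𝟙 ((cat π σ).p.obj x)) b)
      (IsHomLift.fac' 𝒳.p (𝟙 ((cat π σ).p.obj x)) b)
  refine ⟨x₀, φ, φ ≫ b', hφ, ?_, rfl⟩
  simpa using (inferInstance : (cat π σ).p.IsHomLift (f ≫ 𝟙 _) (φ ≫ b'))

theorem hyp_incl (F₀ : StMod.QCoh (cat π σ)) : Hyp (incl π σ) F₀ where
  fibX := isFibGrpd_cat hfib
  fibY := hfib
  locObj := locSurjObj_incl hfib hπ e
  locHom := locSurjHom_incl hfib hπ e
  dep φ φ' _ h s := by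
    have : φ = φ' := ObjectProperty.hom_ext _ h
    rw [this]

theorem hyp_proj (M : StMod.QCoh (AlgSt.ofSch X)) :
    Hyp (BasedFunctor.comp (incl π σ) π) ((StMod.comapQ (BasedFunctor.comp (incl π σ) π)).obj M) where
  fibX := isFibGrpd_cat hfib
  fibY := Stk.isFibGrpd_ofPsh _
  locObj := fun z => ⟨⊤, GrothendieckTopology.top_mem _ _, fun V f _ => by
    obtain ⟨z', g, hg⟩ := (Stk.isFibGrpd_ofPsh ((AlgSp.yon S).obj X).obj).exists_lift f
    have hσb : 𝒳.p.obj (σ.obj z') = 𝒳.p.obj (σ.obj (π.obj (σ.obj z'))) := base_eq π σ (σ.obj z')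
    obtain ⟨b, hb⟩ := map_eInv hfib hπ e z'
    haveI := hb
    haveI := BasedFunctor.preserves_isHomLift σ (𝟙 ((AlgSt.ofSch X).p.obj z')) b
    let x : (cat π σ).obj := ⟨σ.obj z', ⟨⟨σ.map b, by
      rw [IsHomLift.fac' 𝒳.p (𝟙 ((AlgSt.ofSch X).p.obj z')) (σ.map b)]
      simp⟩⟩⟩
    haveI : (AlgSt.ofSch X).p.IsHomLift (𝟙 ((AlgSt.ofSch X).p.obj z')) (e.hom.app z') := e.hom.isHomLift rfl
    haveI := hg
    have hd : (AlgSt.ofSch X).p.obj z' = V := IsHomLift.domain_eq (AlgSt.ofSch X).p f g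
    refine ⟨x, e.hom.app z' ≫ g, ?_⟩
    subst hd
    simpa using (inferInstance : (AlgSt.ofSch X).p.IsHomLift (𝟙 ((AlgSt.ofSch X).p.obj z') ≫ f) (e.hom.app z' ≫ g))⟩
  locHom := fun x x' b hb => by
    have hπb : (AlgSt.ofSch X).p.IsHomLift (𝟙 (𝒳.p.obj x.obj)) b := hb
    obtain ⟨R, hR, hlift⟩ := hπ.1.2 x.obj x'.obj b hπb
    refine ⟨R, hR, fun V f hf => ?_⟩
    obtain ⟨x₀, φ, ψ, hφ, hψ, hφψ⟩ := hlift f hf
    haveI := hφ
    haveI := hψ
    exact ⟨⟨x₀, triv_of_hom hfib φ x.property⟩, ObjectProperty.homMk φ, ObjectProperty.homMk ψ,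
      IsHomLift.of_fac' _ _ _ (IsHomLift.domain_eq 𝒳.p f φ) rfl (IsHomLift.fac' 𝒳.p f φ),
      IsHomLift.of_fac' _ _ _ (IsHomLift.domain_eq 𝒳.p f ψ) (IsHomLift.codomain_eq 𝒳.p f ψ) (IsHomLift.fac' 𝒳.p f ψ), hφψ⟩
  dep φ φ' _ h s := by
    obtain ⟨t, rfl⟩ := (castTop_bijective (StMod.sch_obj_eq (BasedFunctor.comp (incl π σ) π) _) _).surjective s
    show (StMod.Mod.comap _ M.obj).mapTop φ _ = (StMod.Mod.comap _ M.obj).mapTop φ' _
    refine (mapTop_comap (BasedFunctor.comp (incl π σ) π) M.obj φ t).trans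
      (Eq.trans ?_ (mapTop_comap (BasedFunctor.comp (incl π σ) π) M.obj φ' t).symm)
    exact congrArg (fun k => castTop _ _ (M.obj.mapTop k t)) h

omit e

theorem exists_disc {x' x : (cat π σ).obj} (φ : x' ⟶ x) : ∃ t : A.obj (op (𝒳.p.obj x'.obj)),
    (ι.hom x'.obj t).hom.1 ≫ φ.hom ≫ beta π σ x = beta π σ x' ≫ σ.map (π.map φ.hom) := by
  have hbase : 𝒳.p.map (beta π σ x' ≫ σ.map (π.map φ.hom)) = 𝒳.p.map (φ.hom ≫ beta π σ x) := by
    rw [Functor.map_comp, Functor.map_comp, map_beta, map_beta, map_comp_eq]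
    simp
  haveI : 𝒳.p.IsHomLift (𝟙 (𝒳.p.obj x'.obj) ≫ 𝒳.p.map (φ.hom ≫ beta π σ x))
      (beta π σ x' ≫ σ.map (π.map φ.hom)) := by
    rw [Category.id_comp, ← hbase]
    exact IsHomLift.map 𝒳.p _
  obtain ⟨a, ha, hae⟩ := BasedBasic.exists_lift_through hfib (φ.hom ≫ beta π σ x)
    (beta π σ x' ≫ σ.map (π.map φ.hom)) (𝟙 (𝒳.p.obj x'.obj))
  have hpa : 𝒳.p.map a = 𝟙 _ := by simpa using IsHomLift.fac' 𝒳.p (𝟙 (𝒳.p.obj x'.obj)) a
  let α := autOfVertical hfib a hpa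
  have hker : α ∈ (Gerb.autMap π x'.obj).ker := by
    rw [MonoidHom.mem_ker]
    apply Aut.ext
    apply Functor.Fiber.hom_ext
    apply Stk.EltObj.hom_ext
    show (AlgSt.ofSch X).p.map (π.map a) = 𝟙 _
    haveI : 𝒳.p.IsHomLift (𝒳.p.map a) a := IsHomLift.map 𝒳.p a
    haveI := BasedFunctor.preserves_isHomLift π (𝒳.p.map a) a
    have e2 : (AlgSt.ofSch X).p.map (π.map a) =
        eqToHom (π.w_obj _) ≫ 𝒳.p.map a ≫ eqToHom (π.w_obj _).symm :=
      IsHomLift.fac' (AlgSt.ofSch X).p (𝒳.p.map a) (π.map a)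
    rw [e2, hpa]
    simp
  rw [← (hπ.2 x'.obj).2] at hker
  obtain ⟨t, ht⟩ := hker
  exact ⟨t, by rw [ht]; exact hae⟩

/-- The discrepancy of the chosen comparisons along a morphism. -/
noncomputable def disc {x' x : (cat π σ).obj} (φ : x' ⟶ x) : A.obj (op (𝒳.p.obj x'.obj)) :=
  (exists_disc hfib hπ φ).choose

theorem disc_spec {x' x : (cat π σ).obj} (φ : x' ⟶ x) :
    (ι.hom x'.obj (disc hfib hπ φ)).hom.1 ≫ φ.hom ≫ beta π σ x = beta π σ x' ≫ σ.map (π.map φ.hom) :=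
  (exists_disc hfib hπ φ).choose_spec

theorem disc_eq {x' x : (cat π σ).obj} (φ : x' ⟶ x) {t : A.obj (op (𝒳.p.obj x'.obj))}
    (h : (ι.hom x'.obj t).hom.1 ≫ φ.hom ≫ beta π σ x = beta π σ x' ≫ σ.map (π.map φ.hom)) :
    disc hfib hπ φ = t := by
  refine (hπ.2 x'.obj).1 (Aut.ext (Functor.Fiber.hom_ext ?_))
  exact BasedBasic.hom_eq_of_comp_eq hfib (φ.hom ≫ beta π σ x)
    ((TwSh.map_autO_hom _ _).trans (TwSh.map_autO_hom _ _).symm) ((disc_spec hfib hπ φ).trans h.symm)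

theorem disc_id (x : (cat π σ).obj) : disc hfib hπ (𝟙 x) = 1 := by
  refine disc_eq hfib hπ _ ?_
  rw [map_one]
  show 𝟙 x.obj ≫ 𝟙 x.obj ≫ beta π σ x = _ ≫ σ.map (π.map (𝟙 x.obj))
  rw [π.toFunctor.map_id, σ.toFunctor.map_id]
  simp only [Category.id_comp]
  exact (Category.comp_id _).symm

theorem disc_comp {x'' x' x : (cat π σ).obj} (ψ : x'' ⟶ x') (φ : x' ⟶ x) :
    disc hfib hπ (ψ ≫ φ) = A.map (𝒳.p.map ψ.hom).op (disc hfib hπ φ) * disc hfib hπ ψ := by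
  refine disc_eq hfib hπ _ ?_
  rw [map_mul]
  show ((ι.hom x''.obj (disc hfib hπ ψ)).hom.1 ≫ (ι.hom x''.obj (A.map (𝒳.p.map ψ.hom).op (disc hfib hπ φ))).hom.1) ≫
    (ψ.hom ≫ φ.hom) ≫ beta π σ x = beta π σ x'' ≫ σ.map (π.map (ψ.hom ≫ φ.hom))
  rw [π.toFunctor.map_comp, σ.toFunctor.map_comp, ← reassoc_of% (disc_spec hfib hπ ψ), ← disc_spec hfib hπ φ]
  have hn := ι.natural ψ.hom (disc hfib hπ φ)
  simp only [Category.assoc]
  exact congrArg _ ((reassoc_of% hn) (φ.hom ≫ beta π σ x))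

end Basic

section Psi

variable {A : (Over S)ᵒᵖ ⥤ GrpCat.{u}} {ι : TwSh.BandHom 𝒳 A} (χ : A ⟶ TwSh.GmPsh S)
  (hfib : FibCat.IsFibGrpd 𝒳.p) (hπ : TwSh.IsBandedGerbe (QuotSh.J Scheme.fppfPrecoverage S) π ι)

/-- The unit of a morphism of trivialised objects. -/
noncomputable def unit {x' x : (cat π σ).obj} (φ : x' ⟶ x) :
    (Γ(sch 𝒳 x'.obj, ⊤))ˣ :=
  TwSh.charUnit χ x'.obj (disc hfib hπ φ)

theorem unit_comp {x'' x' x : (cat π σ).obj} (ψ : x'' ⟶ x') (φ : x' ⟶ x) :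
    (unit χ hfib hπ (ψ ≫ φ)).val = (bmap 𝒳 ψ.hom).appTop (unit χ hfib hπ φ).val * (unit χ hfib hπ ψ).val := by
  have hnu : TwSh.charUnit χ x''.obj (A.map (𝒳.p.map ψ.hom).op (disc hfib hπ φ)) =
      Units.map ((bmap 𝒳 ψ.hom).appTop.hom.toMonoidHom : Γ(sch 𝒳 x'.obj, ⊤) →* Γ(sch 𝒳 x''.obj, ⊤))
        (TwSh.charUnit χ x'.obj (disc hfib hπ φ)) :=
    congr($(χ.naturality (𝒳.p.map ψ.hom).op).hom (disc hfib hπ φ))
  unfold unit
  rw [disc_comp]
  erw [show TwSh.charUnit χ x''.obj (A.map (𝒳.p.map ψ.hom).op (disc hfib hπ φ) * disc hfib hπ ψ) =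
    TwSh.charUnit χ x''.obj (A.map (𝒳.p.map ψ.hom).op (disc hfib hπ φ)) * TwSh.charUnit χ x''.obj (disc hfib hπ ψ) from
      map_mul (χ.app (op (𝒳.p.obj x''.obj))).hom _ _]
  rw [hnu]
  rfl

theorem unit_id (x : (cat π σ).obj) : (unit χ hfib hπ (𝟙 x)).val = 1 := by
  unfold unit
  rw [disc_id]
  show ((χ.app (op (𝒳.p.obj x.obj))).hom 1).val = 1
  rw [map_one]
  rfl

theorem comp_scalarEnd {T'' T' T : Scheme.{u}} (k : T'' ⟶ T') (g : T' ⟶ T) {M : T.Modules} {M' : T'.Modules}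
    {M'' : T''.Modules} (m : M ⟶ (Scheme.Modules.pushforward g).obj M')
    (m' : M' ⟶ (Scheme.Modules.pushforward k).obj M'') (r : Γ(T', ⊤)) (r' : Γ(T'', ⊤)) :
    (m ≫ (Scheme.Modules.pushforward g).map m' ≫ (Scheme.Modules.pushforwardComp k g).hom.app M'') ≫
        (Scheme.Modules.pushforward (k ≫ g)).map (scalarEnd M'' (k.appTop r * r')) =
      (m ≫ (Scheme.Modules.pushforward g).map (scalarEnd M' r)) ≫
        (Scheme.Modules.pushforward g).map (m' ≫ (Scheme.Modules.pushforward k).map (scalarEnd M'' r')) ≫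
          (Scheme.Modules.pushforwardComp k g).hom.app M'' := by
  simp only [Category.assoc]
  refine congrArg (m ≫ ·) ?_
  rw [← (Scheme.Modules.pushforwardComp k g).hom.naturality]
  simp only [Functor.comp_map]
  rw [← Functor.map_comp_assoc, ← Functor.map_comp_assoc, ← Category.assoc (scalarEnd M' r), scalarEnd_push,
    Category.assoc, ← Functor.map_comp, scalarEnd_mul]

variable (σ)

/-- The twisted inverse image of a module on the base. -/
noncomputable def psi (M : StMod.Mod (AlgSt.ofSch X)) : StMod.Mod (cat π σ) where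
  obj x := (StMod.Mod.comap (BasedFunctor.comp (incl π σ) π) M).obj x
  map φ g hg := (StMod.Mod.comap (BasedFunctor.comp (incl π σ) π) M).map φ hg ≫
    (Scheme.Modules.pushforward g).map (scalarEnd _ (unit χ hfib hπ φ).val)
  map_id x := by
    rw [unit_id]
    erw [scalarEnd_one]
    rw [CategoryTheory.Functor.map_id, Category.comp_id]
    exact (StMod.Mod.comap (BasedFunctor.comp (incl π σ) π) M).map_id x
  map_comp := fun {x'' x' x} ψ φ h g hh hg => by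
    subst hh hg
    rw [StMod.Mod.map_comp, unit_comp]
    exact comp_scalarEnd (bmap (cat π σ) ψ) (bmap (cat π σ) φ) _ _ _ _

theorem isQCoh_psi {M : StMod.Mod (AlgSt.ofSch X)} (hM : StMod.isQCoh _ M) :
    StMod.isQCoh (cat π σ) (psi σ χ hfib hπ M) := by
  refine ⟨fun x' x φ g hg => ?_, fun x => (StMod.isQCoh_comap (f := BasedFunctor.comp (incl π σ) π) hM).2 x⟩
  haveI := (StMod.isQCoh_comap (f := BasedFunctor.comp (incl π σ) π) hM).1 φ hg
  haveI : IsIso (scalarEnd ((StMod.Mod.comap (BasedFunctor.comp (incl π σ) π) M).obj x') (unit χ hfib hπ φ).val) :=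
    isIso_scalarEnd _ _
  show IsIso (((Scheme.Modules.pullbackPushforwardAdjunction g).homEquiv _ _).symm
    ((StMod.Mod.comap (BasedFunctor.comp (incl π σ) π) M).map φ hg ≫
      (Scheme.Modules.pushforward g).map (scalarEnd _ (unit χ hfib hπ φ).val)))
  rw [Adjunction.homEquiv_naturality_right_symm]
  infer_instance

/-- The twisted inverse image of a morphism. -/
noncomputable def psiMap {M N : StMod.Mod (AlgSt.ofSch X)}
    (u : StMod.Mod.comap (BasedFunctor.comp (incl π σ) π) M ⟶ StMod.Mod.comap (BasedFunctor.comp (incl π σ) π) N) :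
    psi σ χ hfib hπ M ⟶ psi σ χ hfib hπ N where
  app := u.app
  comm := fun {x' x} φ g hg => by
    show ((StMod.Mod.comap _ M).map φ hg ≫ _) ≫ _ = u.app x ≫ (StMod.Mod.comap _ N).map φ hg ≫ _
    rw [Category.assoc, ← Functor.map_comp, scalarEnd_comm, Functor.map_comp, ← Category.assoc, u.comm,
      Category.assoc]
    rfl

/-- A morphism of twisted inverse images as a morphism of inverse images. -/
noncomputable def unPsiMap {M N : StMod.Mod (AlgSt.ofSch X)} (u : psi σ χ hfib hπ M ⟶ psi σ χ hfib hπ N) :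
    StMod.Mod.comap (BasedFunctor.comp (incl π σ) π) M ⟶ StMod.Mod.comap (BasedFunctor.comp (incl π σ) π) N where
  app := u.app
  comm := fun {x' x} φ g hg => by
    have h : ((StMod.Mod.comap _ M).map φ hg ≫ (Scheme.Modules.pushforward g).map (scalarEnd _ (unit χ hfib hπ φ).val)) ≫
        (Scheme.Modules.pushforward g).map (u.app x') = u.app x ≫ (StMod.Mod.comap _ N).map φ hg ≫
          (Scheme.Modules.pushforward g).map (scalarEnd _ (unit χ hfib hπ φ).val) := u.comm φ hg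
    haveI : IsIso (scalarEnd ((StMod.Mod.comap (BasedFunctor.comp (incl π σ) π) N).obj x') (unit χ hfib hπ φ).val) :=
      isIso_scalarEnd _ _
    rw [← cancel_mono ((Scheme.Modules.pushforward g).map
      (scalarEnd ((StMod.Mod.comap (BasedFunctor.comp (incl π σ) π) N).obj x') (unit χ hfib hπ φ).val)),
      Category.assoc, Category.assoc, ← h, Category.assoc, ← Functor.map_comp]
    erw [← scalarEnd_comm]
    rw [Functor.map_comp]


theorem psi_inert (M : StMod.Mod (AlgSt.ofSch X)) {x : (cat π σ).obj} (φ : x ⟶ x)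
    (t : A.obj (op (𝒳.p.obj x.obj))) (hφ : φ.hom = (ι.hom x.obj t).hom.1) (s : Γ((psi σ χ hfib hπ M).obj x, ⊤)) :
    (psi σ χ hfib hπ M).mapTop φ s = ((TwSh.charUnit χ x.obj t)⁻¹).val • s := by
  have hπid : π.map φ.hom = 𝟙 _ := by rw [hφ]; exact TwSh.IsBandedGerbe.map_hom_eq_id π hπ _ _
  have hd : disc hfib hπ φ = t⁻¹ := by
    refine disc_eq hfib hπ φ ?_
    rw [hπid, σ.toFunctor.map_id, hφ, map_inv]
    refine Eq.trans ?_ (Category.comp_id _).symm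
    rw [← Category.assoc]
    show ((ι.hom x.obj t).inv.1 ≫ (ι.hom x.obj t).hom.1) ≫ _ = _
    rw [show (ι.hom x.obj t).inv.1 ≫ (ι.hom x.obj t).hom.1 = 𝟙 _ from
      congrArg Subtype.val (ι.hom x.obj t).inv_hom_id]
    exact Category.id_comp _
  have hg : bmap (cat π σ) φ = 𝟙 (sch (cat π σ) x) := by
    show bmap 𝒳 φ.hom = _
    rw [hφ]
    exact TwSh.bmap_autO _ _
  show (scalarEnd _ (unit χ hfib hπ φ).val).app (bmap (cat π σ) φ ⁻¹ᵁ ⊤)
    ((StMod.Mod.comap (BasedFunctor.comp (incl π σ) π) M).mapTop φ s) = _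
  obtain ⟨m, rfl⟩ := (castTop_bijective (StMod.sch_obj_eq (BasedFunctor.comp (incl π σ) π) x) _).surjective s
  rw [mapTop_comap, show (BasedFunctor.comp (incl π σ) π).map φ = 𝟙 _ from hπid, StMod.Mod.mapTop_id]
  erw [TwSh.scalarEnd_app_apply]
  congr 1
  unfold unit
  rw [hd]
  show (sch 𝒳 x.obj).presheaf.map (homOfLE le_top).op ((χ.app (op (𝒳.p.obj x.obj))).hom t⁻¹).val = _
  rw [map_inv]
  erw [show (homOfLE (le_top : (⊤ : (sch 𝒳 x.obj).Opens) ≤ ⊤)).op = 𝟙 _ from Quiver.Hom.unop_inj (Subsingleton.elim _ _),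
    CategoryTheory.Functor.map_id]
  rfl

end Psi

end Groth.Agent.H14.ModDesc.Triv
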