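import Groth.Agent.H14.ModDesc.Cast

/-!
Inverse image along a locally surjective functor: full faithfulness and essential image.
-/

set_option autoImplicit false
set_option backward.isDefEq.respectTransparency false
set_option backward.isDefEq.respectTransparency.types false
set_option linter.style.haveILetI false

universe u

open CategoryTheory CategoryTheory.Limits AlgebraicGeometry Opposite TopologicalSpace
open StMod (sch bmap)

namespace Groth.Agent.H14.ModDesc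

variable {S : Scheme.{u}} {𝒳 𝒴 : AlgSt.Cat S} {π : 𝒳 ⥤ᵇ 𝒴}

theorem liftB_eq {y : 𝒴.obj} (l : Lift π y) :
    liftB π y l = eqToHom (StMod.sch_obj_eq π l.x).symm ≫ bmap 𝒴 l.u := by
  show (eqToHom (π.w_obj l.x).symm ≫ 𝒴.p.map l.u).left = _
  rw [Over.comp_left, Over.eqToHom_left]

theorem le_bmap {y : 𝒴.obj} {l : Lift π y} {U : (sch 𝒴 y).Opens} (h : ⊤ ≤ liftB π y l ⁻¹ᵁ U) :
    ⊤ ≤ bmap 𝒴 l.u ⁻¹ᵁ U := fun z _ => by
  have key : ∀ {A B : Scheme.{u}} (e : A = B) (w : A), (eqToHom e.symm) ((eqToHom e) w) = w := by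
    rintro A B rfl w
    rfl
  have h1 := h (x := (eqToHom (StMod.sch_obj_eq π l.x)) z) trivial
  rw [liftB_eq] at h1
  show bmap 𝒴 l.u z ∈ U
  have h2 : (bmap 𝒴 l.u) ((eqToHom (StMod.sch_obj_eq π l.x).symm) ((eqToHom (StMod.sch_obj_eq π l.x)) z)) ∈ U := h1
  rwa [key] at h2

theorem appLE_comp_top {A B C : Scheme.{u}} (f : A ⟶ B) (g : B ⟶ C) {U : C.Opens} (h : ⊤ ≤ g ⁻¹ᵁ U)
    (h' : ⊤ ≤ (f ≫ g) ⁻¹ᵁ U) :
    ((f ≫ g).appLE U ⊤ h').hom = f.appTop.hom.comp (g.appLE U ⊤ h).hom := by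
  rw [Scheme.Hom.appTop, Scheme.Hom.app_eq_appLE]
  have := Scheme.Hom.appLE_comp_appLE f g U ⊤ ⊤ h le_top
  exact congrArg CommRingCat.Hom.hom this.symm

theorem appLE_congr_hom {A B : Scheme.{u}} {p q : A ⟶ B} (hpq : p = q) {U : B.Opens}
    (h : ⊤ ≤ p ⁻¹ᵁ U) (h' : ⊤ ≤ q ⁻¹ᵁ U) : (p.appLE U ⊤ h).hom = (q.appLE U ⊤ h').hom := by
  subst hpq
  rfl

/-- The value of a section of a module on the base at a lift. -/
noncomputable def valAt (G : StMod.Mod 𝒴) {y : 𝒴.obj} (U : (sch 𝒴 y).Opens) (l : Lift π y)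
    (h : ⊤ ≤ liftB π y l ⁻¹ᵁ U) : Γ(G.obj y, U) →+ Γ((StMod.Mod.comap π G).obj l.x, ⊤) :=
  (castTop (StMod.sch_obj_eq π l.x) _).comp (mapU G l.u U (le_bmap h))

theorem isBC_valAt (G : StMod.QCoh 𝒴) {y : 𝒴.obj} {U : (sch 𝒴 y).Opens} (hU : IsAffineOpen U) (l : Lift π y)
    (h : ⊤ ≤ liftB π y l ⁻¹ᵁ U) : IsBC ((liftB π y l).appLE U ⊤ h).hom (valAt G.obj U l h) := by
  haveI : IsAffine (sch 𝒴 (π.obj l.x)) := IsAffine.of_isIso (eqToHom (StMod.sch_obj_eq π l.x))
  refine ((isBC_mapU G.property l.u hU (le_bmap h)).comp (isBC_castTop _ _)).congr ?_ rfl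
  have h' : ⊤ ≤ (eqToHom (StMod.sch_obj_eq π l.x).symm ≫ bmap 𝒴 l.u) ⁻¹ᵁ U := by rw [← liftB_eq]; exact h
  rw [appLE_congr_hom (liftB_eq l) h h']
  exact (appLE_comp_top _ _ _ h').symm

section Full

variable {G G' : StMod.QCoh 𝒴} (H : Hyp π ((StMod.comapQ π).obj G'))

/-- A module on the base maps to the direct image of an inverse image. -/
noncomputable def comapPt (u : StMod.Mod.comap π G.obj ⟶ StMod.Mod.comap π G'.obj) (y : 𝒴.obj) :
    Datum.Pt (datum π y H) (G.obj.obj y) where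
  val U l h := (((u.app l.x).app ⊤).hom).comp (valAt G.obj U l h)
  sl U l h r s := by
    show (u.app l.x).app ⊤ (valAt G.obj U l h (r • s)) = _
    have hs : valAt G.obj U l h (r • s) = ((liftB π y l).appLE U ⊤ h).hom r • valAt G.obj U l h s := by
      show castTop _ _ (mapU G.obj l.u U _ (r • s)) = _
      rw [mapU_smul, castTop_smul]
      have h' : ⊤ ≤ (eqToHom (StMod.sch_obj_eq π l.x).symm ≫ bmap 𝒴 l.u) ⁻¹ᵁ U := by rw [← liftB_eq]; exact h
      rw [appLE_congr_hom (liftB_eq l) h h', appLE_comp_top _ _ (le_bmap h) h']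
      rfl
    rw [hs, Scheme.Modules.Hom.app_smul]
    rfl
  res_open := fun {U V} i l h h' s => by
    show (u.app l.x).app ⊤ (castTop _ _ (mapU G.obj l.u V _ _)) = (u.app l.x).app ⊤ (castTop _ _ (mapU G.obj l.u U _ s))
    rw [mapU_res]
  res_lift := fun {U l' l g} hg h h' s => by
    show (StMod.Mod.comap π G'.obj).mapTop hg.choose ((u.app l.x).app ⊤ (valAt G.obj U l h s)) =
      (u.app l'.x).app ⊤ (valAt G.obj U l' h' s)
    rw [StMod.Mod.mapTop_app u hg.choose]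
    refine congrArg _ ?_
    show (StMod.Mod.comap π G.obj).mapTop hg.choose (castTop _ _ (mapU G.obj l.u U _ s)) =
      castTop _ _ (mapU G.obj l'.u U _ s)
    rw [mapTop_comap]
    refine congrArg _ ?_
    rw [mapU_comp G.obj _ _ _ _ (by rw [hg.choose_spec.2]; exact le_bmap h') s]
    exact mapU_congr G.obj hg.choose_spec.2 _ _ _ _

theorem comapPt_val (u : StMod.Mod.comap π G.obj ⟶ StMod.Mod.comap π G'.obj) (y : 𝒴.obj) (U : (sch 𝒴 y).Opens)
    (l : Lift π y) (h : ⊤ ≤ liftB π y l ⁻¹ᵁ U) (s : Γ(G.obj.obj y, U)) :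
    (comapPt H u y).val U l h s = (u.app l.x).app ⊤ (valAt G.obj U l h s) := rfl

theorem isIso_unit (y : 𝒴.obj) : IsIso (comapPt H (G := G') (𝟙 _) y).hom :=
  Datum.Pt.isIso_hom _ fun l h hU => (isBC_valAt G' hU l h).congr rfl rfl

theorem toFam_unit_eq (v : G.obj ⟶ G'.obj) (y : 𝒴.obj) (U : (sch 𝒴 y).Opens) (s : Γ(G.obj.obj y, U)) :
    (comapPt H (StMod.Mod.comapMap π v) y).toFam U s =
      (comapPt H (G := G') (𝟙 _) y).toFam U ((v.app y).app U s) := by
  refine Datum.fam_ext fun l c hc => ?_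
  show (StMod.castHom (StMod.sch_obj_eq π l.x) (v.app (π.obj l.x))).app ⊤ (castTop _ _ (mapU G.obj l.u U _ s)) =
    castTop _ _ (mapU G'.obj l.u U _ ((v.app y).app U s))
  rw [castTop_castHom, mapU_app]

/-- The descent of a morphism between inverse images. -/
noncomputable def preimageApp (u : StMod.Mod.comap π G.obj ⟶ StMod.Mod.comap π G'.obj) (y : 𝒴.obj) :
    G.obj.obj y ⟶ G'.obj.obj y :=
  have := isIso_unit H y
  (comapPt H u y).hom ≫ inv (comapPt H (G := G') (𝟙 _) y).hom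

theorem toFam_preimageApp (u : StMod.Mod.comap π G.obj ⟶ StMod.Mod.comap π G'.obj) (y : 𝒴.obj)
    (U : (sch 𝒴 y).Opens) (s : Γ(G.obj.obj y, U)) :
    (comapPt H (G := G') (𝟙 _) y).toFam U ((preimageApp H u y).app U s) = (comapPt H u y).toFam U s := by
  have := isIso_unit H y
  rw [← Datum.Pt.secEquiv_hom, ← Datum.Pt.secEquiv_hom]
  refine congrArg _ ?_
  have e : preimageApp H u y ≫ (comapPt H (G := G') (𝟙 _) y).hom = (comapPt H u y).hom := by simp [preimageApp]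
  exact congrArg (fun k : G.obj.obj y ⟶ _ => k.app U s) e

theorem toFam_injective (y : 𝒴.obj) (U : (sch 𝒴 y).Opens) :
    Function.Injective ((comapPt H (G := G') (𝟙 _) y).toFam U) := by
  have := isIso_unit H y
  intro a b e
  rw [← Datum.Pt.secEquiv_hom, ← Datum.Pt.secEquiv_hom] at e
  exact (ConcreteCategory.bijective_of_isIso ((comapPt H (G := G') (𝟙 _) y).hom.app U)).injective
    (((datum π y H).secEquiv U).injective e)

/-- The descent of a morphism between inverse images, as a morphism of modules. -/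
noncomputable def preimageHom (u : StMod.Mod.comap π G.obj ⟶ StMod.Mod.comap π G'.obj) : G.obj ⟶ G'.obj where
  app := preimageApp H u
  comm := fun {y' y} h g hg => by
    subst hg
    apply Scheme.Modules.hom_ext
    intro U
    ext s
    show (preimageApp H u y').app (bmap 𝒴 h ⁻¹ᵁ U) ((G.obj.map h rfl).app U s) =
      (G'.obj.map h rfl).app U ((preimageApp H u y).app U s)
    apply toFam_injective H y'
    rw [toFam_preimageApp]
    refine Datum.fam_ext fun l c hc => ?_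
    have hU : ⊤ ≤ liftB π y ⟨l.x, l.u ≫ h, l.aff⟩ ⁻¹ᵁ U := by
      have e : liftB π y ⟨l.x, l.u ≫ h, l.aff⟩ = liftB π y' l ≫ bmap 𝒴 h := by
        show (StMod.baseOver π l.x (l.u ≫ h)).left = _
        rw [StMod.baseOver_comp]
        rfl
      rw [e]
      exact Datum.Pt.le_preimage hc
    have key : ∀ (K : StMod.Mod 𝒴) (t : Γ(K.obj y, U)),
        valAt K (bmap 𝒴 h ⁻¹ᵁ U) l (Datum.Pt.le_preimage hc) ((K.map h rfl).app U t) =
          valAt K U ⟨l.x, l.u ≫ h, l.aff⟩ hU t := by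
      intro K t
      refine congrArg (castTop (StMod.sch_obj_eq π l.x) _) ?_
      refine Eq.trans ?_ (mapU_of_le K l.u h U (le_refl _) (le_bmap (Datum.Pt.le_preimage hc)) (le_bmap hU) t)
      show mapU K l.u _ _ _ = mapU K l.u _ _ ((K.obj y').presheaf.map (𝟙 _) _)
      rw [CategoryTheory.Functor.map_id]
      rfl
    show (u.app l.x).app ⊤ (valAt G.obj (bmap 𝒴 h ⁻¹ᵁ U) l (Datum.Pt.le_preimage hc) ((G.obj.map h rfl).app U s)) =
      valAt G'.obj (bmap 𝒴 h ⁻¹ᵁ U) l (Datum.Pt.le_preimage hc) ((G'.obj.map h rfl).app U ((preimageApp H u y).app U s))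
    rw [key, key]
    have hr : Set.range (liftB π y ⟨l.x, l.u ≫ h, l.aff⟩) ⊆ Set.range U.ι := by
      rintro _ ⟨z, rfl⟩
      rw [Scheme.Opens.range_ι]
      exact hU (x := z) trivial
    have e' := congrArg (fun f : (datum π y H).Fam U.ι =>
      f.1 ⟨l.x, l.u ≫ h, l.aff⟩ ⟨IsOpenImmersion.lift U.ι _ hr, IsOpenImmersion.lift_fac _ _ _⟩)
      (toFam_preimageApp H u y U s)
    exact e'.symm

omit H in
theorem valAt_self (K : StMod.Mod 𝒴) {x : 𝒳.obj} (l : Lift π (π.obj x)) (φ : l.x ⟶ x) (hl : π.map φ = l.u)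
    (h : ⊤ ≤ liftB π (π.obj x) l ⁻¹ᵁ ⊤) (s : Γ(K.obj (π.obj x), ⊤)) :
    valAt K ⊤ l h s = (StMod.Mod.comap π K).mapTop φ (castTop (StMod.sch_obj_eq π x) _ s) := by
  rw [mapTop_comap]
  show castTop _ _ (mapU K l.u ⊤ _ s) = castTop _ _ (K.mapTop (π.map φ) s)
  rw [mapU_congr K hl.symm ⊤ _ le_top]
  refine congrArg _ ?_
  show (K.obj (π.obj l.x)).presheaf.map (homOfLE _).op _ = _
  rw [show (homOfLE (le_top : (⊤ : (sch 𝒴 (π.obj l.x)).Opens) ≤ ⊤)).op = 𝟙 _ from Quiver.Hom.unop_inj (Subsingleton.elim _ _)]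
  erw [CategoryTheory.Functor.map_id]
  rfl

end Full

end Groth.Agent.H14.ModDesc
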